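import Mathlib
import Cfsg.Prelude.Def_Classical
import Cfsg.Agent.H936.AltBig2
import Mathlib.RingTheory.RootsOfUnity.AlgebraicallyClosed
import Cfsg.Agent.J3.Nineteen
import Cfsg.Agent.FastGrp
import Cfsg.Agent.Prune
set_option linter.all false

section
prune_inst 0x7ff0acf8cbb80ddfdfff7e7faedadffc10901fffa6dff943ffe061ef0bdf030209c5638d09e050fc1e82c01410a87803fb7eeeffea6fdc7ffffdddf41ffbee0fe5f7b508519488340fbc0ff703f0778e7f3fffffffffffffffffffffffffffbeffbfffffffff

-- part: H912/Bd1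
section
set_option linter.all false
open scoped Cfsg.Agent.FastGrp

/-!
# Weights of abelian subgroups and lower bounds for the degree of a representation

`K` algebraically closed, `ρ : L → End(V)` a representation, `A` a commutative subgroup of `L` of exponent `N`
with `N ≠ 0` in `K`. `wt ρ A χ` is the weight space of `χ : A → K`.

* `card_mul_finrank_le`: if `c ∈ A` acts non-trivially, `S` is a finite set of elements of `L` normalising `A` and for
  `s ≠ t` in `S` some `a ∈ A` has `(s a s⁻¹) (t a t⁻¹)⁻¹ = c`, then `|S| dim (wt χ) ≤ dim V` for some weight `χ` with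
  `χ(c) ≠ 1`.
-/

set_option autoImplicit false

namespace Cfsg.Agent.H912.Bd

open Module

section Rep

variable {K : Type*} [Field K] {V : Type*} [AddCommGroup V] [Module K V] {L : Type*} [Group L]

/-- The weight space of `χ : A → K`. -/
def wt (ρ : L →* Module.End K V) (A : Subgroup L) (χ : A → K) : Submodule K V :=
  ⨅ a : A, (ρ a).eigenspace (χ a)

theorem mem_wt {ρ : L →* Module.End K V} {A : Subgroup L} {χ : A → K} {v : V} :
    v ∈ wt ρ A χ ↔ ∀ a : A, ρ a v = χ a • v := by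
  simp [wt, Submodule.mem_iInf]

theorem isSemisimple_of_pow [FiniteDimensional K V] {f : Module.End K V} {N : ℕ} (hN : (N : K) ≠ 0) (hf : f ^ N = 1) :
    f.IsSemisimple := by
  have hsep : (Polynomial.X ^ N - Polynomial.C (1 : K)).Separable :=
    Polynomial.separable_X_pow_sub_C 1 hN one_ne_zero
  refine Module.End.isSemisimple_of_squarefree_aeval_eq_zero hsep.squarefree ?_
  simp [hf]

theorem maxGen_eq [FiniteDimensional K V] {f : Module.End K V} {N : ℕ} (hN : (N : K) ≠ 0) (hf : f ^ N = 1)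
    (μ : K) : f.maxGenEigenspace μ = f.eigenspace μ :=
  (isSemisimple_of_pow hN hf).isFinitelySemisimple.maxGenEigenspace_eq_eigenspace μ

variable [FiniteDimensional K V] (ρ : L →* Module.End K V) {A : Subgroup L}
  (hA : ∀ a ∈ A, ∀ b ∈ A, a * b = b * a) {N : ℕ} (hN : (N : K) ≠ 0) (hAN : ∀ a ∈ A, a ^ N = 1)

include hN hAN in
theorem wt_eq (χ : A → K) : wt ρ A χ = ⨅ a : A, (ρ a).maxGenEigenspace (χ a) := by
  unfold wt
  refine iInf_congr fun a => ?_
  rw [maxGen_eq hN]
  rw [← map_pow, hAN a a.2, map_one]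

include hA hN hAN in
theorem indep_wt : iSupIndep (wt ρ A) := by
  have h := Module.End.independent_iInf_maxGenEigenspace_of_forall_mapsTo (fun a : A => ρ (a : L)) (by
    intro i j φ
    refine Module.End.mapsTo_maxGenEigenspace_of_comm ?_ φ
    change ρ j * ρ i = ρ i * ρ j
    rw [← map_mul, ← map_mul, hA _ j.2 _ i.2])
  have h2 : (fun χ : A → K => ⨅ a : A, (ρ (a : L)).maxGenEigenspace (χ a)) = wt ρ A := by
    funext χ
    exact (wt_eq ρ hN hAN χ).symm
  rwa [h2] at h

include hA hN hAN in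
theorem iSup_wt [IsAlgClosed K] : ⨆ χ, wt ρ A χ = ⊤ := by
  have h := Module.End.iSup_iInf_maxGenEigenspace_eq_top_of_iSup_maxGenEigenspace_eq_top_of_commute
    (fun a : A => ρ (a : L)) (by
      intro i j _
      change ρ i * ρ j = ρ j * ρ i
      rw [← map_mul, ← map_mul, hA _ i.2 _ j.2])
    (fun i => Module.End.iSup_maxGenEigenspace_eq_top _)
  have h2 : (fun χ : A → K => ⨅ a : A, (ρ (a : L)).maxGenEigenspace (χ a)) = wt ρ A := by
    funext χ
    exact (wt_eq ρ hN hAN χ).symm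
  rw [← h]
  exact iSup_congr fun χ => (congrFun h2 χ).symm

omit [FiniteDimensional K V] in
/-- Weights are multiplicative. -/
theorem wt_mul {χ : A → K} (h : wt ρ A χ ≠ ⊥) (a b : A) : χ (a * b) = χ a * χ b := by
  obtain ⟨v, hv, hv0⟩ := Submodule.exists_mem_ne_zero_of_ne_bot h
  rw [mem_wt] at hv
  have h1 := hv (a * b)
  rw [Subgroup.coe_mul, map_mul, Module.End.mul_apply, hv b, map_smul, hv a, smul_smul] at h1
  have h2 : (χ (a * b) - χ a * χ b) • v = 0 := by
    rw [sub_smul, ← h1, mul_comm, sub_self]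
  exact sub_eq_zero.1 ((smul_eq_zero.1 h2).resolve_right hv0)

omit [FiniteDimensional K V] in
theorem wt_one {χ : A → K} (h : wt ρ A χ ≠ ⊥) : χ 1 = 1 := by
  obtain ⟨v, hv, hv0⟩ := Submodule.exists_mem_ne_zero_of_ne_bot h
  rw [mem_wt] at hv
  have h1 := hv 1
  rw [Subgroup.coe_one, map_one, Module.End.one_apply] at h1
  have h2 : (χ 1 - 1) • v = 0 := by rw [sub_smul, ← h1, one_smul, sub_self]
  exact sub_eq_zero.1 ((smul_eq_zero.1 h2).resolve_right hv0)

include hA hN hAN in
/-- An element acting non-trivially has a weight on which it is non-trivial. -/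
theorem exists_wt [IsAlgClosed K] {c : A} (hc : ρ c ≠ 1) : ∃ χ : A → K, wt ρ A χ ≠ ⊥ ∧ χ c ≠ 1 := by
  by_contra hcon
  push Not at hcon
  apply hc
  have h1 : ∀ χ : A → K, wt ρ A χ ≤ (ρ (c : L)).eigenspace 1 := by
    intro χ
    by_cases hχ : wt ρ A χ = ⊥
    · rw [hχ]; exact bot_le
    · intro v hv
      rw [Module.End.mem_eigenspace_iff]
      rw [mem_wt] at hv
      rw [hv c, hcon χ hχ]
  have h2 : (⊤ : Submodule K V) ≤ (ρ (c : L)).eigenspace 1 := by
    rw [← iSup_wt ρ hA hN hAN]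
    exact iSup_le h1
  ext v
  have := h2 (Submodule.mem_top (x := v))
  rw [Module.End.mem_eigenspace_iff, one_smul] at this
  rw [this, Module.End.one_apply]

omit [FiniteDimensional K V] in
/-- Translates of weight spaces. -/
theorem map_wt_le {χ : A → K} {s : L} (hs : ∀ a ∈ A, s * a * s⁻¹ ∈ A) :
    (wt ρ A χ).map (ρ s⁻¹) ≤ wt ρ A (fun a => χ ⟨s * a * s⁻¹, hs a a.2⟩) := by
  rintro _ ⟨v, hv, rfl⟩
  rw [mem_wt]
  intro a
  have h1 := mem_wt.1 hv ⟨s * a * s⁻¹, hs a a.2⟩
  have h2 : ρ (a : L) (ρ s⁻¹ v) = ρ s⁻¹ (ρ (s * a * s⁻¹) v) := by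
    rw [← Module.End.mul_apply, ← Module.End.mul_apply, ← map_mul, ← map_mul]
    congr 2
    group
  rw [h2, h1, map_smul]

omit [FiniteDimensional K V] in
theorem rho_injective (s : L) : Function.Injective (ρ s) := by
  intro v w h
  have h1 : ρ s⁻¹ (ρ s v) = ρ s⁻¹ (ρ s w) := by rw [h]
  rwa [← Module.End.mul_apply, ← Module.End.mul_apply, ← map_mul, inv_mul_cancel, map_one,
    Module.End.one_apply, Module.End.one_apply] at h1

theorem finrank_wt_le {χ : A → K} {s : L} (hs : ∀ a ∈ A, s * a * s⁻¹ ∈ A) :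
    finrank K (wt ρ A χ) ≤ finrank K (wt ρ A (fun a => χ ⟨s * a * s⁻¹, hs a a.2⟩)) := by
  refine le_trans (le_of_eq ?_) (Submodule.finrank_mono (map_wt_le ρ hs))
  exact (Submodule.equivMapOfInjective (ρ s⁻¹) (rho_injective ρ s⁻¹) _).finrank_eq

omit ρ in
/-- Independent subspaces. -/
theorem sum_finrank_le {ι : Type*} [Fintype ι] {p : ι → Submodule K V} (hp : iSupIndep p) :
    ∑ i, finrank K (p i) ≤ finrank K V := by
  classical
  have h1 := hp.dfinsupp_lsum_injective
  have h2 := LinearMap.finrank_le_finrank_of_injective h1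
  have h3 : finrank K (Π₀ i, p i) = ∑ i, finrank K (p i) := Module.finrank_directSum K (fun i => ↥(p i))
  rw [← h3]
  exact h2

include hA hN hAN in
/-- **Lemma W.** -/
theorem card_mul_finrank_le [IsAlgClosed K] {c : L} (hcA : c ∈ A) (hc : ρ c ≠ 1) (S : Finset L)
    (hS : ∀ s ∈ S, ∀ a ∈ A, s * a * s⁻¹ ∈ A)
    (hSc : ∀ s ∈ S, ∀ t ∈ S, s ≠ t → ∃ a ∈ A, (s * a * s⁻¹) * (t * a * t⁻¹)⁻¹ = c) :
    ∃ χ : A → K, wt ρ A χ ≠ ⊥ ∧ χ ⟨c, hcA⟩ ≠ 1 ∧ S.card * finrank K (wt ρ A χ) ≤ finrank K V := by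
  obtain ⟨χ, hχ, hχc⟩ := exists_wt ρ hA hN hAN (c := ⟨c, hcA⟩) hc
  refine ⟨χ, hχ, hχc, ?_⟩
  let tw : S → (A → K) := fun s a => χ ⟨s * a * (s : L)⁻¹, hS s s.2 a a.2⟩
  have hinj : Function.Injective tw := by
    intro s t hst
    by_contra hne
    obtain ⟨a, ha, hac⟩ := hSc s s.2 t t.2 (fun h => hne (Subtype.ext h))
    apply hχc
    have h1 : χ ⟨s * a * (s : L)⁻¹, hS s s.2 a ha⟩ = χ ⟨t * a * (t : L)⁻¹, hS t t.2 a ha⟩ :=
      congrFun hst ⟨a, ha⟩
    have h2 : (⟨s * a * (s : L)⁻¹, hS s s.2 a ha⟩ : A) = ⟨c, hcA⟩ * ⟨t * a * (t : L)⁻¹, hS t t.2 a ha⟩ := by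
      apply Subtype.ext
      change (s : L) * a * (s : L)⁻¹ = c * (t * a * (t : L)⁻¹)
      rw [← hac]
      group
    rw [h2, wt_mul ρ hχ] at h1
    have h3 : χ ⟨t * a * (t : L)⁻¹, hS t t.2 a ha⟩ ≠ 0 := by
      intro h0
      have h4 := wt_mul ρ hχ ⟨t * a * (t : L)⁻¹, hS t t.2 a ha⟩ (⟨t * a * (t : L)⁻¹, hS t t.2 a ha⟩)⁻¹
      rw [mul_inv_cancel, wt_one ρ hχ, h0, zero_mul] at h4
      exact one_ne_zero h4
    exact mul_right_cancel₀ h3 (by rw [h1, one_mul])
  have hind : iSupIndep (fun s : S => wt ρ A (tw s)) := (indep_wt ρ hA hN hAN).comp hinj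
  calc S.card * finrank K (wt ρ A χ) = ∑ _s : S, finrank K (wt ρ A χ) := by
        rw [Finset.sum_const, Finset.card_univ, Fintype.card_coe, smul_eq_mul]
    _ ≤ ∑ s : S, finrank K (wt ρ A (tw s)) := Finset.sum_le_sum fun s _ => finrank_wt_le ρ (hS s s.2)
    _ ≤ finrank K V := sum_finrank_le hind

omit [FiniteDimensional K V] in
/-- Elements centralising `A` act on the weight spaces. -/
theorem map_mem_wt {χ : A → K} {s : L} (hs : ∀ a ∈ A, s * a = a * s) {v : V} (hv : v ∈ wt ρ A χ) :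
    ρ s v ∈ wt ρ A χ := by
  rw [mem_wt] at hv ⊢
  intro a
  rw [← Module.End.mul_apply, ← map_mul, ← hs a a.2, map_mul, Module.End.mul_apply, hv a, map_smul]

/-- The action of the centraliser of `A` on a weight space. -/
def restr (χ : A → K) (C : Subgroup L) (hC : ∀ s ∈ C, ∀ a ∈ A, s * a = a * s) : C →* Module.End K (wt ρ A χ) where
  toFun s := (ρ s).restrict (fun _ hv => map_mem_wt ρ (hC s s.2) hv)
  map_one' := by
    ext v
    simp
  map_mul' s t := by
    ext v
    simp

omit [FiniteDimensional K V] in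
theorem restr_apply (χ : A → K) (C : Subgroup L) (hC : ∀ s ∈ C, ∀ a ∈ A, s * a = a * s) (s : C)
    (v : wt ρ A χ) : (restr ρ χ C hC s v : V) = ρ s v := rfl

include hA hN hAN in
/-- **Lemma W, second form.** -/
theorem card_mul_card_le [IsAlgClosed K] {c : L} (hcA : c ∈ A) (hc : ρ c ≠ 1) (S : Finset L)
    (hS : ∀ s ∈ S, ∀ a ∈ A, s * a * s⁻¹ ∈ A)
    (hSc : ∀ s ∈ S, ∀ t ∈ S, s ≠ t → ∃ a ∈ A, (s * a * s⁻¹) * (t * a * t⁻¹)⁻¹ = c)
    {B : Subgroup L} (hB : ∀ a ∈ B, ∀ b ∈ B, a * b = b * a) {N' : ℕ} (hN' : (N' : K) ≠ 0)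
    (hBN : ∀ b ∈ B, b ^ N' = 1) (hBA : ∀ b ∈ B, ∀ a ∈ A, b * a = a * b) (hcB : c ∈ B) (S' : Finset L)
    (hS'A : ∀ s ∈ S', ∀ a ∈ A, s * a = a * s)
    (hS' : ∀ s ∈ S', ∀ b ∈ B, s * b * s⁻¹ ∈ B)
    (hSc' : ∀ s ∈ S', ∀ t ∈ S', s ≠ t → ∃ b ∈ B, (s * b * s⁻¹) * (t * b * t⁻¹)⁻¹ = c) :
    S.card * S'.card ≤ finrank K V := by
  classical
  obtain ⟨χ, hχ, hχc, hle⟩ := card_mul_finrank_le ρ hA hN hAN hcA hc S hS hSc
  refine le_trans (Nat.mul_le_mul_left _ ?_) hle
  set C : Subgroup L := Subgroup.centralizer (A : Set L) with hCdef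
  have hC : ∀ s ∈ C, ∀ a ∈ A, s * a = a * s := fun s hs a ha =>
    (Subgroup.mem_centralizer_iff.1 hs a ha).symm
  have hmemC : ∀ s : L, (∀ a ∈ A, s * a = a * s) → s ∈ C := fun s hs =>
    Subgroup.mem_centralizer_iff.2 fun a ha => (hs a ha).symm
  have hBC : B ≤ C := fun b hb => hmemC b (hBA b hb)
  let g : {s // s ∈ S'} → C := fun s => ⟨(s : L), hmemC (s : L) (hS'A s.1 s.2)⟩
  have hg : Function.Injective g := fun s t h => Subtype.ext (congrArg (fun x : C => (x : L)) h)
  let S'' : Finset C := S'.attach.image g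
  have hS''card : S''.card = S'.card := by
    rw [Finset.card_image_of_injective _ hg, Finset.card_attach]
  have hS''mem : ∀ s ∈ S'', (s : L) ∈ S' := by
    intro s hs
    obtain ⟨t, -, rfl⟩ := Finset.mem_image.1 hs
    exact t.2
  have hcC : c ∈ C := hBC hcB
  obtain ⟨χ', hχ', -, hle'⟩ := card_mul_finrank_le (restr ρ χ C hC) (A := B.subgroupOf C)
    (fun a ha b hb => Subtype.ext (hB a ha b hb)) hN' (fun a ha => Subtype.ext (hBN a ha))
    (c := ⟨c, hcC⟩) hcB (by
      intro h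
      obtain ⟨v, hv, hv0⟩ := Submodule.exists_mem_ne_zero_of_ne_bot hχ
      have h1 : restr ρ χ C hC ⟨c, hcC⟩ ⟨v, hv⟩ = ⟨v, hv⟩ := by rw [h, Module.End.one_apply]
      have h2 : ρ c v = v := congrArg Subtype.val h1
      have h3 := mem_wt.1 hv ⟨c, hcA⟩
      rw [h2] at h3
      have h4 : (χ ⟨c, hcA⟩ - 1) • v = 0 := by rw [sub_smul, ← h3, one_smul, sub_self]
      exact hχc (sub_eq_zero.1 ((smul_eq_zero.1 h4).resolve_right hv0)))
    S'' (fun s hs a ha => hS' s (hS''mem s hs) a ha)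
    (fun s hs t ht hst => by
      obtain ⟨b, hb, h⟩ := hSc' s (hS''mem s hs) t (hS''mem t ht) (fun h => hst (Subtype.ext h))
      exact ⟨⟨b, hBC hb⟩, hb, Subtype.ext h⟩)
  have hpos : 1 ≤ finrank K (wt (restr ρ χ C hC) (B.subgroupOf C) χ') := by
    have : Nontrivial (wt (restr ρ χ C hC) (B.subgroupOf C) χ') := Submodule.nontrivial_iff_ne_bot.2 hχ'
    exact finrank_pos
  calc S'.card = S''.card * 1 := by rw [hS''card, mul_one]
    _ ≤ S''.card * finrank K (wt (restr ρ χ C hC) (B.subgroupOf C) χ') := Nat.mul_le_mul_left _ hpos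
    _ ≤ finrank K (wt ρ A χ) := hle'

include hA hN hAN in
theorem card_le [IsAlgClosed K] {c : L} (hcA : c ∈ A) (hc : ρ c ≠ 1) (S : Finset L)
    (hS : ∀ s ∈ S, ∀ a ∈ A, s * a * s⁻¹ ∈ A)
    (hSc : ∀ s ∈ S, ∀ t ∈ S, s ≠ t → ∃ a ∈ A, (s * a * s⁻¹) * (t * a * t⁻¹)⁻¹ = c) :
    S.card ≤ finrank K V := by
  obtain ⟨χ, hχ, -, hle⟩ := card_mul_finrank_le ρ hA hN hAN hcA hc S hS hSc
  have hpos : 1 ≤ finrank K (wt ρ A χ) := by
    have : Nontrivial (wt ρ A χ) := Submodule.nontrivial_iff_ne_bot.2 hχ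
    exact finrank_pos
  calc S.card = S.card * 1 := (mul_one _).symm
    _ ≤ S.card * finrank K (wt ρ A χ) := Nat.mul_le_mul_left _ hpos
    _ ≤ finrank K V := hle

end Rep

end Cfsg.Agent.H912.Bd

private theorem dce_0706cad1432d : _root_.True := by
  try have : _root_.True := by simp only [_root_.Cfsg.Agent.H912.Bd.wt.eq_1]
  exact _root_.True.intro
end

-- part: H912/Bd2
section
set_option linter.all false
open scoped Cfsg.Agent.FastGrp

/-!
# Lower bounds for the degree of projective representations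

`PR F n r T`: some group `L` has a homomorphism onto `T` with central kernel of (finite) order prime to `r`, and a
homomorphism `ρ : L →* GL_n(F)` with `ker ρ ≤ ker π`.  (E.g. `L ≤ GL_n(F)`, `T = L / (scalars)`, `r` prime to the number
of scalars in `L`.)

* `PR.sub`: inherited by groups with an injective homomorphism into `T`;
* `PR.bound`: the weight-orbit bound;
* `PR.bound_mul`: its version with a second abelian subgroup in the centraliser of the first.
-/

set_option autoImplicit false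

universe u v w

set_option linter.dupNamespace false

namespace Cfsg.Agent.H912.Bd

open Module

/-- A projective representation of `T` in dimension `n` whose kernel has order prime to `r`. -/
def PR (F : Type u) [Field F] (n r : ℕ) (T : Type v) [Group T] : Prop :=
  ∃ (L : Type u) (_ : Group L) (π : L →* T) (ρ : L →* Matrix.GeneralLinearGroup (Fin n) F),
    Function.Surjective π ∧ (∀ x, π x = 1 → ∀ y, x * y = y * x) ∧ (Nat.card π.ker).Coprime r ∧ ρ.ker ≤ π.ker

/-- Lower bound for the dimension. -/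
def Bd (F : Type u) [Field F] (r m : ℕ) (T : Type v) [Group T] : Prop := ∀ n, PR F n r T → m ≤ n

theorem PR.sub {F : Type u} [Field F] {n r : ℕ} {T : Type v} [Group T] (h : PR F n r T) {T' : Type w} [Group T']
    (f : T' →* T) (hf : Function.Injective f) : PR F n r T' := by
  obtain ⟨L, _, π, ρ, hπ, hc, hcop, hρ⟩ := h
  let L' : Subgroup L := f.range.comap π
  let e := MonoidHom.ofInjective hf
  let π' : L' →* T' := e.symm.toMonoidHom.comp ((π.comp L'.subtype).codRestrict f.range (fun x => x.2))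
  have hπ' : ∀ x : L', f (π' x) = π x := by
    intro x
    change f (e.symm _) = _
    rw [← MonoidHom.ofInjective_apply hf]
    exact congrArg Subtype.val (e.apply_symm_apply _)
  have hker : ∀ x : L', π' x = 1 ↔ π x = 1 := by
    intro x
    rw [← hπ' x]
    constructor
    · intro h; rw [h, map_one]
    · intro h; exact hf (by rw [h, map_one])
  refine ⟨L', inferInstance, π', ρ.comp L'.subtype, ?_, ?_, ?_, ?_⟩
  · intro t
    obtain ⟨x, hx⟩ := hπ (f t)
    exact ⟨⟨x, ⟨t, hx.symm⟩⟩, hf (by rw [hπ']; exact hx)⟩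
  · intro x hx y
    exact Subtype.ext (hc x ((hker x).1 hx) y)
  · have : Nat.card π'.ker = Nat.card π.ker := by
      apply Nat.card_congr
      exact
        { toFun := fun x => ⟨x.1.1, (hker x.1).1 x.2⟩
          invFun := fun x => ⟨⟨x.1, by
            change π x.1 ∈ f.range
            rw [x.2]; exact one_mem _⟩, (hker _).2 x.2⟩
          left_inv := fun x => rfl
          right_inv := fun x => rfl }
    rw [this]; exact hcop
  · intro x hx
    exact (hker x).2 (hρ hx)

theorem Bd.of_sub {F : Type u} [Field F] {r m : ℕ} {T : Type v} [Group T] {T' : Type w} [Group T']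
    (h : Bd F r m T') (f : T' →* T) (hf : Function.Injective f) : Bd F r m T :=
  fun n hn => h n (hn.sub f hf)

theorem Bd.mono {F : Type u} [Field F] {r m m' : ℕ} {T : Type v} [Group T] (h : Bd F r m T) (hm : m' ≤ m) :
    Bd F r m' T := fun n hn => hm.trans (h n hn)

/-! ### Lifts of `r`-elements -/

section Lift

variable {L : Type u} [Group L] {T : Type v} [Group T] {π : L →* T}
  (hc : ∀ x, π x = 1 → ∀ y, x * y = y * x) {r : ℕ} (hcop : (Nat.card π.ker).Coprime r)

include hcop in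
theorem eq_one_of_ker {z : L} (hz : π z = 1) {k : ℕ} (hk : z ^ r ^ k = 1) : z = 1 := by
  have h1 : z ^ Nat.card π.ker = 1 := by
    have := pow_card_eq_one' (x := (⟨z, hz⟩ : π.ker))
    exact congrArg Subtype.val this
  have h2 : orderOf z ∣ 1 := by
    have h3 := Nat.dvd_gcd (orderOf_dvd_of_pow_eq_one h1) (orderOf_dvd_of_pow_eq_one hk)
    rwa [Nat.Coprime.gcd_eq_one (hcop.pow_right k)] at h3
  exact orderOf_eq_one_iff.1 (Nat.dvd_one.1 h2)

include hc hcop in
theorem lift_unique {x y : L} (hxy : π x = π y) {k l : ℕ} (hx : x ^ r ^ k = 1) (hy : y ^ r ^ l = 1) : x = y := by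
  have h1 : π (x⁻¹ * y) = 1 := by rw [map_mul, map_inv, hxy, inv_mul_cancel]
  have h2 : x⁻¹ * y = 1 := by
    have hcomm : Commute x (x⁻¹ * y) := (hc _ h1 x).symm
    have h3 : y = x * (x⁻¹ * y) := by group
    apply eq_one_of_ker hcop h1 (k := k + l)
    have h4 : y ^ r ^ (k + l) = 1 := by rw [pow_add, mul_comm, pow_mul, hy, one_pow]
    have h5 : x ^ r ^ (k + l) = 1 := by rw [pow_add, pow_mul, hx, one_pow]
    rw [h3, hcomm.mul_pow, h5, one_mul] at h4
    exact h4
  rw [← mul_one x, ← h2]; group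

include hcop in
theorem exists_lift (hπ : Function.Surjective π) {e : T} {k : ℕ} (he : e ^ r ^ k = 1) :
    ∃ x : L, π x = e ∧ x ^ r ^ k = 1 := by
  obtain ⟨y, hy⟩ := hπ e
  obtain ⟨m, hm1, hm2⟩ := Nat.chineseRemainder (hcop.pow_right k) 0 1
  have hz : π (y ^ r ^ k) = 1 := by rw [map_pow, hy, he]
  have hzc : (y ^ r ^ k) ^ Nat.card π.ker = 1 := by
    have := pow_card_eq_one' (x := (⟨y ^ r ^ k, hz⟩ : π.ker))
    exact congrArg Subtype.val this
  refine ⟨y ^ m, ?_, ?_⟩
  · rw [map_pow, hy]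
    have h1 : e ^ m = e ^ 1 := by
      apply pow_eq_pow_iff_modEq.2
      exact hm2.of_dvd (orderOf_dvd_of_pow_eq_one he)
    rw [h1, pow_one]
  · rw [← pow_mul, mul_comm, pow_mul]
    obtain ⟨d, hd⟩ := (Nat.modEq_zero_iff_dvd.1 hm1)
    rw [hd, pow_mul, hzc, one_pow]

include hc hcop in
/-- The subgroup of the lifts of the elements of an abelian `r`-subgroup. -/
theorem exists_lift_subgroup {E : Subgroup T} (hE : ∀ a ∈ E, ∀ b ∈ E, a * b = b * a) :
    ∃ A : Subgroup L, ∀ x, x ∈ A ↔ π x ∈ E ∧ ∃ k : ℕ, x ^ r ^ k = 1 := by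
  refine ⟨⟨⟨⟨{x | π x ∈ E ∧ ∃ k : ℕ, x ^ r ^ k = 1}, ?_⟩, ?_⟩, ?_⟩, fun x => Iff.rfl⟩
  · rintro x y ⟨hx, k, hk⟩ ⟨hy, l, hl⟩
    refine ⟨by rw [map_mul]; exact E.mul_mem hx hy, k + l, ?_⟩
    have h1 : x * y * x⁻¹ = y := by
      refine lift_unique hc hcop (k := l) (l := l) ?_ ?_ hl
      · rw [map_mul, map_mul, map_inv, hE _ hx _ hy, mul_inv_cancel_right]
      · rw [conj_pow, hl]; group
    have h2 : Commute x y := by
      rw [mul_inv_eq_iff_eq_mul] at h1
      exact h1
    rw [h2.mul_pow, pow_add, pow_mul, hk, one_pow, one_mul, mul_comm, pow_mul, hl, one_pow]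
  · exact ⟨by rw [map_one]; exact E.one_mem, 0, by simp⟩
  · rintro x ⟨hx, k, hk⟩
    exact ⟨by rw [map_inv]; exact E.inv_mem hx, k, by rw [inv_pow, hk, inv_one]⟩

end Lift

/-! ### The representation over the algebraic closure -/

section Main

variable {F : Type u} [Field F] {n r : ℕ} {T : Type v} [Group T]

/-- The representation over the algebraic closure. -/
noncomputable def repK {L : Type u} [Group L] (ρ : L →* Matrix.GeneralLinearGroup (Fin n) F) :
    L →* Module.End (AlgebraicClosure F) (Fin n → AlgebraicClosure F) :=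
  ((Matrix.toLinAlgEquiv' : Matrix (Fin n) (Fin n) (AlgebraicClosure F) ≃ₐ[AlgebraicClosure F] _) :
    Matrix (Fin n) (Fin n) (AlgebraicClosure F) →* _).comp
    ((Units.coeHom _).comp ((Matrix.GeneralLinearGroup.map (algebraMap F (AlgebraicClosure F))).comp ρ))

theorem eq_one_of_repK {L : Type u} [Group L] {ρ : L →* Matrix.GeneralLinearGroup (Fin n) F} {x : L}
    (h : repK ρ x = 1) : ρ x = 1 := by
  have h1 : (((Matrix.GeneralLinearGroup.map (algebraMap F (AlgebraicClosure F))) (ρ x) :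
      Matrix.GeneralLinearGroup (Fin n) (AlgebraicClosure F)) : Matrix (Fin n) (Fin n) (AlgebraicClosure F)) = 1 := by
    apply (Matrix.toLinAlgEquiv' : Matrix (Fin n) (Fin n) (AlgebraicClosure F) ≃ₐ[AlgebraicClosure F] _).injective
    rw [map_one]
    exact h
  apply Units.ext
  ext i j
  have h2 := congrFun (congrFun h1 i) j
  rw [Matrix.GeneralLinearGroup.map_apply] at h2
  apply (algebraMap F (AlgebraicClosure F)).injective
  rw [h2, Units.val_one, Matrix.one_apply, Matrix.one_apply]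
  split_ifs <;> simp

/-- Data of the lifts of an abelian `r`-subgroup. -/
theorem exists_data {L : Type u} [Group L] {π : L →* T} (hπ : Function.Surjective π)
    (hc : ∀ x, π x = 1 → ∀ y, x * y = y * x) (hcop : (Nat.card π.ker).Coprime r) (hr : r.Prime)
    (hrF : (r : F) ≠ 0) {E : Subgroup T} [Finite E] (hE : ∀ a ∈ E, ∀ b ∈ E, a * b = b * a) (hEr : IsPGroup r E) :
    ∃ A : Subgroup L, (∀ x, x ∈ A ↔ π x ∈ E ∧ ∃ k : ℕ, x ^ r ^ k = 1) ∧ (∀ a ∈ A, ∀ b ∈ A, a * b = b * a) ∧
      (∃ N : ℕ, ((N : AlgebraicClosure F) ≠ 0) ∧ ∀ a ∈ A, a ^ N = 1) ∧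
      (∀ e ∈ E, ∃ a ∈ A, π a = e) ∧
      (∀ g : L, (∀ e ∈ E, π g * e * (π g)⁻¹ ∈ E) → ∀ a ∈ A, g * a * g⁻¹ ∈ A) := by
  obtain ⟨A, hA⟩ := exists_lift_subgroup hc hcop hE
  have hcomm : ∀ a ∈ A, ∀ b ∈ A, a * b = b * a := by
    intro a ha b hb
    obtain ⟨h1, k, hk⟩ := (hA a).1 ha
    obtain ⟨h2, l, hl⟩ := (hA b).1 hb
    have h3 : a * b * a⁻¹ = b := by
      refine lift_unique hc hcop (k := l) (l := l) ?_ ?_ hl
      · rw [map_mul, map_mul, map_inv, hE _ h1 _ h2, mul_inv_cancel_right]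
      · rw [conj_pow, hl]; group
    rw [mul_inv_eq_iff_eq_mul] at h3
    exact h3
  have hfin : Finite A := by
    apply Finite.of_injective (fun a : A => (⟨π a, ((hA a).1 a.2).1⟩ : E))
    intro a b hab
    have h1 : π a = π b := congrArg Subtype.val hab
    obtain ⟨-, k, hk⟩ := (hA a).1 a.2
    obtain ⟨-, l, hl⟩ := (hA b).1 b.2
    exact Subtype.ext (lift_unique hc hcop h1 hk hl)
  have hpg : IsPGroup r A := by
    intro a
    obtain ⟨-, k, hk⟩ := (hA a).1 a.2
    exact ⟨k, Subtype.ext hk⟩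
  have : Fact r.Prime := ⟨hr⟩
  obtain ⟨m, hm⟩ := IsPGroup.iff_card.1 hpg
  refine ⟨A, hA, hcomm, ⟨Nat.card A, ?_, ?_⟩, ?_, ?_⟩
  · rw [hm, Nat.cast_pow]
    apply pow_ne_zero
    intro h0
    apply hrF
    apply (algebraMap F (AlgebraicClosure F)).injective
    rw [map_natCast, map_zero, h0]
  · intro a ha
    exact congrArg Subtype.val (pow_card_eq_one' (x := (⟨a, ha⟩ : A)))
  · intro e he
    obtain ⟨k, hk⟩ := hEr ⟨e, he⟩
    obtain ⟨x, hx, hxk⟩ := exists_lift hcop hπ (congrArg Subtype.val hk)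
    exact ⟨x, (hA x).2 ⟨by rw [hx]; exact he, k, hxk⟩, hx⟩
  · intro g hg a ha
    obtain ⟨h1, k, hk⟩ := (hA a).1 ha
    rw [hA]
    refine ⟨?_, k, ?_⟩
    · rw [map_mul, map_mul, map_inv]
      exact hg _ h1
    · rw [conj_pow, hk]; group

/-- **The weight-orbit bound**: `E` an abelian `r`-subgroup of `T`, `1 ≠ e₀ ∈ E`, and `S` a finite set of elements
normalising `E` with `e₀ ∈ {(s e s⁻¹) (t e t⁻¹)⁻¹}` for all `s ≠ t` in `S`; then `|S| ≤ n`. -/
theorem PR.bound (h : PR F n r T) (hr : r.Prime) (hrF : (r : F) ≠ 0) (E : Subgroup T) [Finite E]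
    (hE : ∀ a ∈ E, ∀ b ∈ E, a * b = b * a) (hEr : IsPGroup r E) {e₀ : T} (he₀ : e₀ ∈ E) (he₀1 : e₀ ≠ 1)
    (S : Finset T) (hS : ∀ s ∈ S, ∀ e ∈ E, s * e * s⁻¹ ∈ E)
    (hSc : ∀ s ∈ S, ∀ t ∈ S, s ≠ t → ∃ e ∈ E, (s * e * s⁻¹) * (t * e * t⁻¹)⁻¹ = e₀) : S.card ≤ n := by
  classical
  obtain ⟨L, _, π, ρ, hπ, hc, hcop, hρ⟩ := h
  obtain ⟨A, hA, hAc, ⟨N, hN, hAN⟩, hlift, hnorm⟩ := exists_data (F := F) hπ hc hcop hr hrF hE hEr
  obtain ⟨c, hcA, hce⟩ := hlift e₀ he₀
  obtain ⟨σ, hσ⟩ := hπ.hasRightInverse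
  have hσinj : Function.Injective σ := hσ.injective
  have hck : repK ρ c ≠ 1 := by
    intro h1
    have h2 : c ∈ ρ.ker := eq_one_of_repK h1
    have h3 := hρ h2
    rw [MonoidHom.mem_ker, hce] at h3
    exact he₀1 h3
  have hle := card_le (repK ρ) hAc hN hAN hcA hck (S.image σ) (by
    intro s hs a ha
    obtain ⟨t, ht, rfl⟩ := Finset.mem_image.1 hs
    exact hnorm (σ t) (by rw [hσ t]; exact hS t ht) a ha) (by
    intro s hs t ht hst
    obtain ⟨s', hs', rfl⟩ := Finset.mem_image.1 hs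
    obtain ⟨t', ht', rfl⟩ := Finset.mem_image.1 ht
    obtain ⟨e, he, hee⟩ := hSc s' hs' t' ht' (fun h => hst (by rw [h]))
    obtain ⟨a, ha, hae⟩ := hlift e he
    refine ⟨a, ha, ?_⟩
    have h1 : σ s' * a * (σ s')⁻¹ ∈ A := hnorm (σ s') (by rw [hσ s']; exact hS s' hs') a ha
    have h2 : σ t' * a * (σ t')⁻¹ ∈ A := hnorm (σ t') (by rw [hσ t']; exact hS t' ht') a ha
    obtain ⟨-, k, hk⟩ := (hA _).1 (A.mul_mem h1 (A.inv_mem h2))
    obtain ⟨-, l, hl⟩ := (hA _).1 hcA
    refine lift_unique hc hcop ?_ hk hl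
    simp only [map_mul, map_inv, hσ s', hσ t', hae, hce]
    exact hee)
  rwa [Finset.card_image_of_injective _ hσinj, Module.finrank_fintype_fun_eq_card, Fintype.card_fin] at hle

/-- **The weight-orbit bound, second form**: moreover `E'` is an abelian `r`-subgroup centralising `E`, with `e₀ ∈ E'`,
and `S'` a finite set of elements centralising `E`, normalising `E'`, with the same property; then `|S| |S'| ≤ n`. -/
theorem PR.bound_mul (h : PR F n r T) (hr : r.Prime) (hrF : (r : F) ≠ 0) (E : Subgroup T) [Finite E]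
    (hE : ∀ a ∈ E, ∀ b ∈ E, a * b = b * a) (hEr : IsPGroup r E) {e₀ : T} (he₀ : e₀ ∈ E) (he₀1 : e₀ ≠ 1)
    (S : Finset T) (hS : ∀ s ∈ S, ∀ e ∈ E, s * e * s⁻¹ ∈ E)
    (hSc : ∀ s ∈ S, ∀ t ∈ S, s ≠ t → ∃ e ∈ E, (s * e * s⁻¹) * (t * e * t⁻¹)⁻¹ = e₀)
    (E' : Subgroup T) [Finite E'] (hE' : ∀ a ∈ E', ∀ b ∈ E', a * b = b * a) (hEr' : IsPGroup r E')
    (hEE' : ∀ a ∈ E', ∀ b ∈ E, a * b = b * a) (he₀' : e₀ ∈ E') (S' : Finset T)
    (hS'E : ∀ s ∈ S', ∀ e ∈ E, s * e = e * s) (hS' : ∀ s ∈ S', ∀ e ∈ E', s * e * s⁻¹ ∈ E')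
    (hSc' : ∀ s ∈ S', ∀ t ∈ S', s ≠ t → ∃ e ∈ E', (s * e * s⁻¹) * (t * e * t⁻¹)⁻¹ = e₀) :
    S.card * S'.card ≤ n := by
  classical
  obtain ⟨L, _, π, ρ, hπ, hc, hcop, hρ⟩ := h
  obtain ⟨A, hA, hAc, ⟨N, hN, hAN⟩, hlift, hnorm⟩ := exists_data (F := F) hπ hc hcop hr hrF hE hEr
  obtain ⟨B, hB, hBc, ⟨N', hN', hBN⟩, hlift', hnorm'⟩ := exists_data (F := F) hπ hc hcop hr hrF hE' hEr'
  obtain ⟨c, hcA, hce⟩ := hlift e₀ he₀
  obtain ⟨σ, hσ⟩ := hπ.hasRightInverse
  have hσinj : Function.Injective σ := hσ.injective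
  have hck : repK ρ c ≠ 1 := by
    intro h1
    have h2 : c ∈ ρ.ker := eq_one_of_repK h1
    have h3 := hρ h2
    rw [MonoidHom.mem_ker, hce] at h3
    exact he₀1 h3
  have hcent : ∀ g : L, (∀ e ∈ E, π g * e = e * π g) → ∀ a ∈ A, g * a = a * g := by
    intro g hg a ha
    obtain ⟨h1, k, hk⟩ := (hA a).1 ha
    have h3 : g * a * g⁻¹ = a := by
      refine lift_unique hc hcop (k := k) (l := k) ?_ ?_ hk
      · rw [map_mul, map_mul, map_inv, hg _ h1, mul_inv_cancel_right]
      · rw [conj_pow, hk]; group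
    rw [mul_inv_eq_iff_eq_mul] at h3
    exact h3
  have hcB : c ∈ B := by
    obtain ⟨-, k, hk⟩ := (hA c).1 hcA
    exact (hB c).2 ⟨by rw [hce]; exact he₀', k, hk⟩
  have hle := card_mul_card_le (repK ρ) hAc hN hAN hcA hck (S.image σ) (by
    intro s hs a ha
    obtain ⟨t, ht, rfl⟩ := Finset.mem_image.1 hs
    exact hnorm (σ t) (by rw [hσ t]; exact hS t ht) a ha) (by
    intro s hs t ht hst
    obtain ⟨s', hs', rfl⟩ := Finset.mem_image.1 hs
    obtain ⟨t', ht', rfl⟩ := Finset.mem_image.1 ht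
    obtain ⟨e, he, hee⟩ := hSc s' hs' t' ht' (fun h => hst (by rw [h]))
    obtain ⟨a, ha, hae⟩ := hlift e he
    refine ⟨a, ha, ?_⟩
    have h1 : σ s' * a * (σ s')⁻¹ ∈ A := hnorm (σ s') (by rw [hσ s']; exact hS s' hs') a ha
    have h2 : σ t' * a * (σ t')⁻¹ ∈ A := hnorm (σ t') (by rw [hσ t']; exact hS t' ht') a ha
    obtain ⟨-, k, hk⟩ := (hA _).1 (A.mul_mem h1 (A.inv_mem h2))
    obtain ⟨-, l, hl⟩ := (hA _).1 hcA
    refine lift_unique hc hcop ?_ hk hl
    simp only [map_mul, map_inv, hσ s', hσ t', hae, hce]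
    exact hee)
    hBc hN' hBN
    (by
      intro b hb a ha
      exact hcent b (fun e he => hEE' _ ((hB b).1 hb).1 e he) a ha)
    hcB (S'.image σ) (by
      intro s hs a ha
      obtain ⟨t, ht, rfl⟩ := Finset.mem_image.1 hs
      exact hcent (σ t) (by rw [hσ t]; exact hS'E t ht) a ha) (by
      intro s hs b hb
      obtain ⟨t, ht, rfl⟩ := Finset.mem_image.1 hs
      exact hnorm' (σ t) (by rw [hσ t]; exact hS' t ht) b hb) (by
      intro s hs t ht hst
      obtain ⟨s', hs', rfl⟩ := Finset.mem_image.1 hs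
      obtain ⟨t', ht', rfl⟩ := Finset.mem_image.1 ht
      obtain ⟨e, he, hee⟩ := hSc' s' hs' t' ht' (fun h => hst (by rw [h]))
      obtain ⟨b, hb, hbe⟩ := hlift' e he
      refine ⟨b, hb, ?_⟩
      have h1 : σ s' * b * (σ s')⁻¹ ∈ B := hnorm' (σ s') (by rw [hσ s']; exact hS' s' hs') b hb
      have h2 : σ t' * b * (σ t')⁻¹ ∈ B := hnorm' (σ t') (by rw [hσ t']; exact hS' t' ht') b hb
      obtain ⟨-, k, hk⟩ := (hB _).1 (B.mul_mem h1 (B.inv_mem h2))
      obtain ⟨-, l, hl⟩ := (hB _).1 hcB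
      refine lift_unique hc hcop ?_ hk hl
      simp only [map_mul, map_inv, hσ s', hσ t', hbe, hce]
      exact hee)
  rwa [Finset.card_image_of_injective _ hσinj, Finset.card_image_of_injective _ hσinj,
    Module.finrank_fintype_fun_eq_card, Fintype.card_fin] at hle

end Main

end Cfsg.Agent.H912.Bd
end

-- part: H912/Bd3
section
set_option linter.all false
open scoped Cfsg.Agent.FastGrp

/-!
# Special cases of the weight-orbit bound

* `bd_of_prime`: `x` of prime order `r`, `y x y⁻¹ = x ^ k`, the powers `k ^ i`, `i < m`, distinct modulo `r`: bound `m`.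
* `bd_of_free`: a set `S` of elements normalising the abelian `r`-subgroup `E ≠ 1` which act differently on every non-trivial
  element of `E`: bound `|S|`.
* `bd_of_frob`: `a` normalises `E`, and `a ^ i` (`0 < i < m`) centralises no non-trivial element of `E`: bound `m`.
* `bd_ext`: `x` of prime order `r`, `x = [a, b]`, `a ^ r = 1` (or an `r`-element), `a`, `b` commute with `x`,
  `y x y⁻¹ = x ^ k`: bound `m * r`.
-/

set_option autoImplicit false
set_option linter.dupNamespace false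

universe u v w

namespace Cfsg.Agent.H912.Bd

variable {F : Type u} [Field F] {r : ℕ} {T : Type v} [Group T]

/-- Elements acting differently. -/
theorem bd_of_free (hr : r.Prime) (hrF : (r : F) ≠ 0) (E : Subgroup T) [Finite E]
    (hE : ∀ a ∈ E, ∀ b ∈ E, a * b = b * a) (hEr : IsPGroup r E) (hE1 : E ≠ ⊥) (S : Finset T)
    (hS : ∀ s ∈ S, ∀ e ∈ E, s * e * s⁻¹ ∈ E)
    (hSf : ∀ s ∈ S, ∀ t ∈ S, s ≠ t → ∀ e ∈ E, s * e * s⁻¹ = t * e * t⁻¹ → e = 1) : Bd F r S.card T := by
  intro n h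
  obtain ⟨e₀, he₀, he₀1⟩ : ∃ e₀ : T, e₀ ∈ E ∧ e₀ ≠ 1 := by
    obtain ⟨x, hx⟩ := Subgroup.ne_bot_iff_exists_ne_one.1 hE1
    exact ⟨x.1, x.2, fun h => hx (Subtype.ext h)⟩
  refine h.bound hr hrF E hE hEr he₀ he₀1 S hS ?_
  intro s hs t ht hst
  let f : E → E := fun e => ⟨(s * e * s⁻¹) * (t * e * t⁻¹)⁻¹, E.mul_mem (hS s hs e e.2) (E.inv_mem (hS t ht e e.2))⟩
  have hinj : Function.Injective f := by
    intro x y hxy
    have h1 : (s * x * s⁻¹) * (t * x * t⁻¹)⁻¹ = (s * y * s⁻¹) * (t * y * t⁻¹)⁻¹ := congrArg Subtype.val hxy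
    have h2 : s * (x * (y : T)⁻¹) * s⁻¹ = t * (x * (y : T)⁻¹) * t⁻¹ := by
      have hsy := hS s hs y y.2
      have htx := hS t ht x x.2
      have hty := hS t ht y y.2
      have hc := hE _ (E.inv_mem hsy) _ htx
      calc s * (x * (y : T)⁻¹) * s⁻¹ = (s * x * s⁻¹) * (s * y * s⁻¹)⁻¹ := by group
        _ = ((s * x * s⁻¹) * (t * x * t⁻¹)⁻¹) * ((t * x * t⁻¹) * (s * y * s⁻¹)⁻¹) := by group
        _ = ((s * y * s⁻¹) * (t * y * t⁻¹)⁻¹) * ((s * y * s⁻¹)⁻¹ * (t * x * t⁻¹)) := by rw [h1, hc]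
        _ = (s * y * s⁻¹) * (((t * y * t⁻¹)⁻¹ * (s * y * s⁻¹)⁻¹) * (t * x * t⁻¹)) := by group
        _ = (s * y * s⁻¹) * (((s * y * s⁻¹)⁻¹ * (t * y * t⁻¹)⁻¹) * (t * x * t⁻¹)) := by
            rw [hE _ (E.inv_mem hty) _ (E.inv_mem hsy)]
        _ = (t * y * t⁻¹)⁻¹ * (t * x * t⁻¹) := by group
        _ = (t * x * t⁻¹) * (t * y * t⁻¹)⁻¹ := hE _ (E.inv_mem hty) _ htx
        _ = t * (x * (y : T)⁻¹) * t⁻¹ := by group
    have h3 := hSf s hs t ht hst _ (E.mul_mem x.2 (E.inv_mem y.2)) h2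
    exact Subtype.ext (mul_inv_eq_one.1 h3)
  obtain ⟨e, he⟩ := Finite.surjective_of_injective hinj ⟨e₀, he₀⟩
  exact ⟨e, e.2, congrArg Subtype.val he⟩

/-- A cyclic group acting freely. -/
theorem bd_of_frob (hr : r.Prime) (hrF : (r : F) ≠ 0) (E : Subgroup T) [Finite E]
    (hE : ∀ a ∈ E, ∀ b ∈ E, a * b = b * a) (hEr : IsPGroup r E) (hE1 : E ≠ ⊥) (m : ℕ) {a : T}
    (ha : ∀ e ∈ E, a * e * a⁻¹ ∈ E)
    (hf : ∀ i, 0 < i → i < m → ∀ e ∈ E, a ^ i * e = e * a ^ i → e = 1) : Bd F r m T := by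
  classical
  have hE1' : ∃ e₀ : T, e₀ ∈ E ∧ e₀ ≠ 1 := by
    obtain ⟨x, hx⟩ := Subgroup.ne_bot_iff_exists_ne_one.1 hE1
    exact ⟨x.1, x.2, fun h => hx (Subtype.ext h)⟩
  obtain ⟨e₀, he₀, he₀1⟩ := hE1'
  have hpow : ∀ i : ℕ, ∀ e ∈ E, a ^ i * e * (a ^ i)⁻¹ ∈ E := by
    intro i
    induction i with
    | zero => intro e he; simpa using he
    | succ i ih =>
      intro e he
      have : a ^ (i + 1) * e * (a ^ (i + 1))⁻¹ = a * (a ^ i * e * (a ^ i)⁻¹) * a⁻¹ := by
        rw [pow_succ']; group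
      rw [this]
      exact ha _ (ih e he)
  have key : ∀ i j : ℕ, i < j → j < m → ∀ e ∈ E, a ^ i * e * (a ^ i)⁻¹ = a ^ j * e * (a ^ j)⁻¹ → e = 1 := by
    intro i j hij hj e he h
    have h1 : a ^ (j - i) * e = e * a ^ (j - i) := by
      have h2 : a ^ j = a ^ i * a ^ (j - i) := by rw [← pow_add]; congr 1; omega
      rw [h2] at h
      have h3 : e = a ^ (j - i) * e * (a ^ (j - i))⁻¹ := by
        calc e = (a ^ i)⁻¹ * (a ^ i * e * (a ^ i)⁻¹) * a ^ i := by group
          _ = (a ^ i)⁻¹ * (a ^ i * a ^ (j - i) * e * (a ^ i * a ^ (j - i))⁻¹) * a ^ i := by rw [h]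
          _ = a ^ (j - i) * e * (a ^ (j - i))⁻¹ := by group
      exact (mul_inv_eq_iff_eq_mul.1 h3.symm)
    exact hf (j - i) (by omega) (by omega) e he h1
  have hne : ∀ i j : ℕ, i < j → j < m → a ^ i ≠ a ^ j := by
    intro i j hij hj h
    exact he₀1 (key i j hij hj e₀ he₀ (by rw [h]))
  have hinj : Set.InjOn (fun i : ℕ => a ^ i) (Finset.range m : Set ℕ) := by
    intro i hi j hj h
    simp only [Finset.coe_range, Set.mem_Iio] at hi hj
    rcases lt_trichotomy i j with h1 | h1 | h1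
    · exact absurd h (hne i j h1 hj)
    · exact h1
    · exact absurd h.symm (hne j i h1 hi)
  have := bd_of_free (F := F) hr hrF E hE hEr hE1 ((Finset.range m).image (fun i => a ^ i)) (by
    intro s hs e he
    obtain ⟨i, -, rfl⟩ := Finset.mem_image.1 hs
    exact hpow i e he) (by
    intro s hs t ht hst e he h
    obtain ⟨i, hi, rfl⟩ := Finset.mem_image.1 hs
    obtain ⟨j, hj, rfl⟩ := Finset.mem_image.1 ht
    rw [Finset.mem_range] at hi hj
    rcases lt_trichotomy i j with h1 | h1 | h1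
    · exact key i j h1 hj e he h
    · exact absurd (by rw [h1]) hst
    · exact key j i h1 hi e he h.symm)
  rwa [Finset.card_image_of_injOn hinj, Finset.card_range] at this

theorem pow_conj {x y : T} {k : ℕ} (h : y * x * y⁻¹ = x ^ k) (i j : ℕ) :
    y ^ i * x ^ j * (y ^ i)⁻¹ = x ^ (j * k ^ i) := by
  have h1 : ∀ i : ℕ, y ^ i * x * (y ^ i)⁻¹ = x ^ (k ^ i) := by
    intro i
    induction i with
    | zero => simp
    | succ i ih =>
      have : y ^ (i + 1) * x * (y ^ (i + 1))⁻¹ = y * (y ^ i * x * (y ^ i)⁻¹) * y⁻¹ := by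
        rw [pow_succ']; group
      rw [this, ih, ← conj_pow, h, ← pow_mul, pow_succ']
  rw [← conj_pow, h1, ← pow_mul, mul_comm]

/-- **Prime order.** -/
theorem bd_of_prime (hr : r.Prime) (hrF : (r : F) ≠ 0) {x y : T} (hx : orderOf x = r) {k : ℕ}
    (h : y * x * y⁻¹ = x ^ k) (m : ℕ) (hk : ∀ i < m, 0 < i → k ^ i % r ≠ 1 % r) : Bd F r m T := by
  have hfx : IsOfFinOrder x := orderOf_pos_iff.1 (by rw [hx]; exact hr.pos)
  have : Finite (Subgroup.zpowers x) := hfx.finite_zpowers
  have hx1 : x ≠ 1 := by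
    rintro rfl
    rw [orderOf_one] at hx
    exact hr.one_lt.ne hx
  have : Fact r.Prime := ⟨hr⟩
  refine bd_of_frob hr hrF (Subgroup.zpowers x) ?_ ?_ ?_ m (a := y) ?_ ?_
  · rintro _ ⟨i, rfl⟩ _ ⟨j, rfl⟩
    rw [← zpow_add, ← zpow_add, add_comm]
  · exact IsPGroup.of_card (n := 1) (by rw [Nat.card_zpowers, hx, pow_one])
  · intro h0
    rw [Subgroup.zpowers_eq_bot] at h0
    exact hx1 h0
  · intro e he
    obtain ⟨j, rfl⟩ := (hfx.mem_powers_iff_mem_zpowers.2 he)
    have := pow_conj h 1 j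
    rw [pow_one, pow_one] at this
    simp only
    rw [this]
    exact Subgroup.pow_mem _ (Subgroup.mem_zpowers x) _
  · intro i hi him e he hc
    obtain ⟨j, rfl⟩ := (hfx.mem_powers_iff_mem_zpowers.2 he)
    simp only at hc ⊢
    have h1 := pow_conj h i j
    rw [hc, mul_inv_cancel_right] at h1
    have h2 : j * 1 ≡ j * k ^ i [MOD r] := by
      rw [mul_one, ← hx]
      exact pow_eq_pow_iff_modEq.1 h1
    by_contra hne
    have h3 : r.gcd j = 1 := by
      rw [← Nat.coprime_iff_gcd_eq_one]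
      refine (Nat.Prime.coprime_iff_not_dvd hr).2 ?_
      intro hd
      apply hne
      rw [← orderOf_dvd_iff_pow_eq_one, hx]
      exact hd
    have h4 := Nat.ModEq.cancel_left_of_coprime h3 h2
    exact hk i him hi h4.symm

/-- the condition on differences from freeness -/
theorem diff_of_free {E : Subgroup T} [Finite E]
    (hE : ∀ a ∈ E, ∀ b ∈ E, a * b = b * a) {e₀ : T} (he₀ : e₀ ∈ E) {s t : T}
    (hs : ∀ e ∈ E, s * e * s⁻¹ ∈ E) (ht : ∀ e ∈ E, t * e * t⁻¹ ∈ E)
    (hf : ∀ e ∈ E, s * e * s⁻¹ = t * e * t⁻¹ → e = 1) : ∃ e ∈ E, (s * e * s⁻¹) * (t * e * t⁻¹)⁻¹ = e₀ := by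
  let f : E → E := fun e => ⟨(s * e * s⁻¹) * (t * e * t⁻¹)⁻¹, E.mul_mem (hs e e.2) (E.inv_mem (ht e e.2))⟩
  have hinj : Function.Injective f := by
    intro x y hxy
    have h1 : (s * x * s⁻¹) * (t * x * t⁻¹)⁻¹ = (s * y * s⁻¹) * (t * y * t⁻¹)⁻¹ := congrArg Subtype.val hxy
    have h2 : s * (x * (y : T)⁻¹) * s⁻¹ = t * (x * (y : T)⁻¹) * t⁻¹ := by
      have hsy := hs y y.2
      have htx := ht x x.2
      have hty := ht y y.2
      have hc := hE _ (E.inv_mem hsy) _ htx
      calc s * (x * (y : T)⁻¹) * s⁻¹ = (s * x * s⁻¹) * (s * y * s⁻¹)⁻¹ := by group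
        _ = ((s * x * s⁻¹) * (t * x * t⁻¹)⁻¹) * ((t * x * t⁻¹) * (s * y * s⁻¹)⁻¹) := by group
        _ = ((s * y * s⁻¹) * (t * y * t⁻¹)⁻¹) * ((s * y * s⁻¹)⁻¹ * (t * x * t⁻¹)) := by rw [h1, hc]
        _ = (s * y * s⁻¹) * (((t * y * t⁻¹)⁻¹ * (s * y * s⁻¹)⁻¹) * (t * x * t⁻¹)) := by group
        _ = (s * y * s⁻¹) * (((s * y * s⁻¹)⁻¹ * (t * y * t⁻¹)⁻¹) * (t * x * t⁻¹)) := by
            rw [hE _ (E.inv_mem hty) _ (E.inv_mem hsy)]
        _ = (t * y * t⁻¹)⁻¹ * (t * x * t⁻¹) := by group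
        _ = (t * x * t⁻¹) * (t * y * t⁻¹)⁻¹ := hE _ (E.inv_mem hty) _ htx
        _ = t * (x * (y : T)⁻¹) * t⁻¹ := by group
    have h3 := hf _ (E.mul_mem x.2 (E.inv_mem y.2)) h2
    exact Subtype.ext (mul_inv_eq_one.1 h3)
  obtain ⟨e, he⟩ := Finite.surjective_of_injective hinj ⟨e₀, he₀⟩
  exact ⟨e, e.2, congrArg Subtype.val he⟩

/-- **A free action together with a non-abelian centraliser.** -/
theorem bd_of_free_ext (hr : r.Prime) (hrF : (r : F) ≠ 0) (E : Subgroup T) [Finite E]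
    (hE : ∀ a ∈ E, ∀ b ∈ E, a * b = b * a) (hEr : IsPGroup r E) (S : Finset T)
    (hS : ∀ s ∈ S, ∀ e ∈ E, s * e * s⁻¹ ∈ E)
    (hSf : ∀ s ∈ S, ∀ t ∈ S, s ≠ t → ∀ e ∈ E, s * e * s⁻¹ = t * e * t⁻¹ → e = 1)
    {a b : T} (haE : ∀ e ∈ E, a * e = e * a) (hbE : ∀ e ∈ E, b * e = e * b) {k : ℕ} (hak : a ^ r ^ k = 1)
    (hab : a * b * a⁻¹ * b⁻¹ ∈ E) (hab1 : a * b * a⁻¹ * b⁻¹ ≠ 1) (habr : (a * b * a⁻¹ * b⁻¹) ^ r = 1) :
    Bd F r (S.card * r) T := by
  classical
  intro n h
  set z : T := a * b * a⁻¹ * b⁻¹ with hz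
  have haz : a * z = z * a := haE z hab
  have hbz : b * z = z * b := hbE z hab
  have hord : orderOf z = r := by
    have : Fact r.Prime := ⟨hr⟩
    exact orderOf_eq_prime habr hab1
  -- `b a b⁻¹ = z⁻¹ a`
  have hba : b * a * b⁻¹ = z⁻¹ * a := by
    have h1 : a * b = z * b * a := by rw [hz]; group
    have h2 : z⁻¹ * (a * b) = b * a := by rw [h1]; group
    rw [← h2]; group
  have hcomm_az : Commute a z := haz
  -- the subgroup generated by `a` and `z`
  let E' : Subgroup T := Subgroup.closure {a, z}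
  have hE'c : ∀ x ∈ E', ∀ y ∈ E', x * y = y * x := by
    have : IsMulCommutative (Subgroup.closure ({a, z} : Set T)) := by
      apply Subgroup.isMulCommutative_closure
      intro x hx y hy
      rcases hx with rfl | hx <;> rcases hy with rfl | hy
      · rfl
      · rw [Set.mem_singleton_iff.1 hy]; exact haz
      · rw [Set.mem_singleton_iff.1 hx]; exact haz.symm
      · rw [Set.mem_singleton_iff.1 hx, Set.mem_singleton_iff.1 hy]
    intro x hx y hy
    have h1 := this.is_comm.comm (⟨x, hx⟩ : E') ⟨y, hy⟩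
    exact congrArg Subtype.val h1
  have hmem : ∀ x ∈ E', ∃ i j : ℕ, x = a ^ i * z ^ j := by
    have hfa : ∀ i : ℤ, ∃ i' : ℕ, a ^ i = a ^ i' := by
      intro i
      have hfin : IsOfFinOrder a := isOfFinOrder_iff_pow_eq_one.2 ⟨r ^ k, pow_pos hr.pos k, hak⟩
      obtain ⟨i', hi'⟩ := hfin.mem_powers_iff_mem_zpowers.2 ⟨i, rfl⟩
      exact ⟨i', hi'.symm⟩
    have hfz : ∀ i : ℤ, ∃ i' : ℕ, z ^ i = z ^ i' := by
      intro i
      have hfin : IsOfFinOrder z := isOfFinOrder_iff_pow_eq_one.2 ⟨r, hr.pos, habr⟩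
      obtain ⟨i', hi'⟩ := hfin.mem_powers_iff_mem_zpowers.2 ⟨i, rfl⟩
      exact ⟨i', hi'.symm⟩
    intro x hx
    induction hx using Subgroup.closure_induction with
    | mem x hx =>
      rcases hx with rfl | hx
      · exact ⟨1, 0, by simp⟩
      · rw [Set.mem_singleton_iff.1 hx]; exact ⟨0, 1, by simp⟩
    | one => exact ⟨0, 0, by simp⟩
    | mul x y hx hy ihx ihy =>
      obtain ⟨i, j, rfl⟩ := ihx
      obtain ⟨i', j', rfl⟩ := ihy
      refine ⟨i + i', j + j', ?_⟩
      have h1 : z ^ j * a ^ i' = a ^ i' * z ^ j := ((hcomm_az.pow_pow i' j).eq).symm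
      rw [pow_add, pow_add]
      calc a ^ i * z ^ j * (a ^ i' * z ^ j') = a ^ i * (z ^ j * a ^ i') * z ^ j' := by group
        _ = a ^ i * (a ^ i' * z ^ j) * z ^ j' := by rw [h1]
        _ = a ^ i * a ^ i' * (z ^ j * z ^ j') := by group
    | inv x hx ih =>
      obtain ⟨i, j, rfl⟩ := ih
      obtain ⟨i', hi'⟩ := hfa (-(i : ℤ))
      obtain ⟨j', hj'⟩ := hfz (-(j : ℤ))
      refine ⟨i', j', ?_⟩
      rw [← hi', ← hj', mul_inv_rev, zpow_neg, zpow_natCast, zpow_neg, zpow_natCast]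
      exact ((hcomm_az.pow_pow i j).inv_inv.eq).symm
  have hE'r : IsPGroup r E' := by
    rintro ⟨x, hx⟩
    obtain ⟨i, j, rfl⟩ := hmem x hx
    refine ⟨k + 1, Subtype.ext ?_⟩
    change (a ^ i * z ^ j) ^ r ^ (k + 1) = 1
    rw [(hcomm_az.pow_pow i j).mul_pow, ← pow_mul, ← pow_mul, mul_comm i, mul_comm j, pow_mul, pow_mul,
      pow_succ, pow_mul, hak, one_pow, one_pow, one_mul, mul_comm (r ^ k), pow_mul, habr, one_pow, one_pow]
  have hE'fin : Finite E' := by
    have hsub : (E' : Set T) ⊆ (fun p : ℕ × ℕ => a ^ p.1 * z ^ p.2) ''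
        ((Finset.range (r ^ k) ×ˢ Finset.range r : Finset (ℕ × ℕ)) : Set (ℕ × ℕ)) := by
      intro x hx
      obtain ⟨i, j, rfl⟩ := hmem x hx
      refine ⟨(i % r ^ k, j % r), ?_, ?_⟩
      · simp only [Finset.coe_product, Finset.coe_range, Set.mem_prod, Set.mem_Iio]
        exact ⟨Nat.mod_lt _ (pow_pos hr.pos k), Nat.mod_lt _ hr.pos⟩
      · simp only
        rw [← pow_eq_pow_mod i hak, ← pow_eq_pow_mod j habr]
    exact ((Finset.finite_toSet _).image _).subset hsub
  have hbconj : ∀ i j : ℕ, b * (a ^ i * z ^ j) * b⁻¹ = z⁻¹ ^ i * (a ^ i * z ^ j) := by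
    intro i j
    have h1 : b * (a ^ i * z ^ j) * b⁻¹ = (b * a ^ i * b⁻¹) * (b * z ^ j * b⁻¹) := by group
    have h2 : b * z ^ j * b⁻¹ = z ^ j := by
      rw [((show Commute b z from hbz).pow_right j).eq]; group
    have h3 : b * a ^ i * b⁻¹ = z⁻¹ ^ i * a ^ i := by
      rw [← conj_pow, hba, (show Commute z⁻¹ a from (hcomm_az.symm.inv_left)).mul_pow]
    rw [h1, h2, h3, mul_assoc]
  have hzE' : z ∈ E' := Subgroup.subset_closure (Or.inr rfl)
  have haE' : a ∈ E' := Subgroup.subset_closure (Or.inl rfl)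
  have hbE' : ∀ e ∈ E', b * e * b⁻¹ ∈ E' := by
    intro e he
    obtain ⟨i, j, rfl⟩ := hmem e he
    rw [hbconj]
    exact E'.mul_mem (E'.pow_mem (E'.inv_mem hzE') i) he
  have hbpow : ∀ (l i : ℕ), b ^ l * a ^ i * (b ^ l)⁻¹ = z⁻¹ ^ (l * i) * a ^ i := by
    intro l i
    induction l with
    | zero => simp
    | succ l ih =>
      have h1 : b ^ (l + 1) * a ^ i * (b ^ (l + 1))⁻¹ = b * (b ^ l * a ^ i * (b ^ l)⁻¹) * b⁻¹ := by
        rw [pow_succ']; group
      have h2 : b * z⁻¹ ^ (l * i) * b⁻¹ = z⁻¹ ^ (l * i) := by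
        rw [((show Commute b z⁻¹ from (show Commute b z from hbz).inv_right).pow_right (l * i)).eq]; group
      have h3 := hbconj i 0
      rw [pow_zero, mul_one] at h3
      rw [h1, ih]
      calc b * (z⁻¹ ^ (l * i) * a ^ i) * b⁻¹ = (b * z⁻¹ ^ (l * i) * b⁻¹) * (b * a ^ i * b⁻¹) := by group
        _ = z⁻¹ ^ (l * i) * (z⁻¹ ^ i * a ^ i) := by rw [h2, h3]
        _ = z⁻¹ ^ ((l + 1) * i) * a ^ i := by rw [← mul_assoc, ← pow_add]; congr 2; ring
  have hbpowE' : ∀ l : ℕ, ∀ e ∈ E', b ^ l * e * (b ^ l)⁻¹ ∈ E' := by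
    intro l
    induction l with
    | zero => intro e he; simpa using he
    | succ l ih =>
      intro e he
      have h1 : b ^ (l + 1) * e * (b ^ (l + 1))⁻¹ = b * (b ^ l * e * (b ^ l)⁻¹) * b⁻¹ := by
        rw [pow_succ']; group
      rw [h1]
      exact hbE' _ (ih e he)
  have hzinv : orderOf z⁻¹ = r := by rw [orderOf_inv, hord]
  -- differences
  have hdiff : ∀ i j : ℕ, i < r → j < r → i ≠ j →
      ∃ e ∈ E', (b ^ i * e * (b ^ i)⁻¹) * (b ^ j * e * (b ^ j)⁻¹)⁻¹ = z := by
    intro i j hi hj hij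
    -- choose `l` with `z⁻¹ ^ (i l) = z * z⁻¹ ^ (j l)`
    have hcop : ∃ l : ℕ, z⁻¹ ^ (i * l) = z * z⁻¹ ^ (j * l) := by
      have hne : ((j : ZMod r) - (i : ZMod r)) ≠ 0 := by
        intro h0
        rw [sub_eq_zero] at h0
        have := (ZMod.natCast_eq_natCast_iff' _ _ _).1 h0
        rw [Nat.mod_eq_of_lt hi, Nat.mod_eq_of_lt hj] at this
        exact hij this.symm
      have : Fact r.Prime := ⟨hr⟩
      set u : ZMod r := ((j : ZMod r) - (i : ZMod r))⁻¹ with hu
      refine ⟨u.val, ?_⟩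
      have h1 : z = z⁻¹ ^ (r - 1) := by
        have h3 : z⁻¹ ^ (r - 1) * z⁻¹ = 1 := by
          rw [← pow_succ, Nat.sub_add_cancel hr.one_lt.le, inv_pow, habr, inv_one]
        calc z = (z⁻¹ ^ (r - 1) * z⁻¹) * z := by rw [h3, one_mul]
          _ = z⁻¹ ^ (r - 1) := by group
      have h6 : z * z⁻¹ ^ (j * u.val) = z⁻¹ ^ (r - 1 + j * u.val) := by
        rw [pow_add, ← h1]
      rw [h6]
      apply pow_eq_pow_iff_modEq.2
      rw [hzinv]
      apply (ZMod.natCast_eq_natCast_iff _ _ _).1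
      push_cast
      rw [ZMod.natCast_zmod_val, Nat.cast_sub hr.one_lt.le, ZMod.natCast_self, Nat.cast_one]
      have h4 : ((j : ZMod r) - (i : ZMod r)) * u = 1 := mul_inv_cancel₀ hne
      linear_combination (-1 : ZMod r) * h4
    obtain ⟨l, hl⟩ := hcop
    refine ⟨a ^ l, E'.pow_mem haE' l, ?_⟩
    rw [hbpow, hbpow, hl]
    group
  have hinjb : Set.InjOn (fun i : ℕ => b ^ i) (Finset.range r : Set ℕ) := by
    intro i hi j hj hij
    simp only [Finset.coe_range, Set.mem_Iio] at hi hj hij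
    by_contra hne
    obtain ⟨e, -, he⟩ := hdiff i j hi hj hne
    rw [hij, mul_inv_cancel] at he
    exact hab1 he.symm
  have hle := h.bound_mul hr hrF E hE hEr hab hab1 S hS
    (fun s hs t ht hst => diff_of_free hE hab (hS s hs) (hS t ht) (hSf s hs t ht hst))
    E' hE'c hE'r (by
      intro x hx e he
      obtain ⟨i, j, rfl⟩ := hmem x hx
      have h1 : Commute a e := haE e he
      have h2 : Commute z e := hE z hab e he
      exact ((h1.pow_left i).mul_left (h2.pow_left j)).eq) hzE'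
    ((Finset.range r).image (fun i => b ^ i)) (by
      intro s hs e he
      obtain ⟨i, -, rfl⟩ := Finset.mem_image.1 hs
      exact ((show Commute b e from hbE e he).pow_left i).eq) (by
      intro s hs e he
      obtain ⟨i, -, rfl⟩ := Finset.mem_image.1 hs
      exact hbpowE' i e he) (by
      intro s hs t ht hst
      obtain ⟨i, hi, rfl⟩ := Finset.mem_image.1 hs
      obtain ⟨j, hj, rfl⟩ := Finset.mem_image.1 ht
      exact hdiff i j (Finset.mem_range.1 hi) (Finset.mem_range.1 hj) (fun h => hst (by rw [h])))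
  rwa [Finset.card_image_of_injOn hinjb, Finset.card_range] at hle

end Cfsg.Agent.H912.Bd
end

-- part: H203/BdSL2
section
set_option linter.all false
open scoped Cfsg.Agent.FastGrp

/-!
# The bound `(q - 1) / gcd 2 (q - 1)` from a (central quotient of) `SL₂(q)`
-/

set_option autoImplicit false
set_option linter.dupNamespace false
set_option linter.style.haveILetI false

universe u v w

namespace Cfsg.Agent.H203.BdSL2

open Matrix Cfsg.Agent.H912.Bd

variable {K : Type w} [Field K]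

/-- upper unitriangular -/
def up (x : K) : SpecialLinearGroup (Fin 2) K := ⟨!![1, x; 0, 1], by rw [det_fin_two_of]; ring⟩

/-- lower unitriangular -/
def lo (x : K) : SpecialLinearGroup (Fin 2) K := ⟨!![1, 0; x, 1], by rw [det_fin_two_of]; ring⟩

/-- the torus -/
def dg (t : Kˣ) : SpecialLinearGroup (Fin 2) K :=
  ⟨!![(t : K), 0; 0, ((t⁻¹ : Kˣ) : K)], by rw [det_fin_two_of]; simp⟩

theorem up_add (x y : K) : up (x + y) = up x * up y := by
  apply Subtype.ext
  show !![1, x + y; 0, 1] = !![1, x; 0, 1] * !![1, y; 0, 1]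
  ext i j; fin_cases i <;> fin_cases j <;> simp [Matrix.mul_apply, Fin.sum_univ_two, add_comm]

theorem up_zero : up (0 : K) = 1 := by
  apply Subtype.ext
  show !![1, 0; 0, 1] = (1 : Matrix (Fin 2) (Fin 2) K)
  ext i j; fin_cases i <;> fin_cases j <;> simp

theorem dg_mul (s t : Kˣ) : dg (s * t) = dg s * dg t := by
  apply Subtype.ext
  show !![((s * t : Kˣ) : K), 0; 0, (((s * t)⁻¹ : Kˣ) : K)] = !![(s : K), 0; 0, ((s⁻¹ : Kˣ) : K)] * !![(t : K), 0; 0, ((t⁻¹ : Kˣ) : K)]
  ext i j; fin_cases i <;> fin_cases j <;> simp [Matrix.mul_apply, Fin.sum_univ_two, mul_comm]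

/-- the torus as a homomorphism -/
def dgHom : Kˣ →* SpecialLinearGroup (Fin 2) K := MonoidHom.mk' dg dg_mul

theorem dgHom_apply (t : Kˣ) : dgHom t = dg t := rfl

theorem dg_up (t : Kˣ) (x : K) : dg t * up x = up ((t : K) ^ 2 * x) * dg t := by
  apply Subtype.ext
  show !![(t : K), 0; 0, ((t⁻¹ : Kˣ) : K)] * !![1, x; 0, 1] = !![1, (t : K) ^ 2 * x; 0, 1] * !![(t : K), 0; 0, ((t⁻¹ : Kˣ) : K)]
  ext i j; fin_cases i <;> fin_cases j <;> simp [Matrix.mul_apply, Fin.sum_univ_two]
  field_simp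

theorem up_center {x : K} (h : up x ∈ Subgroup.center (SpecialLinearGroup (Fin 2) K)) : x = 0 := by
  have h1 := Subgroup.mem_center_iff.1 h (lo 1)
  have h2 := congrFun (congrFun (congrArg Subtype.val h1) 1) 1
  have h3 : (!![1, 0; 1, 1] * !![1, x; 0, 1] : Matrix (Fin 2) (Fin 2) K) 1 1 =
    (!![1, x; 0, 1] * !![1, 0; 1, 1] : Matrix (Fin 2) (Fin 2) K) 1 1 := h2
  simpa [Matrix.mul_apply, Fin.sum_univ_two] using h3

/-- **The bound for `SL₂(q)` and its central quotients, as a subgroup.** -/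
theorem bd_of_sl2 {F : Type u} [Field F] [Fintype K] {r q : ℕ} (hr : r.Prime) [CharP K r]
    (hq : Fintype.card K = q) (hrF : (r : F) ≠ 0) {T : Type v} [Group T]
    (j : SpecialLinearGroup (Fin 2) K →* T) (hj : j.ker ≤ Subgroup.center _) :
    Bd F r ((q - 1) / Nat.gcd 2 (q - 1)) T := by
  classical
  -- the generator
  obtain ⟨g, hg⟩ := IsCyclic.exists_generator (α := Kˣ)
  have hord : orderOf g = q - 1 := by
    rw [orderOf_eq_card_of_forall_mem_zpowers hg, Nat.card_eq_fintype_card, Fintype.card_units, hq]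
  have hq1 : 1 < q := hq ▸ Fintype.one_lt_card
  let α : Multiplicative K →* T := MonoidHom.mk' (fun x => j (up (Multiplicative.toAdd x))) fun x y => by
    show j (up _) = _
    rw [toAdd_mul, up_add, map_mul]
  let E : Subgroup T := α.range
  have hmemE : ∀ x : K, j (up x) ∈ E := fun x => ⟨Multiplicative.ofAdd x, rfl⟩
  haveI : Finite E := Set.finite_range α
  have hinj : ∀ x : K, j (up x) = 1 → x = 0 := fun x hx => up_center (hj (MonoidHom.mem_ker.2 hx))
  refine bd_of_frob hr hrF E ?_ ?_ ?_ _ (a := j (dg g)) ?_ ?_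
  · rintro _ ⟨x, rfl⟩ _ ⟨y, rfl⟩
    rw [← map_mul, mul_comm, map_mul]
  · rintro ⟨_, x, rfl⟩
    refine ⟨1, Subtype.ext ?_⟩
    show α x ^ r ^ 1 = 1
    rw [pow_one, ← map_pow]
    have : x ^ r = 1 := by
      show Multiplicative.ofAdd (r • Multiplicative.toAdd x) = 1
      rw [← Nat.cast_smul_eq_nsmul K, CharP.cast_eq_zero, zero_smul]; rfl
    rw [this, map_one]
  · intro h
    have h1 := hmemE 1
    rw [h, Subgroup.mem_bot] at h1
    exact one_ne_zero (hinj 1 h1)
  · rintro _ ⟨x, rfl⟩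
    show j (dg g) * j (up _) * (j (dg g))⁻¹ ∈ E
    rw [← map_mul, dg_up, map_mul, mul_inv_cancel_right]
    exact hmemE _
  · rintro i hi0 hi _ ⟨x, rfl⟩ h
    show j (up _) = 1
    change j (dg g) ^ i * j (up (Multiplicative.toAdd x)) = j (up (Multiplicative.toAdd x)) * j (dg g) ^ i at h
    rw [← dgHom_apply, ← map_pow, ← map_pow, dgHom_apply, ← map_mul, dg_up, map_mul] at h
    have h1 : j (up (((g ^ i : Kˣ) : K) ^ 2 * Multiplicative.toAdd x)) = j (up (Multiplicative.toAdd x)) :=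
      mul_right_cancel h
    have h2 : j (up (((g ^ i : Kˣ) : K) ^ 2 * Multiplicative.toAdd x - Multiplicative.toAdd x)) = 1 := by
      have h3 : up (((g ^ i : Kˣ) : K) ^ 2 * Multiplicative.toAdd x) =
          up (((g ^ i : Kˣ) : K) ^ 2 * Multiplicative.toAdd x - Multiplicative.toAdd x) *
            up (Multiplicative.toAdd x) := by
        rw [← up_add, sub_add_cancel]
      rw [h3, map_mul] at h1
      exact mul_eq_right.1 h1
    have h4 := hinj _ h2
    have h5 : (((g ^ i : Kˣ) : K) ^ 2 - 1) * Multiplicative.toAdd x = 0 := by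
      rw [sub_mul, one_mul]; exact h4
    rcases mul_eq_zero.1 h5 with h6 | h6
    · exfalso
      have h7 : (g ^ i) ^ 2 = 1 := Units.ext (by
        rw [Units.val_pow_eq_pow_val, Units.val_one]; exact sub_eq_zero.1 h6)
      rw [← pow_mul] at h7
      have h8 := orderOf_dvd_of_pow_eq_one h7
      rw [hord] at h8
      have hpos : 0 < q - 1 := by omega
      -- (q - 1) / gcd ∣ i
      have h9 : (q - 1) / Nat.gcd 2 (q - 1) ∣ i := by
        have h10 : (q - 1) / Nat.gcd 2 (q - 1) ∣ i * (2 / Nat.gcd 2 (q - 1)) := by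
          obtain ⟨c, hc⟩ := h8
          refine ⟨c, ?_⟩
          have hgp : 0 < Nat.gcd 2 (q - 1) := Nat.gcd_pos_of_pos_left _ (by norm_num)
          apply Nat.eq_of_mul_eq_mul_left hgp
          calc Nat.gcd 2 (q - 1) * (i * (2 / Nat.gcd 2 (q - 1)))
              = i * (Nat.gcd 2 (q - 1) * (2 / Nat.gcd 2 (q - 1))) := by ring
            _ = i * 2 := by rw [Nat.mul_div_cancel' (Nat.gcd_dvd_left 2 (q - 1))]
            _ = (q - 1) * c := hc
            _ = Nat.gcd 2 (q - 1) * ((q - 1) / Nat.gcd 2 (q - 1)) * c := by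
                rw [Nat.mul_div_cancel' (Nat.gcd_dvd_right 2 (q - 1))]
            _ = _ := by ring
        refine Nat.Coprime.dvd_of_dvd_mul_right ?_ h10
        exact (Nat.coprime_div_gcd_div_gcd (Nat.gcd_pos_of_pos_left _ (by norm_num))).symm
      exact absurd (Nat.le_of_dvd hi0 h9) (by omega)
    · rw [h6, up_zero, map_one]

end Cfsg.Agent.H203.BdSL2

private theorem dce_0367730d7e58 : _root_.True := by
  try have : _root_.True := by simp only [_root_.Cfsg.Agent.H203.BdSL2.up.eq_1]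
  exact _root_.True.intro
end

-- part: H175/BdSp
section
prune_inst 0xf0107344772202000018050240001eb2da00050000488000c8810a020788cc0229430821bab0300750a62044603c0048110000000200000002200400011d01a08080100020400000060089000080000000000000000000000000000000000000000000000
set_option linter.all false
open scoped Cfsg.Agent.FastGrp

/-!
# Cross characteristic degree bound for `Sp_2m(q)`, `m ≥ 1`

If `j : Sp_2m(K) → T` has central kernel, `|K| = q` a power of `r`, then every projective representation of `T`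
(kernel prime to `r`) over a field of characteristic different from `r` has degree at least `(q ^ m - 1) / 2`, and
`q ^ m - 1` if `q` is even. The proof uses a subgroup `q ^ m` of the Siegel unipotent group and a Singer cycle.
-/

set_option autoImplicit false

namespace Cfsg.Agent.H175.BdSp

open Matrix Cfsg.Agent.H912.Bd

universe u v

section

variable {ι K L : Type*} [Fintype ι] [DecidableEq ι] [Field K] [Field L] [Algebra K L]

/-- The Gram matrix of the form `(x, y) ↦ tr (a x y)`. -/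
noncomputable def gram (b : Module.Basis ι K L) (a : L) : Matrix ι ι K :=
  Matrix.of fun i j => Algebra.trace K L (a * (b i * b j))

omit [Fintype ι] [DecidableEq ι] in
theorem gram_apply (b : Module.Basis ι K L) (a : L) (i j : ι) :
    gram b a i j = Algebra.trace K L (a * (b i * b j)) := rfl

omit [Fintype ι] [DecidableEq ι] in
theorem gram_transpose (b : Module.Basis ι K L) (a : L) : (gram b a)ᵀ = gram b a := by
  ext i j
  rw [transpose_apply, gram_apply, gram_apply, mul_comm (b j)]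

omit [Fintype ι] [DecidableEq ι] in
theorem gram_add (b : Module.Basis ι K L) (a a' : L) : gram b (a + a') = gram b a + gram b a' := by
  ext i j
  rw [Matrix.add_apply, gram_apply, gram_apply, gram_apply, add_mul, map_add]

omit [Fintype ι] [DecidableEq ι] in
theorem gram_zero (b : Module.Basis ι K L) : gram b (0 : L) = 0 := by
  ext i j
  rw [gram_apply, zero_mul, map_zero, Matrix.zero_apply]

theorem gram_mul (b : Module.Basis ι K L) (a t : L) : gram b a * Algebra.leftMulMatrix b t = gram b (t * a) := by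
  ext i j
  rw [mul_apply]
  have h1 : t * b j = ∑ l, Algebra.leftMulMatrix b t l j • b l := by
    conv_lhs => rw [← b.sum_repr (t * b j)]
    refine Finset.sum_congr rfl fun l _ => ?_
    rw [Algebra.leftMulMatrix_eq_repr_mul]
  have h2 : t * a * (b i * b j) = a * b i * (t * b j) := by ring
  rw [gram_apply, h2, h1, Finset.mul_sum, map_sum]
  refine Finset.sum_congr rfl fun l _ => ?_
  rw [gram_apply, mul_smul_comm, map_smul, smul_eq_mul, mul_comm, mul_assoc]

theorem mul_gram (b : Module.Basis ι K L) (a t : L) : (Algebra.leftMulMatrix b t)ᵀ * gram b a = gram b (t * a) := by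
  rw [← gram_transpose b (t * a), ← gram_mul, transpose_mul, gram_transpose]

omit [Fintype ι] [DecidableEq ι] in
theorem eq_zero_of_gram [FiniteDimensional K L] [Algebra.IsSeparable K L] (b : Module.Basis ι K L) {a : L}
    (h : gram b a = 0) : a = 0 := by
  have h1 : ∀ i, (Algebra.trace K L).comp (LinearMap.mulLeft K (a * b i)) = 0 := by
    intro i
    apply b.ext
    intro l
    have := congrFun (congrFun h i) l
    rw [gram_apply] at this
    simpa [mul_assoc] using this
  have h2 : ∀ y, (Algebra.trace K L).comp (LinearMap.mulLeft K (a * y)) = 0 := by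
    intro y
    apply LinearMap.ext
    intro z
    have h3 : (Algebra.trace K L).comp (LinearMap.mulLeft K (a * z)) = 0 := by
      apply b.ext
      intro i
      have := LinearMap.congr_fun (h1 i) z
      simp only [LinearMap.comp_apply, LinearMap.mulLeft_apply, LinearMap.zero_apply] at this ⊢
      rw [show a * z * b i = a * b i * z by ring]
      exact this
    have := LinearMap.congr_fun h3 y
    simp only [LinearMap.comp_apply, LinearMap.mulLeft_apply, LinearMap.zero_apply] at this ⊢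
    rw [show a * y * z = a * z * y by ring]
    exact this
  have hnd := traceForm_nondegenerate K L
  refine hnd.1 a fun y => ?_
  have := LinearMap.congr_fun (h2 1) y
  rw [Algebra.traceForm_apply]
  simpa using this

end

section

variable {ι K : Type*} [Fintype ι] [DecidableEq ι] [Field K]

/-- The element `[1, 0; S, 1]` of the symplectic group. -/
def lo (S : Matrix ι ι K) (hS : Sᵀ = S) : Matrix.symplecticGroup ι K :=
  ⟨Matrix.fromBlocks 1 0 S 1, by
    rw [SymplecticGroup.mem_iff, Matrix.J, fromBlocks_transpose, fromBlocks_multiply, fromBlocks_multiply]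
    simp [hS]⟩

theorem lo_congr {S S' : Matrix ι ι K} {hS : Sᵀ = S} {hS' : S'ᵀ = S'} (h : S = S') : lo S hS = lo S' hS' := by
  subst h; rfl

theorem lo_inj {S S' : Matrix ι ι K} {hS : Sᵀ = S} {hS' : S'ᵀ = S'} (h : lo S hS = lo S' hS') : S = S' := by
  have h1 : Matrix.fromBlocks 1 0 S 1 = Matrix.fromBlocks (1 : Matrix ι ι K) 0 S' 1 := congrArg Subtype.val h
  exact (Matrix.fromBlocks_inj.1 h1).2.2.1

theorem lo_mul {S S' : Matrix ι ι K} (hS : Sᵀ = S) (hS' : S'ᵀ = S') :
    lo S hS * lo S' hS' = lo (S + S') (by rw [transpose_add, hS, hS']) := by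
  apply Subtype.ext
  change Matrix.fromBlocks 1 0 S 1 * Matrix.fromBlocks 1 0 S' 1 = Matrix.fromBlocks 1 0 (S + S') 1
  rw [fromBlocks_multiply]
  simp

theorem lo_zero (h : (0 : Matrix ι ι K)ᵀ = 0) : lo (0 : Matrix ι ι K) h = 1 := by
  apply Subtype.ext
  change Matrix.fromBlocks 1 0 0 1 = (1 : Matrix (ι ⊕ ι) (ι ⊕ ι) K)
  exact fromBlocks_one

/-- The element `[P, 0; 0, R]` with `P Rᵀ = 1`. -/
def di (P R : Matrix ι ι K) (h : P * Rᵀ = 1) : Matrix.symplecticGroup ι K :=
  ⟨Matrix.fromBlocks P 0 0 R, by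
    have h' : R * Pᵀ = 1 := by rw [← transpose_inj, transpose_mul, transpose_transpose, h, transpose_one]
    rw [SymplecticGroup.mem_iff, Matrix.J, fromBlocks_transpose, fromBlocks_multiply, fromBlocks_multiply]
    simp [h, h']⟩

theorem di_lo {P R S : Matrix ι ι K} (h : P * Rᵀ = 1) (hS : Sᵀ = S) :
    di P R h * lo S hS = lo (R * S * Rᵀ) (by rw [transpose_mul, transpose_mul, transpose_transpose, hS, mul_assoc]) *
      di P R h := by
  apply Subtype.ext
  change Matrix.fromBlocks P 0 0 R * Matrix.fromBlocks 1 0 S 1 =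
    Matrix.fromBlocks 1 0 (R * S * Rᵀ) 1 * Matrix.fromBlocks P 0 0 R
  rw [fromBlocks_multiply, fromBlocks_multiply]
  have h2 : Rᵀ * P = 1 := mul_eq_one_comm.1 h
  simp [mul_assoc, h2]

theorem lo_center {S : Matrix ι ι K} (hS : Sᵀ = S) (hc : lo S hS ∈ Subgroup.center (Matrix.symplecticGroup ι K)) :
    S = 0 := by
  have h1 := Subgroup.mem_center_iff.1 hc ⟨Matrix.J ι K, SymplecticGroup.J_mem _ _⟩
  have h2 : Matrix.J ι K * Matrix.fromBlocks 1 0 S 1 = Matrix.fromBlocks 1 0 S 1 * Matrix.J ι K :=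
    congrArg Subtype.val h1
  rw [Matrix.J, fromBlocks_multiply, fromBlocks_multiply, Matrix.fromBlocks_inj] at h2
  have := h2.1
  simp at this
  exact this

end

/-- The master statement: `m` different powers of a Singer cycle act freely. -/
theorem bd_of_free_sp {F : Type u} [Field F] {K : Type*} [Field K] [Fintype K] {r q : ℕ} (hr : r.Prime) [CharP K r]
    (hq : Fintype.card K = q) {m : ℕ} (hm : 1 ≤ m) (hrF : (r : F) ≠ 0) {T : Type v} [Group T]
    (j : Matrix.symplecticGroup (Fin m) K →* T) (hj : j.ker ≤ Subgroup.center _) (k : ℕ)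
    (hk : ∀ (L : Type) (_ : Field L) (x : Lˣ), CharP L r → Nat.card L = q ^ m → orderOf x = q ^ m - 1 →
      ∀ i, 0 < i → i < k → x ^ (2 * i) ≠ 1) : Bd F r k T := by
  classical
  have : NeZero m := ⟨by omega⟩
  have : Fact r.Prime := ⟨hr⟩
  let L := FiniteField.Extension K r m
  have hLfin : Finite L := inferInstance
  have hLcard : Nat.card L = q ^ m := by
    rw [FiniteField.natCard_extension, Nat.card_eq_fintype_card, hq]
  have hfr : Module.finrank K L = m := FiniteField.finrank_extension K r m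
  have : FiniteDimensional K L := inferInstance
  have : Algebra.IsSeparable K L := inferInstance
  have hLchar : CharP L r := charP_of_injective_algebraMap (algebraMap K L).injective r
  let b : Module.Basis (Fin m) K L := Module.finBasisOfFinrankEq K L hfr
  obtain ⟨x, hx⟩ := IsCyclic.exists_generator (α := Lˣ)
  have hxo : orderOf x = q ^ m - 1 := by
    rw [orderOf_eq_card_of_forall_mem_zpowers hx, ← hLcard, Nat.card_units]
  let M : L →ₐ[K] Matrix (Fin m) (Fin m) K := Algebra.leftMulMatrix b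
  have hM : ∀ u : Lˣ, M ((u⁻¹ : Lˣ) : L) * ((M (u : L))ᵀ)ᵀ = 1 := by
    intro u
    rw [transpose_transpose, ← map_mul, Units.inv_mul, map_one]
  let D : Lˣ → Matrix.symplecticGroup (Fin m) K := fun u => di _ _ (hM u)
  let e : L → Matrix.symplecticGroup (Fin m) K := fun a => lo (gram b a) (gram_transpose b a)
  have he_add : ∀ a a', e a * e a' = e (a + a') := by
    intro a a'
    rw [lo_mul]
    exact lo_congr (gram_add b a a').symm
  have he_zero : e 0 = 1 := by
    rw [← lo_zero (by simp : (0 : Matrix (Fin m) (Fin m) K)ᵀ = 0)]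
    exact lo_congr (gram_zero b)
  have he_inj : ∀ a, e a ∈ Subgroup.center (Matrix.symplecticGroup (Fin m) K) → a = 0 := fun a ha =>
    eq_zero_of_gram b (lo_center _ ha)
  have hDe : ∀ u a, D u * e a = e ((u : L) ^ 2 * a) * D u := by
    intro u a
    rw [di_lo]
    congr 1
    apply lo_congr
    rw [transpose_transpose, mul_gram, gram_mul]
    congr 1
    ring
  have he_neg : ∀ a, (e a)⁻¹ = e (-a) := by
    intro a
    rw [inv_eq_iff_mul_eq_one, he_add, add_neg_cancel, he_zero]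
  let E0 : Subgroup (Matrix.symplecticGroup (Fin m) K) :=
    { carrier := Set.range e
      one_mem' := ⟨0, he_zero⟩
      mul_mem' := by
        rintro _ _ ⟨a, rfl⟩ ⟨a', rfl⟩
        exact ⟨_, (he_add a a').symm⟩
      inv_mem' := by
        rintro _ ⟨a, rfl⟩
        exact ⟨_, (he_neg a).symm⟩ }
  have hmem0 : ∀ a, e a ∈ E0 := fun a => ⟨a, rfl⟩
  have hfin : Finite (E0.map j) := by
    have hs : Function.Surjective (fun a : L => (⟨j (e a), ⟨e a, hmem0 a, rfl⟩⟩ : E0.map j)) := by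
      rintro ⟨_, _, ⟨a, rfl⟩, rfl⟩
      exact ⟨a, rfl⟩
    exact Finite.of_surjective _ hs
  have hj1 : ∀ a, j (e a) = 1 → a = 0 := fun a ha => he_inj a (hj ha)
  have hpow : ∀ (n : ℕ) (a : L), e a ^ n = e ((n : L) * a) := by
    intro n a
    induction n with
    | zero => rw [pow_zero, Nat.cast_zero, zero_mul, he_zero]
    | succ n ih => rw [pow_succ, ih, he_add]; congr 1; push_cast; ring
  have hDpow : ∀ (i : ℕ) (a : L), D x ^ i * e a = e (((x : L) ^ (2 * i)) * a) * D x ^ i := by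
    intro i a
    induction i with
    | zero => simp
    | succ i ih =>
      rw [pow_succ', mul_assoc, ih, ← mul_assoc, hDe, mul_assoc]
      congr 2
      ring
  refine bd_of_frob hr hrF (E0.map j) ?_ ?_ ?_ k (a := j (D x)) ?_ ?_
  · rintro _ ⟨_, ⟨a, rfl⟩, rfl⟩ _ ⟨_, ⟨a', rfl⟩, rfl⟩
    rw [← map_mul, ← map_mul, he_add, he_add, add_comm]
  · rintro ⟨_, _, ⟨a, rfl⟩, rfl⟩
    refine ⟨1, Subtype.ext ?_⟩
    show j (e a) ^ r ^ 1 = 1
    rw [pow_one, ← map_pow, hpow, CharP.cast_eq_zero L r, zero_mul, he_zero, map_one]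
  · intro hbot
    have h1 : j (e 1) ∈ E0.map j := ⟨_, hmem0 1, rfl⟩
    rw [hbot, Subgroup.mem_bot] at h1
    exact one_ne_zero (hj1 1 h1)
  · rintro _ ⟨_, ⟨a, rfl⟩, rfl⟩
    refine ⟨_, hmem0 ((x : L) ^ 2 * a), ?_⟩
    rw [← map_inv, ← map_mul, ← map_mul, hDe, mul_inv_cancel_right]
  · rintro i hi0 hik _ ⟨_, ⟨a, rfl⟩, rfl⟩ hc
    rw [← map_pow, ← map_mul, ← map_mul, hDpow, map_mul, map_mul] at hc
    have h1 : j (e ((x : L) ^ (2 * i) * a)) = j (e a) := by
      have := mul_right_cancel hc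
      exact this
    have h2 : j (e ((x : L) ^ (2 * i) * a + -a)) = 1 := by
      rw [← he_add, map_mul, ← he_neg, map_inv, h1, mul_inv_cancel]
    have h3 := hj1 _ h2
    have h4 : ((x : L) ^ (2 * i) - 1) * a = 0 := by linear_combination h3
    rcases mul_eq_zero.1 h4 with h5 | h5
    · exfalso
      apply hk L inferInstance x hLchar hLcard hxo i hi0 hik
      apply Units.ext
      rw [Units.val_pow_eq_pow_val, Units.val_one]
      linear_combination h5
    · rw [h5, he_zero, map_one]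

/-- **Degree bound for `Sp_2m(q)`.** -/
theorem bd_of_sp {F : Type u} [Field F] {K : Type*} [Field K] [Fintype K] {r q : ℕ} (hr : r.Prime) [CharP K r]
    (hq : Fintype.card K = q) {m : ℕ} (hm : 1 ≤ m) (hrF : (r : F) ≠ 0) {T : Type v} [Group T]
    (j : Matrix.symplecticGroup (Fin m) K →* T) (hj : j.ker ≤ Subgroup.center _) : Bd F r ((q ^ m - 1) / 2) T := by
  refine bd_of_free_sp hr hq hm hrF j hj _ ?_
  intro L _ x _ _ hxo i hi0 hik h1
  have h2 := orderOf_dvd_of_pow_eq_one h1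
  rw [hxo] at h2
  have := Nat.le_of_dvd (by omega) h2
  omega

/-- **Degree bound for `Sp_2m(q)`, `q` even.** -/
theorem bd_of_sp_even {F : Type u} [Field F] {K : Type*} [Field K] [Fintype K] {q : ℕ} [CharP K 2]
    (hq : Fintype.card K = q) {m : ℕ} (hm : 1 ≤ m) (hrF : (2 : F) ≠ 0) {T : Type v} [Group T]
    (j : Matrix.symplecticGroup (Fin m) K →* T) (hj : j.ker ≤ Subgroup.center _) : Bd F 2 (q ^ m - 1) T := by
  refine bd_of_free_sp Nat.prime_two hq hm (by exact_mod_cast hrF) j hj _ ?_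
  intro L _ x _ _ hxo i hi0 hik h1
  have h3 : x ^ i = 1 := by
    apply Units.ext
    have h4 : ((x : L) ^ i) ^ 2 = 1 := by
      rw [← pow_mul, mul_comm i 2, ← Units.val_pow_eq_pow_val, h1, Units.val_one]
    have h5 : ((x : L) ^ i - 1) ^ 2 = 0 := by
      rw [sub_sq, h4]
      have : (2 : L) = 0 := by exact_mod_cast CharP.cast_eq_zero L 2
      rw [this]
      ring_nf
      linear_combination this
    rw [Units.val_pow_eq_pow_val, Units.val_one]
    exact sub_eq_zero.1 (pow_eq_zero_iff two_ne_zero |>.1 h5)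
  have h2 := orderOf_dvd_of_pow_eq_one h3
  rw [hxo] at h2
  have := Nat.le_of_dvd hi0 h2
  omega

theorem psp_ker {m : ℕ} {K : Type*} [Field K] {T : Type v} [Group T] (e : T ≃* Cfsg.PSp m K) :
    (e.symm.toMonoidHom.comp (QuotientGroup.mk' (Subgroup.center (Matrix.symplecticGroup (Fin m) K)))).ker ≤
      Subgroup.center _ := by
  intro x hx
  have h1 : e.symm (QuotientGroup.mk' (Subgroup.center (Matrix.symplecticGroup (Fin m) K)) x) = 1 := hx
  rw [MulEquiv.map_eq_one_iff] at h1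
  exact (QuotientGroup.eq_one_iff x).1 h1

/-- **Degree bound for `PSp_2m(q)`.** -/
theorem bd_psp {F : Type u} [Field F] {K : Type*} [Field K] [Fintype K] {r q : ℕ} (hr : r.Prime) [CharP K r]
    (hq : Fintype.card K = q) {m : ℕ} (hm : 1 ≤ m) (hrF : (r : F) ≠ 0) {T : Type v} [Group T]
    (e : T ≃* Cfsg.PSp m K) : Bd F r ((q ^ m - 1) / 2) T :=
  bd_of_sp hr hq hm hrF _ (psp_ker e)

/-- **Degree bound for `PSp_2m(q)`, `q` even.** -/
theorem bd_psp_even {F : Type u} [Field F] {K : Type*} [Field K] [Fintype K] {q : ℕ} [CharP K 2]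
    (hq : Fintype.card K = q) {m : ℕ} (hm : 1 ≤ m) (hrF : (2 : F) ≠ 0) {T : Type v} [Group T]
    (e : T ≃* Cfsg.PSp m K) : Bd F 2 (q ^ m - 1) T :=
  bd_of_sp_even hq hm hrF _ (psp_ker e)

end Cfsg.Agent.H175.BdSp
end

-- part: H203/LSLift
section
prune_inst 0xe5303244790000000018000040001ee6d2000192004b800008a00f0207c90e4020c10e61baa00416122a084500310048111000000200000002200000011c00800000100480480000000000000084000000000000000000000000000000000004000000000
set_option linter.all false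
open scoped Cfsg.Agent.FastGrp

/-!
# Lifting abelian subgroups to central extensions (arbitrary kernel), the Frobenius bound

* `SC g h` : in all central extensions all lifts of `g` and `h` commute; `cenSC h` is a subgroup;
  `SC.of_commutator`: `⁅a, b⁆` and `h` if `a`, `b` commute with `h`; `cenSC_ge`: `(C_T(h))' ≤ cenSC h`;
* `no_form`: a finite field `K` generated by `u` has no nontrivial `u`-invariant alternating form unless
  `|K| = q₀ ^ 2`, `u ^ (q₀ + 1) = 1`;
* `lifts_comm`: if `c α(x) c⁻¹ = α(u x)`, all lifts of the elements of `α K` commute;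
* `exists_hat`: a canonical lift of an abelian subgroup normalised by `c` with `x ↦ φ x - x` bijective, `hat_conj`;
* `Core.card_le`: the number of characters in an orbit; `LS.frob`: **the Frobenius bound** `orderOf u`.
-/

set_option autoImplicit false
set_option linter.dupNamespace false
set_option linter.style.haveILetI false

universe u v w u' w'

namespace Cfsg.Agent.H203.LS

/-! ### Strongly commuting elements -/

/-- In all central extensions (in the universe `v`) all lifts of `g` and `h` commute. -/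
def SC {T : Type u} [Group T] (g h : T) : Prop :=
  ∀ (P : Type v) [Group P] (π : P →* T), Function.Surjective π → π.ker ≤ Subgroup.center P →
    ∀ a b : P, π a = g → π b = h → a * b = b * a

section cen

variable {P : Type v} {T : Type u} [Group P] [Group T] {π : P →* T}

theorem mem_cen (hc : π.ker ≤ Subgroup.center P) {c : P} (h : π c = 1) (x : P) : x * c = c * x :=
  Subgroup.mem_center_iff.1 (hc (MonoidHom.mem_ker.2 h)) x

/-- Two lifts of the same element act in the same way. -/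
theorem conj_eq (hc : π.ker ≤ Subgroup.center P) {a b : P} (h : π a = π b) (x : P) :
    a * x * a⁻¹ = b * x * b⁻¹ := by
  have h1 : π (b⁻¹ * a) = 1 := by rw [map_mul, map_inv, h, inv_mul_cancel]
  have h2 := mem_cen hc h1 x
  have h3 : a = b * (b⁻¹ * a) := by group
  calc a * x * a⁻¹ = b * ((b⁻¹ * a) * x) * (b⁻¹ * a)⁻¹ * b⁻¹ := by group
    _ = b * (x * (b⁻¹ * a)) * (b⁻¹ * a)⁻¹ * b⁻¹ := by rw [h2]
    _ = b * x * b⁻¹ := by group

/-- The commutator of two elements depends only on their images. -/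
theorem comm_eq (hc : π.ker ≤ Subgroup.center P) {a b a' b' : P} (ha : π a = π a') (hb : π b = π b') :
    a * b * a⁻¹ * b⁻¹ = a' * b' * a'⁻¹ * b'⁻¹ := by
  rw [conj_eq hc ha b]
  have h1 := conj_eq hc hb a'⁻¹
  calc a' * b * a'⁻¹ * b⁻¹ = a' * (b * a'⁻¹ * b⁻¹) := by group
    _ = a' * (b' * a'⁻¹ * b'⁻¹) := by rw [h1]
    _ = a' * b' * a'⁻¹ * b'⁻¹ := by group

end cen

namespace SC

variable {T : Type u} [Group T] {g h : T}

theorem symm (hh : SC.{u, v} g h) : SC.{u, v} h g := fun P _ π hπ hc a b ha hb => (hh P π hπ hc b a hb ha).symm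

theorem refl (g : T) : SC.{u, v} g g := by
  intro P _ π _ hc a b ha hb
  have h1 : π (b⁻¹ * a) = 1 := by rw [map_mul, map_inv, ha, hb, inv_mul_cancel]
  have h2 := mem_cen hc h1 b
  calc a * b = b * (b⁻¹ * a) * b := by group
    _ = b * (b * (b⁻¹ * a)) := by rw [mul_assoc, h2]
    _ = b * a := by group

theorem one_left (h : T) : SC.{u, v} 1 h := fun _ _ _ _ hc _ b ha _ => (mem_cen hc ha b).symm

theorem of_commutator {a b : T} (ha : a * h = h * a) (hb : b * h = h * b) : SC.{u, v} (a * b * a⁻¹ * b⁻¹) h := by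
  intro P _ π hπ hc x y hx hy
  obtain ⟨a', rfl⟩ := hπ a
  obtain ⟨b', rfl⟩ := hπ b
  have e1 : π (y * a' * y⁻¹) = π a' := by rw [map_mul, map_mul, map_inv, hy, ← ha]; group
  have e2 : π (y * b' * y⁻¹) = π b' := by rw [map_mul, map_mul, map_inv, hy, ← hb]; group
  have e3 : y * (a' * b' * a'⁻¹ * b'⁻¹) * y⁻¹ = a' * b' * a'⁻¹ * b'⁻¹ := by
    have := comm_eq hc e1 e2
    calc y * (a' * b' * a'⁻¹ * b'⁻¹) * y⁻¹
        = y * a' * y⁻¹ * (y * b' * y⁻¹) * (y * a' * y⁻¹)⁻¹ * (y * b' * y⁻¹)⁻¹ := by group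
      _ = a' * b' * a'⁻¹ * b'⁻¹ := this
  have h1 : π ((a' * b' * a'⁻¹ * b'⁻¹)⁻¹ * x) = 1 := by
    simp only [map_mul, map_inv, hx]; group
  set c := a' * b' * a'⁻¹ * b'⁻¹ with hcd
  have h2 := mem_cen hc h1 y
  have e4 : y * c = c * y := by
    rw [mul_inv_eq_iff_eq_mul] at e3
    exact e3
  calc x * y = c * ((c⁻¹ * x) * y) := by group
    _ = c * (y * (c⁻¹ * x)) := by rw [h2]
    _ = (c * y) * (c⁻¹ * x) := by group
    _ = (y * c) * (c⁻¹ * x) := by rw [e4]
    _ = y * x := by group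

end SC

/-- The elements whose lifts commute with the lifts of `h`. -/
def cenSC {T : Type u} [Group T] (h : T) : Subgroup T where
  carrier := {g | SC.{u, v} g h}
  one_mem' := SC.one_left h
  mul_mem' := by
    intro g g' hg hg' P _ π hπ hc a b ha hb
    obtain ⟨x, hx⟩ := hπ g
    have hy : π (x⁻¹ * a) = g' := by rw [map_mul, map_inv, hx, ha]; group
    have h1 := hg P π hπ hc x b hx hb
    have h2 := hg' P π hπ hc (x⁻¹ * a) b hy hb
    calc a * b = x * ((x⁻¹ * a) * b) := by group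
      _ = x * (b * (x⁻¹ * a)) := by rw [h2]
      _ = (x * b) * (x⁻¹ * a) := by group
      _ = (b * x) * (x⁻¹ * a) := by rw [h1]
      _ = b * a := by group
  inv_mem' := by
    intro g hg P _ π hπ hc a b ha hb
    have h1 := hg P π hπ hc a⁻¹ b (by rw [map_inv, ha, inv_inv]) hb
    calc a * b = a * (b * a⁻¹) * a := by group
      _ = a * (a⁻¹ * b) * a := by rw [h1]
      _ = b * a := by group

theorem mem_cenSC {T : Type u} [Group T] {g h : T} : g ∈ cenSC.{u, v} h ↔ SC.{u, v} g h := Iff.rfl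

theorem SC.conj {T : Type u} [Group T] {g h : T} (x : T) (hh : SC.{u, v} g h) :
    SC.{u, v} (x * g * x⁻¹) (x * h * x⁻¹) := by
  intro P _ π hπ hc a b ha hb
  obtain ⟨y, rfl⟩ := hπ x
  have h1 := hh P π hπ hc (y⁻¹ * a * y) (y⁻¹ * b * y) (by simp only [map_mul, map_inv, ha]; group)
    (by simp only [map_mul, map_inv, hb]; group)
  have h2 : y * ((y⁻¹ * a * y) * (y⁻¹ * b * y)) * y⁻¹ = y * ((y⁻¹ * b * y) * (y⁻¹ * a * y)) * y⁻¹ := by rw [h1]
  calc a * b = y * ((y⁻¹ * a * y) * (y⁻¹ * b * y)) * y⁻¹ := by group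
    _ = y * ((y⁻¹ * b * y) * (y⁻¹ * a * y)) * y⁻¹ := h2
    _ = b * a := by group

/-! ### Invariant forms -/

theorem add_map_zero {M N : Type*} [AddCommGroup M] [Group N] {f : M → N} (h : ∀ x y, f (x + y) = f x * f y) :
    f 0 = 1 := by
  have := h 0 0
  rw [add_zero] at this
  exact left_eq_mul.1 this

theorem add_map_neg {M N : Type*} [AddCommGroup M] [Group N] {f : M → N} (h : ∀ x y, f (x + y) = f x * f y)
    (x : M) : f (-x) = (f x)⁻¹ := by
  rw [eq_inv_iff_mul_eq_one, ← h, neg_add_cancel, add_map_zero h]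

theorem add_map_comm {M N : Type*} [AddCommGroup M] [Group N] {f : M → N} (h : ∀ x y, f (x + y) = f x * f y)
    (x y : M) : f x * f y = f y * f x := by rw [← h, ← h, add_comm]

theorem add_map_sub {M N : Type*} [AddCommGroup M] [Group N] {f : M → N} (h : ∀ x y, f (x + y) = f x * f y)
    (x y : M) : f (x - y) = f x * (f y)⁻¹ := by rw [sub_eq_add_neg, h, add_map_neg h]

theorem add_map_pow {M N : Type*} [AddCommGroup M] [Group N] {f : M → N} (h : ∀ x y, f (x + y) = f x * f y)
    (x : M) (n : ℕ) : f x ^ n = f (n • x) := by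
  induction n with
  | zero => rw [pow_zero, zero_smul, add_map_zero h]
  | succ n ih => rw [pow_succ, ih, ← h, succ_nsmul]

/-- A ring endomorphism of order two of a finite field is the power `|fixed field|`. -/
theorem exists_sqrt_card {K : Type*} [Field K] [Finite K] (σ : K →+* K) (h2 : ∀ x, σ (σ x) = x) (hne : ∃ x, σ x ≠ x) :
    ∃ q0 : ℕ, Nat.card K = q0 ^ 2 ∧ ∀ x, σ x ≠ x → σ x = x ^ q0 := by
  classical
  -- the fixed field
  let K0 : Subfield K := RingHom.eqLocusField σ (RingHom.id K)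
  have hmem : ∀ x, x ∈ K0 ↔ σ x = x := fun x => Iff.rfl
  obtain ⟨x0, hx0⟩ := hne
  -- `x ↦ x - σ x`
  let f : K →+ K := (AddMonoidHom.id K) - (σ : K →+ K)
  have hf : ∀ x, f x = x - σ x := fun x => rfl
  have hker : f.ker = K0.toAddSubgroup := by
    ext x
    rw [AddMonoidHom.mem_ker, hf, sub_eq_zero]
    show x = σ x ↔ σ x = x
    exact ⟨Eq.symm, Eq.symm⟩
  set y0 := f x0 with hy0
  have hy00 : y0 ≠ 0 := fun h => hx0 (by rw [hy0, hf, sub_eq_zero] at h; exact h.symm)
  have hσf : ∀ x, σ (f x) = -f x := fun x => by rw [hf, map_sub, h2]; ring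
  have hcard1 : Nat.card f.range = Nat.card K0 := by
    apply Nat.card_congr
    refine ⟨fun y => ⟨(y : K) / y0, ?_⟩, fun z => ⟨(z : K) * y0, ⟨(z : K) * x0, ?_⟩⟩, ?_, ?_⟩
    · obtain ⟨y, x, rfl⟩ := y
      rw [hmem, map_div₀, hσf, hy0, hσf]
      exact neg_div_neg_eq _ _
    · rw [hf, map_mul, (hmem _).1 z.2, hy0, hf]; ring
    · intro y; ext; simp [hy00]
    · intro z; ext; simp [hy00]
  have hcard : Nat.card K = Nat.card K0 ^ 2 := by
    have h3 := AddSubgroup.card_eq_card_quotient_mul_card_addSubgroup f.ker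
    have h4 : Nat.card (K ⧸ f.ker) = Nat.card f.range := Nat.card_congr (QuotientAddGroup.quotientKerEquivRange f).toEquiv
    rw [h3, h4, hcard1, hker, pow_two]
    rfl
  refine ⟨Nat.card K0, hcard, fun x hx => ?_⟩
  -- Frobenius of the fixed field
  haveI : Fintype K0 := Fintype.ofFinite _
  have hq : ∀ z ∈ K0, z ^ Nat.card K0 = z := fun z hz => by
    rw [Nat.card_eq_fintype_card]
    exact congrArg Subtype.val (FiniteField.pow_card (⟨z, hz⟩ : K0))
  obtain ⟨p, hp⟩ := CharP.exists K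
  haveI := hp
  haveI : Fact p.Prime := ⟨(CharP.char_is_prime_or_zero K p).resolve_right (CharP.char_ne_zero_of_finite K p)⟩
  haveI : CharP K0 p := K0.charP p
  obtain ⟨⟨m, hm⟩, hp', hm'⟩ := FiniteField.card K0 p
  rw [PNat.mk_coe] at hm'
  have hfr : ∀ z, z ^ Nat.card K0 = iterateFrobenius K p m z := fun z => by
    rw [iterateFrobenius_def, Nat.card_eq_fintype_card, hm']
  have hs : x + σ x ∈ K0 := by rw [hmem, map_add, h2, add_comm]
  have hn : x * σ x ∈ K0 := by rw [hmem, map_mul, h2, mul_comm]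
  have h5 : (x ^ Nat.card K0 - x) * (x ^ Nat.card K0 - σ x) = 0 := by
    have h6 : iterateFrobenius K p m (x ^ 2 - (x + σ x) * x + x * σ x) = 0 := by
      rw [show x ^ 2 - (x + σ x) * x + x * σ x = 0 by ring, map_zero]
    rw [map_add, map_sub, map_mul, map_pow, ← hfr, ← hfr, ← hfr, hq _ hs, hq _ hn] at h6
    rw [← h6]; ring
  rcases mul_eq_zero.1 h5 with h6 | h6
  · exfalso
    rw [sub_eq_zero] at h6
    have h1 : 1 < Nat.card K0 := Finite.one_lt_card
    have hne : (Polynomial.X ^ Nat.card K0 - Polynomial.X : Polynomial K) ≠ 0 :=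
      FiniteField.X_pow_card_sub_X_ne_zero K h1
    have hdeg := Polynomial.card_roots' (Polynomial.X ^ Nat.card K0 - Polynomial.X : Polynomial K)
    rw [FiniteField.X_pow_card_sub_X_natDegree_eq K h1] at hdeg
    have hsub : insert x (Finset.univ.image fun z : K0 => (z : K)) ⊆
        (Polynomial.X ^ Nat.card K0 - Polynomial.X : Polynomial K).roots.toFinset := by
      intro z hz
      rw [Multiset.mem_toFinset, Polynomial.mem_roots hne, Polynomial.IsRoot.def, Polynomial.eval_sub,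
        Polynomial.eval_pow, Polynomial.eval_X, sub_eq_zero]
      rcases Finset.mem_insert.1 hz with rfl | hz
      · exact h6
      · obtain ⟨z, -, rfl⟩ := Finset.mem_image.1 hz
        exact hq _ z.2
    have h7 := Finset.card_le_card hsub
    rw [Finset.card_insert_of_notMem, Finset.card_image_of_injective _ Subtype.val_injective, Finset.card_univ,
      ← Nat.card_eq_fintype_card] at h7
    · have h8 := Multiset.toFinset_card_le (Polynomial.X ^ Nat.card K0 - Polynomial.X : Polynomial K).roots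
      omega
    · intro hz
      obtain ⟨z, -, hz⟩ := Finset.mem_image.1 hz
      exact hx ((hmem x).1 (hz ▸ z.2))
  · exact (sub_eq_zero.1 h6).symm

/-- **No invariant forms.** -/
theorem no_form {K : Type*} [Field K] [Finite K] {u : K} (hgen : Subring.closure {u} = ⊤)
    (hu : ∀ q0 : ℕ, Nat.card K = q0 ^ 2 → u ^ (q0 + 1) ≠ 1) {Z : Type*} [CommGroup Z] (B : K → K → Z)
    (hl : ∀ x x' y, B (x + x') y = B x y * B x' y) (hr : ∀ x y y', B x (y + y') = B x y * B x y')
    (halt : ∀ x, B x x = 1) (hinv : ∀ x y, B (u * x) (u * y) = B x y) (x y : K) : B x y = 1 := by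
  classical
  have h0l : ∀ y, B 0 y = 1 := fun y => add_map_zero (f := fun x => B x y) fun a b => hl a b y
  have h0r : ∀ x, B x 0 = 1 := fun x => add_map_zero (f := fun y => B x y) fun a b => hr x a b
  by_cases hu0 : u = 0
  · rw [← hinv, hu0, zero_mul, h0l]
  by_contra hB
  let S : Subring (K × K) :=
    { carrier := {z | ∀ x y, B (z.1 * x) y = B x (z.2 * y)}
      mul_mem' := by
        intro a b ha hb x y
        rw [Prod.fst_mul, Prod.snd_mul, mul_assoc, ha, hb, ← mul_assoc, mul_comm a.2]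
      one_mem' := by intro x y; simp
      add_mem' := by
        intro a b ha hb x y
        rw [Prod.fst_add, Prod.snd_add, add_mul, add_mul, hl, hr, ha, hb]
      zero_mem' := by intro x y; simp only [Prod.fst_zero, Prod.snd_zero, zero_mul]; rw [h0l, h0r]
      neg_mem' := by
        intro a ha x y
        rw [Prod.fst_neg, Prod.snd_neg, neg_mul, neg_mul,
          add_map_neg (f := fun x => B x y) (fun a b => hl a b y),
          add_map_neg (f := fun y => B x y) (fun a b => hr x a b), ha] }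
  have hS : ∀ z : K × K, z ∈ S ↔ ∀ x y, B (z.1 * x) y = B x (z.2 * y) := fun z => Iff.rfl
  have huS : (u, u⁻¹) ∈ S := by
    rw [hS]
    intro x y
    simp only
    rw [← hinv x (u⁻¹ * y), mul_inv_cancel_left₀ hu0]
  have hfun : ∀ g, (0, g) ∈ S → g = 0 := by
    intro g hg
    by_contra hg0
    apply hB
    have := (hS _).1 hg x (g⁻¹ * y)
    simp only [zero_mul, mul_inv_cancel_left₀ hg0, h0l] at this
    exact this.symm
  have hex : ∀ f, ∃ g, (f, g) ∈ S := by
    intro f
    have h1 : S.map (RingHom.fst K K) = ⊤ := by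
      rw [eq_top_iff, ← hgen, Subring.closure_le]
      rintro _ rfl
      exact ⟨(_, _), huS, rfl⟩
    have h2 : f ∈ S.map (RingHom.fst K K) := h1 ▸ Subring.mem_top f
    obtain ⟨⟨a, g⟩, hz, rfl⟩ := h2
    exact ⟨g, hz⟩
  have huniq : ∀ f g g', (f, g) ∈ S → (f, g') ∈ S → g = g' := by
    intro f g g' h h'
    have := S.sub_mem h h'
    rw [Prod.mk_sub_mk, sub_self] at this
    exact sub_eq_zero.1 (hfun _ this)
  choose σ hσ using hex
  let σ' : K →+* K :=
    { toFun := σ
      map_one' := huniq 1 _ _ (hσ 1) S.one_mem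
      map_mul' := fun a b => huniq _ _ _ (hσ _) (S.mul_mem (hσ a) (hσ b))
      map_zero' := huniq 0 _ _ (hσ 0) S.zero_mem
      map_add' := fun a b => huniq _ _ _ (hσ _) (S.add_mem (hσ a) (hσ b)) }
  have hσu : σ' u = u⁻¹ := huniq _ _ _ (hσ _) huS
  have hσσ : ∀ x, σ' (σ' x) = x := by
    intro x
    have h1 : (⊤ : Subring K) ≤ (σ'.comp σ').eqLocus (RingHom.id K) := by
      rw [← hgen, Subring.closure_le]
      rintro _ rfl
      show σ' (σ' _) = _
      rw [hσu, map_inv₀, hσu, inv_inv]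
      rfl
    exact h1 (Subring.mem_top x)
  by_cases hid : σ' u = u
  · have hid' : ∀ x, σ' x = x := by
      intro x
      have h1 : (⊤ : Subring K) ≤ σ'.eqLocus (RingHom.id K) := by
        rw [← hgen, Subring.closure_le]
        rintro _ rfl
        exact hid
      exact h1 (Subring.mem_top x)
    have hB1 : ∀ x y, B x y = B 1 (x * y) := by
      intro x y
      have h1 := (hS _).1 (hσ x) 1 y
      have h2 : σ x = x := hid' x
      simp only [mul_one, h2] at h1
      exact h1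
    apply hB
    rw [hB1]
    generalize x * y = w
    by_cases hp : ringChar K = 2
    · obtain ⟨z, hz⟩ := FiniteField.isSquare_of_char_two hp w
      rw [hz, ← hB1, halt]
    · haveI : NeZero (2 : K) := ⟨Ring.two_ne_zero hp⟩
      have h3 := halt (1 + w / 2)
      rw [hl, hr, hr, halt, halt, one_mul, mul_one, hB1 (w / 2) 1, mul_one, ← hr, add_halves] at h3
      exact h3
  · obtain ⟨q0, hq, h⟩ := exists_sqrt_card σ' hσσ ⟨u, hid⟩
    apply hu q0 hq
    rw [pow_succ, ← h u hid, hσu, inv_mul_cancel₀ hu0]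

/-! ### Canonical lifts -/

section hat

variable {P : Type v} {T : Type u} [Group P] [Group T] {π : P →* T}

/-- **All lifts of the elements of `α K` commute.** -/
theorem lifts_comm {K : Type*} [Field K] [Finite K] {u : K} (hgen : Subring.closure {u} = ⊤)
    (hu : ∀ q0 : ℕ, Nat.card K = q0 ^ 2 → u ^ (q0 + 1) ≠ 1) {α : K → T} (hα : ∀ x y, α (x + y) = α x * α y)
    {c : T} (hcα : ∀ x, c * α x * c⁻¹ = α (u * x)) (x y : K) : SC.{u, v} (α x) (α y) := by
  intro P _ π hπ hc a b ha hb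
  choose s hs using fun x => hπ (α x)
  obtain ⟨c', hc'⟩ := hπ c
  have hz : ∀ x y, s x * s y * (s x)⁻¹ * (s y)⁻¹ ∈ Subgroup.center P := by
    intro x y
    apply hc
    rw [MonoidHom.mem_ker, map_mul, map_mul, map_mul, map_inv, map_inv, hs, hs, add_map_comm hα x y]
    group
  letI : CommGroup (Subgroup.center P) :=
    { (inferInstance : Group (Subgroup.center P)) with
      mul_comm := fun a b => Subtype.ext (Subgroup.mem_center_iff.1 b.2 a) }
  let B : K → K → Subgroup.center P := fun x y => ⟨s x * s y * (s x)⁻¹ * (s y)⁻¹, hz x y⟩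
  have hzc : ∀ x y g, g * (s x * s y * (s x)⁻¹ * (s y)⁻¹) = (s x * s y * (s x)⁻¹ * (s y)⁻¹) * g := fun x y g =>
    Subgroup.mem_center_iff.1 (hz x y) g
  have key := no_form hgen hu B ?_ ?_ ?_ ?_ x y
  · have h1 : s x * s y * (s x)⁻¹ * (s y)⁻¹ = 1 := congrArg Subtype.val key
    have h2 : a * b * a⁻¹ * b⁻¹ = 1 := by
      rw [← h1]
      exact comm_eq hc (by rw [ha, hs]) (by rw [hb, hs])
    rw [mul_inv_eq_one, mul_inv_eq_iff_eq_mul] at h2
    exact h2
  · intro x x' y
    apply Subtype.ext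
    show s (x + x') * s y * (s (x + x'))⁻¹ * (s y)⁻¹ =
      (s x * s y * (s x)⁻¹ * (s y)⁻¹) * (s x' * s y * (s x')⁻¹ * (s y)⁻¹)
    rw [comm_eq hc (a := s (x + x')) (a' := s x * s x') (b := s y) (b' := s y) (by rw [map_mul, hs, hs, hs, hα]) rfl]
    have h1 := hzc x' y (s x)
    calc s x * s x' * s y * (s x * s x')⁻¹ * (s y)⁻¹
        = (s x * (s x' * s y * (s x')⁻¹ * (s y)⁻¹)) * (s y * (s x)⁻¹ * (s y)⁻¹) := by group
      _ = ((s x' * s y * (s x')⁻¹ * (s y)⁻¹) * s x) * (s y * (s x)⁻¹ * (s y)⁻¹) := by rw [h1]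
      _ = (s x' * s y * (s x')⁻¹ * (s y)⁻¹) * (s x * s y * (s x)⁻¹ * (s y)⁻¹) := by group
      _ = _ := (hzc x' y _).symm
  · intro x y y'
    apply Subtype.ext
    show s x * s (y + y') * (s x)⁻¹ * (s (y + y'))⁻¹ =
      (s x * s y * (s x)⁻¹ * (s y)⁻¹) * (s x * s y' * (s x)⁻¹ * (s y')⁻¹)
    rw [comm_eq hc (b := s (y + y')) (b' := s y * s y') (a := s x) (a' := s x) rfl (by rw [map_mul, hs, hs, hs, hα])]
    have h1 := hzc x y' (s y)
    calc s x * (s y * s y') * (s x)⁻¹ * (s y * s y')⁻¹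
        = (s x * s y * (s x)⁻¹ * (s y)⁻¹) * (s y * (s x * s y' * (s x)⁻¹ * (s y')⁻¹)) * (s y)⁻¹ := by group
      _ = (s x * s y * (s x)⁻¹ * (s y)⁻¹) * ((s x * s y' * (s x)⁻¹ * (s y')⁻¹) * s y) * (s y)⁻¹ := by rw [h1]
      _ = _ := by group
  · intro x
    apply Subtype.ext
    show s x * s x * (s x)⁻¹ * (s x)⁻¹ = 1
    group
  · intro x y
    apply Subtype.ext
    show s (u * x) * s (u * y) * (s (u * x))⁻¹ * (s (u * y))⁻¹ = s x * s y * (s x)⁻¹ * (s y)⁻¹
    rw [comm_eq hc (a := s (u * x)) (a' := c' * s x * c'⁻¹) (b := s (u * y)) (b' := c' * s y * c'⁻¹)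
      (by rw [hs, ← hcα, map_mul, map_mul, map_inv, hs, hc']) (by rw [hs, ← hcα, map_mul, map_mul, map_inv, hs, hc'])]
    have h1 := hzc x y c'
    calc c' * s x * c'⁻¹ * (c' * s y * c'⁻¹) * (c' * s x * c'⁻¹)⁻¹ * (c' * s y * c'⁻¹)⁻¹
        = (c' * (s x * s y * (s x)⁻¹ * (s y)⁻¹)) * c'⁻¹ := by group
      _ = ((s x * s y * (s x)⁻¹ * (s y)⁻¹) * c') * c'⁻¹ := by rw [h1]
      _ = _ := by group

/-- **The canonical lift** of an abelian subgroup normalised by an element without fixed points. -/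
theorem exists_hat (hπ : Function.Surjective π) (hc : π.ker ≤ Subgroup.center P) {M : Type*} [AddCommGroup M]
    {α : M → T} (hα : ∀ x y, α (x + y) = α x * α y) (hsc : ∀ x y, SC.{u, v} (α x) (α y)) {c : T} {φ : M →+ M}
    (hφ : Function.Bijective fun x => φ x - x) (hcα : ∀ x, c * α x * c⁻¹ = α (φ x)) :
    ∃ α' : M → P, (∀ x, π (α' x) = α x) ∧ (∀ x y, α' (x + y) = α' x * α' y) ∧
      ∀ c' : P, π c' = c → ∀ x, c' * α' x * c'⁻¹ = α' (φ x) := by
  choose s hs using fun x => hπ (α x)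
  obtain ⟨c0, hc0⟩ := hπ c
  let D : M → P := fun x => c0 * s x * c0⁻¹ * (s x)⁻¹
  have hπD : ∀ x, π (D x) = α (φ x - x) := by
    intro x
    show π (c0 * s x * c0⁻¹ * (s x)⁻¹) = _
    rw [add_map_sub hα, ← hcα]
    simp only [map_mul, map_inv, hs, hc0]
  have hD : ∀ (c' a : P) (x : M), π c' = c → π a = α x → c' * a * c'⁻¹ * a⁻¹ = D x := fun c' a x h1 h2 =>
    comm_eq hc (by rw [h1, hc0]) (by rw [h2, hs])
  have hcomm : ∀ a b x y, π a = α x → π b = α y → a * b = b * a := fun a b x y ha hb =>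
    hsc x y P π hπ hc a b ha hb
  have hDadd : ∀ x y, D (x + y) = D x * D y := by
    intro x y
    rw [← hD c0 (s x * s y) (x + y) hc0 (by rw [map_mul, hs, hs, hα])]
    have h1 : D y * (s x)⁻¹ = (s x)⁻¹ * D y := by
      apply hcomm _ _ (φ y - y) (-x) (hπD y)
      rw [map_inv, hs, add_map_neg hα]
    calc c0 * (s x * s y) * c0⁻¹ * (s x * s y)⁻¹
        = c0 * s x * c0⁻¹ * (D y * (s x)⁻¹) := by
          show _ = c0 * s x * c0⁻¹ * ((c0 * s y * c0⁻¹ * (s y)⁻¹) * (s x)⁻¹)
          group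
      _ = c0 * s x * c0⁻¹ * ((s x)⁻¹ * D y) := by rw [h1]
      _ = D x * D y := by
          show _ = (c0 * s x * c0⁻¹ * (s x)⁻¹) * D y
          group
  choose ψ hψ using hφ.2
  have hψ' : ∀ x, ψ (φ x - x) = x := fun x => hφ.1 (hψ (φ x - x))
  have hψadd : ∀ x y, ψ (x + y) = ψ x + ψ y := by
    intro x y
    apply hφ.1
    rw [hψ]
    simp only
    rw [map_add]
    have e1 := hψ x
    have e2 := hψ y
    simp only at e1 e2
    calc x + y = (φ (ψ x) - ψ x) + (φ (ψ y) - ψ y) := by rw [e1, e2]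
      _ = _ := by abel
  refine ⟨fun x => D (ψ x), ?_, ?_, ?_⟩
  · intro x
    simp only
    rw [hπD]
    exact congrArg α (hψ x)
  · intro x y
    simp only
    rw [hψadd, hDadd]
  · intro c' hc' x
    simp only
    have h1 := hD c' (D (ψ x)) x hc' (by rw [hπD]; exact congrArg α (hψ x))
    rw [mul_inv_eq_iff_eq_mul] at h1
    rw [h1, ← hDadd]
    congr 1
    apply hφ.1
    simp only
    rw [map_add]
    have e1 := hψ (φ x)
    have e2 := hψ x
    simp only at e1 e2
    rw [e1]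
    calc φ x + φ (ψ x) - (x + ψ x) = φ x - x + (φ (ψ x) - ψ x) := by abel
      _ = φ x - x + x := by rw [e2]
      _ = φ x := by abel

end hat

/-! ### Bounds from abelian subgroups -/

namespace Core

variable {r : ℕ} {P : Type v} {T : Type u} [Group P] [Group T] {π : P →* T} {k : Type w} [Field k] [IsAlgClosed k]
  {V : Type w} [AddCommGroup V] [Module k V] [FiniteDimensional k V] {ρ : P →* (V →ₗ[k] V)}

/-- A weight vector of a (lifted) abelian group. -/
theorem weight [IsSimpleGroup T] (h : Core r π ρ) {M : Type u'} [AddCommGroup M] {α : M → P}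
    (hadd : ∀ x y, α (x + y) = α x * α y) {x₀ : M} {N : ℕ} (hN : (N : k) ≠ 0) (hNx : N • x₀ = 0)
    (hx₀ : π (α x₀) ≠ 1) : ∃ (v : V) (χ : M → k), v ≠ 0 ∧ (∀ x, ρ (α x) v = χ x • v) ∧ χ x₀ ≠ 1 ∧
      ∀ x y, χ (x + y) = χ x * χ y := by
  obtain ⟨v, χ, hv, hχ, h0⟩ := exists_weight (fun x => ρ (α x))
    (fun i j => by rw [← map_mul, ← map_mul, add_map_comm hadd]) (j0 := x₀) hN
    (by rw [← map_pow, add_map_pow hadd, hNx, add_map_zero hadd, map_one]) (h.ne_one hx₀)
  refine ⟨v, χ, hv, hχ, h0, fun x y => ?_⟩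
  have h1 : χ (x + y) • v = (χ x * χ y) • v := by
    rw [← hχ, hadd, map_mul, Module.End.mul_apply, hχ, map_smul, hχ, smul_smul, mul_comm]
  have h2 : (χ (x + y) - χ x * χ y) • v = 0 := by rw [sub_smul, h1, sub_self]
  exact sub_eq_zero.1 ((smul_eq_zero.1 h2).resolve_right hv)

/-- **The number of characters in an orbit** is a lower bound for the dimension. -/
theorem card_le [IsSimpleGroup T] (h : Core r π ρ) {M : Type u'} [AddCommGroup M] {α : M → P}
    (hadd : ∀ x y, α (x + y) = α x * α y) {x₀ : M} {N : ℕ} (hN : (N : k) ≠ 0) (hNx : N • x₀ = 0)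
    (hx₀ : π (α x₀) ≠ 1) {ι : Type*} [Finite ι] (g : ι → P) (τ : ι → M → M)
    (hτ : ∀ i x, α x * g i = g i * α (τ i x)) (hd : ∀ i j, i ≠ j → ∃ x, τ i x = τ j x + x₀) :
    Nat.card ι ≤ Module.finrank k V := by
  obtain ⟨v, χ, hv, hχ, h0, hmul⟩ := h.weight hadd hN hNx hx₀
  have hne : ∀ x, χ x ≠ 0 := by
    intro x hx
    apply h.ne_zero (α x) hv
    rw [hχ, hx, zero_smul]
  refine card_le_of_weights (fun x => ρ (α x)) (fun i => ρ (g i) v) (fun i x => χ (τ i x))
    (fun i => h.ne_zero _ hv) (fun i x => ?_) (fun i j hij => ?_)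
  · rw [← Module.End.mul_apply, ← map_mul, hτ, map_mul, Module.End.mul_apply, hχ, map_smul]
  · by_contra hne'
    obtain ⟨x, hx⟩ := hd i j hne'
    have h1 : χ (τ i x) = χ (τ j x) := congrFun hij x
    rw [hx, hmul] at h1
    exact h0 (mul_left_cancel₀ (hne _) (by rw [h1, mul_one]))

end Core

/-- **The Frobenius bound.** -/
theorem LS.frob {r : ℕ} {K : Type*} [Field K] [Finite K] [CharP K r] {u : K} (hgen : Subring.closure {u} = ⊤)
    (hu : ∀ q0 : ℕ, Nat.card K = q0 ^ 2 → u ^ (q0 + 1) ≠ 1) (hu1 : u ≠ 1) {T : Type u} [Group T] [IsSimpleGroup T]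
    {α : K → T} (hα : ∀ x y, α (x + y) = α x * α y) {x₀ : K} (hx₀ : α x₀ ≠ 1)
    {c : T} (hcα : ∀ x, c * α x * c⁻¹ = α (u * x)) : LS.{u, v, w} r (orderOf u) T := by
  apply LS.of_core
  intro P _ π k _ _ V _ _ _ ρ h
  have hu0 : u ≠ 0 := by
    rintro rfl
    apply hx₀
    have h1 := hcα x₀
    rw [zero_mul, add_map_zero hα, mul_inv_eq_one] at h1
    exact mul_eq_left.1 h1
  obtain ⟨α', h1, h2, h3⟩ := exists_hat h.surj h.cen hα (fun x y => lifts_comm hgen hu hα hcα x y)
    (φ := AddMonoidHom.mulLeft u) ⟨fun a b hab => by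
      have h4 : (u - 1) * a = (u - 1) * b := by
        simpa [sub_mul] using hab
      exact mul_left_cancel₀ (sub_ne_zero.2 hu1) h4, fun b => ⟨(u - 1)⁻¹ * b, by
        show u * ((u - 1)⁻¹ * b) - (u - 1)⁻¹ * b = b
        have h5 := sub_ne_zero.2 hu1
        field_simp⟩⟩ hcα
  obtain ⟨c', hc'⟩ := h.surj c
  have h4 : ∀ (n : ℕ) x, α' x * c' ^ n = c' ^ n * α' ((u⁻¹) ^ n * x) := by
    intro n
    induction n with
    | zero => intro x; simp
    | succ n ih =>
      intro x
      have h5 := h3 c' hc' (u⁻¹ ^ (n + 1) * x)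
      rw [AddMonoidHom.coe_mulLeft, pow_succ', ← mul_assoc, ← mul_assoc, mul_inv_cancel₀ hu0, one_mul] at h5
      rw [pow_succ, ← mul_assoc, ih, ← h5, pow_succ' (u⁻¹)]
      group
  have hfin : IsOfFinOrder u := by
    have := isOfFinOrder_of_finite (Units.mk0 u hu0)
    exact (Units.isOfFinOrder_val (u := Units.mk0 u hu0)).2 this
  have key := h.card_le (N := r) h2 h.rk (x₀ := x₀) (by rw [← Nat.cast_smul_eq_nsmul K, CharP.cast_eq_zero, zero_smul])
    (by rw [h1]; exact hx₀) (ι := Fin (orderOf u)) (fun i => c' ^ (i : ℕ)) (fun i x => u⁻¹ ^ (i : ℕ) * x)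
    (fun i x => h4 i x) (fun i j hij => by
      have h6 : u⁻¹ ^ (i : ℕ) ≠ u⁻¹ ^ (j : ℕ) := by
        intro h7
        rw [inv_pow, inv_pow, inv_inj] at h7
        exact hij (Fin.ext (pow_injOn_Iio_orderOf (Set.mem_Iio.2 i.2) (Set.mem_Iio.2 j.2) h7))
      refine ⟨(u⁻¹ ^ (i : ℕ) - u⁻¹ ^ (j : ℕ))⁻¹ * x₀, ?_⟩
      have h8 := sub_ne_zero.2 h6
      have h9 : (u⁻¹ ^ (i : ℕ) - u⁻¹ ^ (j : ℕ)) * ((u⁻¹ ^ (i : ℕ) - u⁻¹ ^ (j : ℕ))⁻¹ * x₀) = x₀ :=
        mul_inv_cancel_left₀ h8 _
      rw [sub_mul, sub_eq_iff_eq_add] at h9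
      show u⁻¹ ^ (i : ℕ) * _ = u⁻¹ ^ (j : ℕ) * _ + x₀
      rw [h9, add_comm])
  rwa [Nat.card_eq_fintype_card, Fintype.card_fin] at key

end Cfsg.Agent.H203.LS
end

-- part: H203/LSRank
section
prune_inst 0xe53032447900020000180500000022a45c0005900060800149e00b400b09830229c109400a803006122ea081080500081110001002000000020004000005010000801204b1580c00000088000004000000000000000000000000000000000004000000000
set_option linter.all false
open scoped Cfsg.Agent.FastGrp

/-!
# The Frobenius bound, numerical version; groups containing a quotient of `SL₂(q)`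

* `LS.frob'`: `|K| ≤ (orderOf u) ^ 2` and `q₀ + 1 < orderOf u` if `|K| = q₀ ^ 2`;
* `LS.sl2`: `T` simple with a nontrivial homomorphism from `SL₂(q)`: bound `(q - 1) / gcd 2 (q - 1)`, `q ≠ 4, 9`.
-/

set_option autoImplicit false
set_option linter.dupNamespace false
set_option linter.style.haveILetI false

universe u v w u'

namespace Cfsg.Agent.H203.LS

/-- The subring generated by an element of large order. -/
theorem closure_eq_top {K : Type*} [Field K] [Finite K] {u : K} (hu0 : u ≠ 0)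
    (h : Nat.card K ≤ orderOf u ^ 2 ∨ (Nat.card K).Prime) : Subring.closure {u} = ⊤ := by
  classical
  -- the subfield generated
  set R := Subring.closure ({u} : Set K) with hR
  have huR : u ∈ R := Subring.subset_closure rfl
  have hinv : ∀ x ∈ R, x⁻¹ ∈ R := by
    intro x hx
    by_cases h0 : x = 0
    · rw [h0, inv_zero]; exact R.zero_mem
    have hfin : IsOfFinOrder (Units.mk0 x h0) := isOfFinOrder_of_finite _
    obtain ⟨n, hn, hn1⟩ := hfin.exists_pow_eq_one
    have h1 : x ^ n = 1 := by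
      have := congrArg Units.val hn1
      simpa only [_root_.Units.val_pow_eq_pow_val, _root_.Units.val_mk0, _root_.Units.val_one] using this
    have h2 : x⁻¹ = x ^ (n - 1) := by
      rw [inv_eq_iff_eq_inv, ← one_div, eq_div_iff (pow_ne_zero _ h0), ← pow_succ', Nat.sub_add_cancel hn, h1]
    rw [h2]; exact R.pow_mem hx _
  let L : Subfield K := { R with inv_mem' := hinv }
  have hLR : ∀ x, x ∈ L ↔ x ∈ R := fun x => Iff.rfl
  haveI : Fintype K := Fintype.ofFinite K
  haveI : Fintype L := Fintype.ofFinite L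
  have hcard : Nat.card K = Nat.card L ^ Module.finrank L K := by
    rw [Nat.card_eq_fintype_card, Nat.card_eq_fintype_card]; exact Module.card_eq_pow_finrank
  have hL1 : 1 < Nat.card L := Finite.one_lt_card
  have hd : Module.finrank L K = 1 := by
    have hpos : 0 < Module.finrank L K := Module.finrank_pos
    by_contra hne
    have h2 : 2 ≤ Module.finrank L K := by omega
    rcases h with h | h
    · have h3 : Nat.card L ^ 2 ≤ Nat.card K := by rw [hcard]; exact Nat.pow_le_pow_right (by omega) h2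
      have h4 : orderOf u ≤ Nat.card L - 1 := by
        have h5 : orderOf (⟨u, huR⟩ : L) = orderOf u := by
          exact (orderOf_injective (L.subtype : L →* K) Subtype.val_injective ⟨u, huR⟩).symm
        have h6 : (⟨u, huR⟩ : L) ≠ 0 := fun h0 => hu0 (congrArg Subtype.val h0)
        have h7 : orderOf (Units.mk0 _ h6) = orderOf (⟨u, huR⟩ : L) := (orderOf_units (y := Units.mk0 _ h6)).symm
        rw [← h5, ← h7]
        have h8 := orderOf_le_card (x := Units.mk0 _ h6)
        rwa [Nat.card_units] at h8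
      have h5 : orderOf u < Nat.card L := by omega
      have h6 : orderOf u ^ 2 < Nat.card L ^ 2 := Nat.pow_lt_pow_left h5 (by norm_num)
      omega
    · rw [hcard] at h
      exact hne ((Nat.Prime.eq_one_of_pow h))
  rw [eq_top_iff]
  intro x _
  have h1 : Nat.card L = Nat.card K := by rw [hcard, hd, pow_one]
  have h2 : (L : Set K) = Set.univ := Set.eq_of_subset_of_ncard_le (Set.subset_univ _) (by
    rw [Set.ncard_univ, ← h1]; exact le_of_eq rfl)
  have h3 : x ∈ (L : Set K) := by rw [h2]; trivial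
  exact h3

/-- **The Frobenius bound**, numerical version. -/
theorem LS.frob' {r : ℕ} {K : Type*} [Field K] [Finite K] [CharP K r] {u : K}
    (h : Nat.card K ≤ orderOf u ^ 2 ∨ (Nat.card K).Prime)
    (hu : ∀ q0 : ℕ, Nat.card K = q0 ^ 2 → q0 + 1 < orderOf u) {T : Type u} [Group T] [IsSimpleGroup T]
    {α : K → T} (hα : ∀ x y, α (x + y) = α x * α y) {x₀ : K} (hx₀ : α x₀ ≠ 1)
    {c : T} (hcα : ∀ x, c * α x * c⁻¹ = α (u * x)) : LS.{u, v, w} r (orderOf u) T := by
  have hu0 : u ≠ 0 := by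
    rintro rfl
    apply hx₀
    have h1 := hcα x₀
    rw [zero_mul, add_map_zero hα, mul_inv_eq_one] at h1
    exact mul_eq_left.1 h1
  by_cases hu1 : u = 1
  · rw [hu1, orderOf_one]
    intro P _ _ π _ _ _ k _ _ n ρ hρ
    by_contra hn
    have hn0 : n = 0 := by omega
    subst hn0
    exact hρ (MonoidHom.ext fun g => Units.ext (Subsingleton.elim _ _))
  refine LS.frob (closure_eq_top hu0 h) (fun q0 hq h1 => ?_) hu1 hα hx₀ hcα
  have h2 := orderOf_dvd_of_pow_eq_one h1
  exact absurd (Nat.le_of_dvd (Nat.succ_pos _) h2) (by have := hu q0 hq; omega)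

open Cfsg.Agent.H203.BdSL2 in
/-- **Simple groups containing a quotient of `SL₂(q)`.** -/
theorem LS.sl2 {K : Type*} [Field K] [Fintype K] {r q : ℕ} [CharP K r] (hq : Fintype.card K = q) (h4 : q ≠ 4)
    (h9 : q ≠ 9) {T : Type u} [Group T] [IsSimpleGroup T] (j : Matrix.SpecialLinearGroup (Fin 2) K →* T) {x₀ : K}
    (hj : j (up x₀) ≠ 1) : LS.{u, v, w} r ((q - 1) / Nat.gcd 2 (q - 1)) T := by
  classical
  obtain ⟨g, hg⟩ := IsCyclic.exists_generator (α := Kˣ)
  have hord : orderOf g = q - 1 := by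
    rw [orderOf_eq_card_of_forall_mem_zpowers hg, Nat.card_eq_fintype_card, Fintype.card_units, hq]
  have hq1 : 1 < q := hq ▸ Fintype.one_lt_card
  have hou : orderOf ((g : K) ^ 2) = (q - 1) / Nat.gcd 2 (q - 1) := by
    rw [← Units.val_pow_eq_pow_val, orderOf_units, orderOf_pow, hord, Nat.gcd_comm]
  have hK : Nat.card K = q := by rw [Nat.card_eq_fintype_card, hq]
  have hgcd : Nat.gcd 2 (q - 1) = 1 ∨ Nat.gcd 2 (q - 1) = 2 := by
    have := (Nat.dvd_prime Nat.prime_two).1 (Nat.gcd_dvd_left 2 (q - 1))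
    exact this
  have hd := Nat.div_mul_cancel (Nat.gcd_dvd_right 2 (q - 1))
  rw [← hou]
  refine LS.frob' (α := fun x => j (up x)) ?_ ?_ (fun x y => by rw [up_add, map_mul]) hj (c := j (dg g)) (fun x => by
    rw [← map_mul, dg_up, map_mul, mul_inv_cancel_right])
  · rw [hou, hK]
    obtain ⟨p, hp⟩ := CharP.exists K
    haveI := hp
    obtain ⟨n, hpp, hn⟩ := FiniteField.card K p
    rw [hq] at hn
    by_cases hn1 : (n : ℕ) = 1
    · right; rw [hn, hn1, pow_one]; exact hpp
    left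
    have hn2 : 2 ≤ (n : ℕ) := by have := n.pos; omega
    have hp2 : p ^ 2 ≤ q := by rw [hn]; exact Nat.pow_le_pow_right hpp.pos hn2
    have h4' : 4 ≤ q := le_trans (by nlinarith only [hpp.two_le]) hp2
    rcases hgcd with h | h
    · rw [h, Nat.div_one]
      clear hn hp2
      obtain ⟨m, rfl⟩ : ∃ m, q = m + 4 := ⟨q - 4, by omega⟩
      have : m + 4 - 1 = m + 3 := by omega
      rw [this]; nlinarith only []
    · rw [h] at hd ⊢
      have h5 : q ≠ 5 := by
        intro h5
        have h6 : p ∣ 5 := by rw [← h5, hn]; exact dvd_pow_self p (by omega)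
        have h7 : p = 5 := ((Nat.dvd_prime (by norm_num)).1 h6).resolve_left hpp.one_lt.ne'
        rw [h7, h5] at hp2; omega
      obtain ⟨b, hb⟩ : ∃ b, (q - 1) / 2 = b + 3 := ⟨(q - 1) / 2 - 3, by omega⟩
      have : q = 2 * b + 7 := by (clear * - hd hb; omega)
      rw [hb, this]; nlinarith only []
  · intro q0 hq0
    rw [hou]
    rw [hK] at hq0
    have h2 : 2 ≤ q0 := by
      by_contra h2
      have : q0 ≤ 1 := by omega
      have : q0 ^ 2 ≤ 1 := by nlinarith only [h2]
      omega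
    have h3 : q0 ≠ 2 := by rintro rfl; exact h4 hq0
    have h3' : q0 ≠ 3 := by rintro rfl; exact h9 hq0
    obtain ⟨m, rfl⟩ : ∃ m, q0 = m + 4 := ⟨q0 - 4, by omega⟩
    rcases hgcd with h | h
    · rw [h, Nat.div_one, hq0]
      have : (m + 4) ^ 2 - 1 = m ^ 2 + 8 * m + 15 := by
        have : (m + 4) ^ 2 = m ^ 2 + 8 * m + 15 + 1 := by ring
        omega
      rw [this]; linarith only [_root_.sq_nonneg (↑m : ℤ), _root_.Nat.cast_nonneg (α := ℤ) (m)]
    · rw [h] at hd ⊢
      set a := (q - 1) / 2 with ha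
      have h5 : a * 2 + 1 = (m + 4) ^ 2 := by omega
      nlinarith only [h5]

end Cfsg.Agent.H203.LS
end

-- part: H921/SporBase
section
prune_inst 0xc53032440b0002000018051250003a96ce000590002b8001d9e10f420286db2229832f41c8803c07523aa241003500081100005002000000022004000005012080aa5206b348a10426008f803086000000000000000000000000000000041004000000000
set_option linter.all false
open scoped Cfsg.Agent.FastGrp

/-!
# Configurations giving lower bounds for degrees of projective representations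

`Conf r m T`: an abelian `r`-subgroup `E` of `T`, `1 ≠ e₀ ∈ E` and `m` elements `s` normalising `E` such that for two of
them `e₀ = (s e s⁻¹) (t e t⁻¹)⁻¹` for some `e ∈ E`. It implies `Bd F r m T` for every field `F` with `(r : F) ≠ 0`.
It is inherited from subgroups (`Conf.of_inj`) and from quotients by finite normal subgroups of order prime to `r`
(`Conf.of_quot`).
-/

set_option autoImplicit false

universe u v w

namespace Cfsg.Agent.H921.Spor

open Cfsg.Agent.H912.Bd

/-- The configuration. -/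
def Conf (r m : ℕ) (T : Type*) [Group T] : Prop :=
  ∃ (E : Subgroup T) (e₀ : T) (S : Finset T), Finite E ∧ (∀ a ∈ E, ∀ b ∈ E, a * b = b * a) ∧ IsPGroup r E ∧
    e₀ ∈ E ∧ e₀ ≠ 1 ∧ S.card = m ∧ (∀ s ∈ S, ∀ e ∈ E, s * e * s⁻¹ ∈ E) ∧
    ∀ s ∈ S, ∀ t ∈ S, s ≠ t → ∃ e ∈ E, (s * e * s⁻¹) * (t * e * t⁻¹)⁻¹ = e₀

theorem Conf.bd {r m : ℕ} {T : Type v} [Group T] (h : Conf r m T) {F : Type u} [Field F] (hr : r.Prime)
    (hrF : (r : F) ≠ 0) : Bd F r m T := by
  obtain ⟨E, e₀, S, hfin, hE, hEr, he₀, he₁, hm, hS, hd⟩ := h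
  intro n hn
  rw [← hm]
  exact hn.bound hr hrF E hE hEr he₀ he₁ S hS hd

theorem Conf.of_inj {r m : ℕ} {T : Type v} [Group T] {T' : Type w} [Group T'] (h : Conf r m T') (f : T' →* T)
    (hf : Function.Injective f) : Conf r m T := by
  classical
  obtain ⟨E, e₀, S, hfin, hE, hEr, he₀, he₁, hm, hS, hd⟩ := h
  refine ⟨E.map f, f e₀, S.image f, ?_, ?_, ?_, ⟨e₀, he₀, rfl⟩, ?_, ?_, ?_, ?_⟩
  · exact Finite.of_surjective (E.equivMapOfInjective f hf) (E.equivMapOfInjective f hf).surjective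
  · rintro _ ⟨a, ha, rfl⟩ _ ⟨b, hb, rfl⟩
    rw [← map_mul, ← map_mul, hE a ha b hb]
  · exact hEr.map f
  · intro h1
    exact he₁ (hf (by rw [h1, map_one]))
  · rw [Finset.card_image_of_injective _ hf, hm]
  · intro s hs e he
    obtain ⟨s, hs', rfl⟩ := Finset.mem_image.1 hs
    obtain ⟨e, he, rfl⟩ := he
    exact ⟨s * e * s⁻¹, hS s hs' e he, by simp only [_root_.map_mul, _root_.map_inv]⟩
  · intro s hs t ht hst
    obtain ⟨s, hs', rfl⟩ := Finset.mem_image.1 hs
    obtain ⟨t, ht', rfl⟩ := Finset.mem_image.1 ht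
    obtain ⟨e, he, h1⟩ := hd s hs' t ht' (fun h => hst (by rw [h]))
    exact ⟨f e, ⟨e, he, rfl⟩, by rw [← h1]; simp only [_root_.mul_inv_rev, _root_.inv_inv, _root_.map_mul, _root_.map_inv]⟩

theorem Conf.of_equiv {r m : ℕ} {T : Type v} [Group T] {T' : Type w} [Group T'] (h : Conf r m T') (e : T' ≃* T) :
    Conf r m T := h.of_inj e.toMonoidHom e.injective

theorem Conf.of_equiv' {r m : ℕ} {T : Type v} [Group T] {T' : Type w} [Group T'] (h : Conf r m T') (e : T ≃* T') :
    Conf r m T := h.of_equiv e.symm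

theorem Conf.of_sub {r m : ℕ} {T : Type v} [Group T] {H : Subgroup T} (h : Conf r m H) : Conf r m T :=
  h.of_inj H.subtype H.subtype_injective

theorem Conf.mono {r m m' : ℕ} {T : Type v} [Group T] (h : Conf r m T) (hm : m' ≤ m) : Conf r m' T := by
  obtain ⟨E, e₀, S, hfin, hE, hEr, he₀, he₁, hS', hS, hd⟩ := h
  obtain ⟨S', hS's, hS'c⟩ := Finset.exists_subset_card_eq (hS' ▸ hm)
  exact ⟨E, e₀, S', hfin, hE, hEr, he₀, he₁, hS'c, fun s hs => hS s (hS's hs),
    fun s hs t ht => hd s (hS's hs) t (hS's ht)⟩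

/-! ### Quotients by `r'`-groups -/

/-- Lifting an abelian `r`-subgroup and its normaliser through a surjective homomorphism with finite kernel of order
prime to `r`. -/
theorem exists_lift_normal {r : ℕ} (hr : r.Prime) {H : Type v} [Group H] {Q : Type w} [Group Q] (π : H →* Q)
    (hπ : Function.Surjective π) (hfin : Finite π.ker) (hcop : (Nat.card π.ker).Coprime r) (E : Subgroup Q)
    (hEfin : Finite E) (hE : ∀ a ∈ E, ∀ b ∈ E, a * b = b * a) (hEr : IsPGroup r E) :
    ∃ A : Subgroup H, Finite A ∧ (∀ a ∈ A, ∀ b ∈ A, a * b = b * a) ∧ IsPGroup r A ∧ (∀ x ∈ A, π x ∈ E) ∧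
      (∀ e ∈ E, ∃ x ∈ A, π x = e) ∧ (∀ x ∈ A, ∀ y ∈ A, π x = π y → x = y) ∧
      ∀ s : Q, (∀ e ∈ E, s * e * s⁻¹ ∈ E) → ∃ t : H, π t = s ∧ ∀ a ∈ A, t * a * t⁻¹ ∈ A := by
  classical
  have : Fact r.Prime := ⟨hr⟩
  -- the preimage of `E`
  set B : Subgroup H := E.comap π with hB
  have hBfin : Finite B := by
    let g : B →* E := (π.comp B.subtype).codRestrict E (fun x => x.2)
    have hk : Finite g.ker := by
      apply Finite.of_injective (fun x : g.ker => (⟨(x : B), by
        have := x.2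
        rw [MonoidHom.mem_ker] at this
        exact congrArg Subtype.val this⟩ : π.ker))
      intro x y hxy
      apply Subtype.ext
      apply Subtype.ext
      have h0 := congrArg Subtype.val hxy
      exact h0
    have hq : Finite (B ⧸ g.ker) := Finite.of_injective _ (QuotientGroup.kerLift_injective g)
    exact Finite.of_equiv _ (Subgroup.groupEquivQuotientProdSubgroup (s := g.ker)).symm
  let P : Sylow r B := default
  -- `E` is the image of `P`
  have hcardker : ∀ x : H, π x = 1 → ∀ k : ℕ, x ^ r ^ k = 1 → x = 1 := fun x hx k hk =>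
    eq_one_of_ker hcop hx hk
  have hPr : IsPGroup r (P : Subgroup B) := P.isPGroup'
  have hinj : ∀ x y : B, x ∈ (P : Subgroup B) → y ∈ (P : Subgroup B) → π x = π y → x = y := by
    intro x y hx hy hxy
    have h1 : x⁻¹ * y ∈ (P : Subgroup B) := mul_mem (inv_mem hx) hy
    obtain ⟨k, hk⟩ := hPr ⟨_, h1⟩
    have h2 : ((x⁻¹ * y : B) : H) = 1 := by
      apply hcardker _ _ k
      · have := congrArg (fun z : (P : Subgroup B) => (((z : B) : H))) hk
        simpa only [_root_.Subgroup.coe_mul, _root_.InvMemClass.coe_inv, _root_.SubmonoidClass.mk_pow, _root_.SubmonoidClass.coe_pow, _root_.OneMemClass.coe_one] using this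
      · rw [Subgroup.coe_mul, Subgroup.coe_inv, map_mul, map_inv, hxy, inv_mul_cancel]
    have h3 : x⁻¹ * y = 1 := Subtype.ext h2
    rw [inv_mul_eq_one] at h3
    exact h3
  -- surjectivity of `P` onto `E`
  let g : B →* E := (π.comp B.subtype).codRestrict E (fun x => x.2)
  have hgs : Function.Surjective g := by
    intro e
    obtain ⟨x, hx⟩ := hπ e
    exact ⟨⟨x, by rw [hB, Subgroup.mem_comap, hx]; exact e.2⟩, Subtype.ext hx⟩
  have hsurj : ∀ e ∈ E, ∃ x : B, x ∈ (P : Subgroup B) ∧ π x = e := by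
    have htop : (P : Subgroup B).map g = ⊤ := by
      let P' : Sylow r E := P.mapSurjective hgs
      have h1 : IsPGroup r (⊤ : Subgroup E) := hEr.to_subgroup ⊤
      have h2 : (P' : Subgroup E) = ⊤ := by
        have := P'.3 h1 le_top
        exact this.symm
      rw [← h2]
      rfl
    intro e he
    have h1 : (⟨e, he⟩ : E) ∈ (P : Subgroup B).map g := by rw [htop]; trivial
    obtain ⟨x, hx, hxe⟩ := h1
    exact ⟨x, hx, congrArg Subtype.val hxe⟩
  set A : Subgroup H := (P : Subgroup B).map B.subtype with hA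
  have hAmem : ∀ x : H, x ∈ A ↔ ∃ y : B, y ∈ (P : Subgroup B) ∧ (y : H) = x := by
    intro x
    rw [hA]
    constructor
    · rintro ⟨y, hy, rfl⟩
      exact ⟨y, hy, rfl⟩
    · rintro ⟨y, hy, rfl⟩
      exact ⟨y, hy, rfl⟩
  have hAinj : ∀ x ∈ A, ∀ y ∈ A, π x = π y → x = y := by
    intro x hx y hy hxy
    obtain ⟨x', hx', rfl⟩ := (hAmem x).1 hx
    obtain ⟨y', hy', rfl⟩ := (hAmem y).1 hy
    rw [hinj x' y' hx' hy' hxy]
  have hAE : ∀ x ∈ A, π x ∈ E := by
    intro x hx
    obtain ⟨x', hx', rfl⟩ := (hAmem x).1 hx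
    exact x'.2
  -- normalising lifts
  have hlift : ∀ s : Q, (∀ e ∈ E, s * e * s⁻¹ ∈ E) → ∃ t : H, π t = s ∧ ∀ a ∈ A, t * a * t⁻¹ ∈ A := by
    intro s hs
    obtain ⟨t₀, ht₀⟩ := hπ s
    have hnorm : ∀ x : H, x ∈ B → t₀ * x * t₀⁻¹ ∈ B := by
      intro x hx
      rw [hB, Subgroup.mem_comap] at hx ⊢
      rw [map_mul, map_mul, map_inv, ht₀]
      exact hs _ hx
    let c : B →* B :=
      { toFun := fun x => ⟨t₀ * x * t₀⁻¹, hnorm x x.2⟩
        map_one' := by ext; simp
        map_mul' := fun x y => by ext; simp only [_root_.Subgroup.coe_mul, _root_.MulMemClass.mk_mul_mk, _root_.conj_mul] }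
    have hcinj : Function.Injective c := by
      intro x y hxy
      have h1 : t₀ * (x : H) * t₀⁻¹ = t₀ * (y : H) * t₀⁻¹ := congrArg Subtype.val hxy
      exact Subtype.ext (mul_left_cancel (mul_right_cancel h1))
    have hcbij : Function.Bijective c := Finite.injective_iff_bijective.1 hcinj
    let P' : Sylow r B := P.mapSurjective hcbij.2
    obtain ⟨b, hb⟩ := MulAction.exists_smul_eq B P' P
    obtain ⟨y, hyP, hy⟩ := hsurj (π (b : H)) b.2
    -- replace `b` by `y⁻¹ b`
    refine ⟨(y : H)⁻¹ * b * t₀, ?_, ?_⟩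
    · rw [map_mul, map_mul, map_inv, hy, inv_mul_cancel, one_mul, ht₀]
    · intro a ha
      obtain ⟨a', ha', rfl⟩ := (hAmem a).1 ha
      have h1 : c a' ∈ (P' : Subgroup B) := ⟨a', ha', rfl⟩
      have h2 : b * c a' * b⁻¹ ∈ (P : Subgroup B) := by
        rw [← hb]
        rw [Sylow.coe_subgroup_smul]
        exact Subgroup.smul_mem_pointwise_smul _ (MulAut.conj b) _ h1
      have h3 : y⁻¹ * (b * c a' * b⁻¹) * y⁻¹⁻¹ ∈ (P : Subgroup B) :=
        mul_mem (mul_mem (inv_mem hyP) h2) (inv_mem (inv_mem hyP))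
      rw [hAmem]
      refine ⟨_, h3, ?_⟩
      simp only [Subgroup.coe_mul, Subgroup.coe_inv]
      change (y : H)⁻¹ * ((b : H) * (t₀ * (a' : H) * t₀⁻¹) * (b : H)⁻¹) * ((y : H)⁻¹)⁻¹ = _
      group
  refine ⟨A, ?_, ?_, hPr.map B.subtype, hAE, ?_, hAinj, hlift⟩
  · have : Finite (P : Subgroup B) := inferInstance
    exact Finite.of_surjective ((P : Subgroup B).equivMapOfInjective B.subtype B.subtype_injective)
      ((P : Subgroup B).equivMapOfInjective B.subtype B.subtype_injective).surjective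
  · intro a ha b hb
    apply hAinj _ (mul_mem ha hb) _ (mul_mem hb ha)
    rw [map_mul, map_mul, hE _ (hAE a ha) _ (hAE b hb)]
  · intro e he
    obtain ⟨x, hxP, hx⟩ := hsurj e he
    exact ⟨x, (hAmem _).2 ⟨x, hxP, rfl⟩, hx⟩

/-- Lifting through a surjective homomorphism with finite kernel of order prime to `r`. -/
theorem Conf.of_surj {r m : ℕ} (hr : r.Prime) {H : Type v} [Group H] {Q : Type w} [Group Q] (π : H →* Q)
    (hπ : Function.Surjective π) (hfin : Finite π.ker) (hcop : (Nat.card π.ker).Coprime r) (h : Conf r m Q) :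
    Conf r m H := by
  classical
  obtain ⟨E, e₀, S, hEfin, hE, hEr, he₀, he₁, hm, hS, hd⟩ := h
  obtain ⟨A, hAfin, hAc, hAr, hAE, hsurj, hAinj, hlift⟩ := exists_lift_normal hr π hπ hfin hcop E hEfin hE hEr
  obtain ⟨x₀, hx₀A, hx₀⟩ := hsurj e₀ he₀
  choose! σ hσ1 hσ2 using hlift
  refine ⟨A, x₀, S.image σ, hAfin, hAc, hAr, hx₀A, ?_, ?_, ?_, ?_⟩
  · intro h1
    apply he₁
    rw [← hx₀, h1, map_one]
  · rw [Finset.card_image_of_injOn, hm]
    intro s hs t ht hst
    rw [← hσ1 s (hS s hs), ← hσ1 t (hS t ht)]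
    exact congrArg π hst
  · intro s hs a ha
    obtain ⟨s, hs', rfl⟩ := Finset.mem_image.1 hs
    exact hσ2 s (hS s hs') a ha
  · intro s hs t ht hst
    obtain ⟨s, hs', rfl⟩ := Finset.mem_image.1 hs
    obtain ⟨t, ht', rfl⟩ := Finset.mem_image.1 ht
    obtain ⟨e, he, h1⟩ := hd s hs' t ht' (fun h => hst (by rw [h]))
    obtain ⟨x, hxA, hx⟩ := hsurj e he
    refine ⟨x, hxA, ?_⟩
    apply hAinj _ (mul_mem (hσ2 s (hS s hs') _ hxA) (inv_mem (hσ2 t (hS t ht') _ hxA))) _ hx₀A
    rw [map_mul, map_inv, map_mul, map_mul, map_inv, map_mul, map_mul, map_inv, hσ1 s (hS s hs'),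
      hσ1 t (hS t ht'), hx, hx₀]
    exact h1

theorem Conf.of_quot {r m : ℕ} (hr : r.Prime) {H : Type v} [Group H] (N : Subgroup H) [N.Normal] [Finite N]
    (hcop : (Nat.card N).Coprime r) (h : Conf r m (H ⧸ N)) : Conf r m H := by
  refine h.of_surj hr (QuotientGroup.mk' N) (QuotientGroup.mk'_surjective N) ?_ ?_
  · rw [QuotientGroup.ker_mk']; infer_instance
  · rw [QuotientGroup.ker_mk']; exact hcop


/-! ### Constructions -/

variable {r : ℕ} {T : Type v} [Group T]

/-- Elements acting differently. -/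
theorem Conf.of_free (E : Subgroup T) [Finite E]
    (hE : ∀ a ∈ E, ∀ b ∈ E, a * b = b * a) (hEr : IsPGroup r E) (hE1 : E ≠ ⊥) (S : Finset T)
    (hS : ∀ s ∈ S, ∀ e ∈ E, s * e * s⁻¹ ∈ E)
    (hSf : ∀ s ∈ S, ∀ t ∈ S, s ≠ t → ∀ e ∈ E, s * e * s⁻¹ = t * e * t⁻¹ → e = 1) : Conf r S.card T := by
  obtain ⟨e₀, he₀, he₀1⟩ : ∃ e₀ : T, e₀ ∈ E ∧ e₀ ≠ 1 := by
    obtain ⟨x, hx⟩ := Subgroup.ne_bot_iff_exists_ne_one.1 hE1
    exact ⟨x.1, x.2, fun h => hx (Subtype.ext h)⟩
  refine ⟨E, e₀, S, inferInstance, hE, hEr, he₀, he₀1, rfl, hS, ?_⟩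
  intro s hs t ht hst
  let f : E → E := fun e => ⟨(s * e * s⁻¹) * (t * e * t⁻¹)⁻¹, E.mul_mem (hS s hs e e.2) (E.inv_mem (hS t ht e e.2))⟩
  have hinj : Function.Injective f := by
    intro x y hxy
    have h1 : (s * x * s⁻¹) * (t * x * t⁻¹)⁻¹ = (s * y * s⁻¹) * (t * y * t⁻¹)⁻¹ := congrArg Subtype.val hxy
    have h2 : s * (x * (y : T)⁻¹) * s⁻¹ = t * (x * (y : T)⁻¹) * t⁻¹ := by
      have hsy := hS s hs y y.2
      have htx := hS t ht x x.2
      have hty := hS t ht y y.2
      have hc := hE _ (E.inv_mem hsy) _ htx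
      calc s * (x * (y : T)⁻¹) * s⁻¹ = (s * x * s⁻¹) * (s * y * s⁻¹)⁻¹ := by group
        _ = ((s * x * s⁻¹) * (t * x * t⁻¹)⁻¹) * ((t * x * t⁻¹) * (s * y * s⁻¹)⁻¹) := by group
        _ = ((s * y * s⁻¹) * (t * y * t⁻¹)⁻¹) * ((s * y * s⁻¹)⁻¹ * (t * x * t⁻¹)) := by rw [h1, hc]
        _ = (s * y * s⁻¹) * (((t * y * t⁻¹)⁻¹ * (s * y * s⁻¹)⁻¹) * (t * x * t⁻¹)) := by group
        _ = (s * y * s⁻¹) * (((s * y * s⁻¹)⁻¹ * (t * y * t⁻¹)⁻¹) * (t * x * t⁻¹)) := by
            rw [hE _ (E.inv_mem hty) _ (E.inv_mem hsy)]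
        _ = (t * y * t⁻¹)⁻¹ * (t * x * t⁻¹) := by group
        _ = (t * x * t⁻¹) * (t * y * t⁻¹)⁻¹ := hE _ (E.inv_mem hty) _ htx
        _ = t * (x * (y : T)⁻¹) * t⁻¹ := by group
    have h3 := hSf s hs t ht hst _ (E.mul_mem x.2 (E.inv_mem y.2)) h2
    exact Subtype.ext (mul_inv_eq_one.1 h3)
  obtain ⟨e, he⟩ := Finite.surjective_of_injective hinj ⟨e₀, he₀⟩
  exact ⟨e, e.2, congrArg Subtype.val he⟩

/-- A cyclic group acting freely. -/
theorem Conf.of_frob (E : Subgroup T) [Finite E]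
    (hE : ∀ a ∈ E, ∀ b ∈ E, a * b = b * a) (hEr : IsPGroup r E) (hE1 : E ≠ ⊥) (m : ℕ) {a : T}
    (ha : ∀ e ∈ E, a * e * a⁻¹ ∈ E)
    (hf : ∀ i, 0 < i → i < m → ∀ e ∈ E, a ^ i * e = e * a ^ i → e = 1) : Conf r m T := by
  classical
  have hE1' : ∃ e₀ : T, e₀ ∈ E ∧ e₀ ≠ 1 := by
    obtain ⟨x, hx⟩ := Subgroup.ne_bot_iff_exists_ne_one.1 hE1
    exact ⟨x.1, x.2, fun h => hx (Subtype.ext h)⟩
  obtain ⟨e₀, he₀, he₀1⟩ := hE1'
  have hpow : ∀ i : ℕ, ∀ e ∈ E, a ^ i * e * (a ^ i)⁻¹ ∈ E := by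
    intro i
    induction i with
    | zero => intro e he; simpa using he
    | succ i ih =>
      intro e he
      have : a ^ (i + 1) * e * (a ^ (i + 1))⁻¹ = a * (a ^ i * e * (a ^ i)⁻¹) * a⁻¹ := by
        rw [pow_succ']; group
      rw [this]
      exact ha _ (ih e he)
  have key : ∀ i j : ℕ, i < j → j < m → ∀ e ∈ E, a ^ i * e * (a ^ i)⁻¹ = a ^ j * e * (a ^ j)⁻¹ → e = 1 := by
    intro i j hij hj e he h
    have h1 : a ^ (j - i) * e = e * a ^ (j - i) := by
      have h2 : a ^ j = a ^ i * a ^ (j - i) := by rw [← pow_add]; congr 1; omega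
      rw [h2] at h
      have h3 : e = a ^ (j - i) * e * (a ^ (j - i))⁻¹ := by
        calc e = (a ^ i)⁻¹ * (a ^ i * e * (a ^ i)⁻¹) * a ^ i := by group
          _ = (a ^ i)⁻¹ * (a ^ i * a ^ (j - i) * e * (a ^ i * a ^ (j - i))⁻¹) * a ^ i := by rw [h]
          _ = a ^ (j - i) * e * (a ^ (j - i))⁻¹ := by group
      exact (mul_inv_eq_iff_eq_mul.1 h3.symm)
    exact hf (j - i) (by omega) (by omega) e he h1
  have hne : ∀ i j : ℕ, i < j → j < m → a ^ i ≠ a ^ j := by
    intro i j hij hj h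
    exact he₀1 (key i j hij hj e₀ he₀ (by rw [h]))
  have hinj : Set.InjOn (fun i : ℕ => a ^ i) (Finset.range m : Set ℕ) := by
    intro i hi j hj h
    simp only [Finset.coe_range, Set.mem_Iio] at hi hj
    rcases lt_trichotomy i j with h1 | h1 | h1
    · exact absurd h (hne i j h1 hj)
    · exact h1
    · exact absurd h.symm (hne j i h1 hi)
  have := Conf.of_free E hE hEr hE1 ((Finset.range m).image (fun i => a ^ i)) (by
    intro s hs e he
    obtain ⟨i, -, rfl⟩ := Finset.mem_image.1 hs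
    exact hpow i e he) (by
    intro s hs t ht hst e he h
    obtain ⟨i, hi, rfl⟩ := Finset.mem_image.1 hs
    obtain ⟨j, hj, rfl⟩ := Finset.mem_image.1 ht
    rw [Finset.mem_range] at hi hj
    rcases lt_trichotomy i j with h1 | h1 | h1
    · exact key i j h1 hj e he h
    · exact absurd (by rw [h1]) hst
    · exact key j i h1 hi e he h.symm)
  rwa [Finset.card_image_of_injOn hinj, Finset.card_range] at this

/-- **Prime order.** -/
theorem Conf.of_prime (hr : r.Prime) {x y : T} (hx : x ^ r = 1) (hx1 : x ≠ 1) {k : ℕ}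
    (h : y * x * y⁻¹ = x ^ k) (m : ℕ) (hk : ∀ i < m, 0 < i → k ^ i % r ≠ 1 % r) : Conf r m T := by
  have : Fact r.Prime := ⟨hr⟩
  have hx : orderOf x = r := orderOf_eq_prime hx hx1
  have hfx : IsOfFinOrder x := orderOf_pos_iff.1 (by rw [hx]; exact hr.pos)
  have : Finite (Subgroup.zpowers x) := hfx.finite_zpowers
  refine Conf.of_frob (Subgroup.zpowers x) ?_ ?_ ?_ m (a := y) ?_ ?_
  · rintro _ ⟨i, rfl⟩ _ ⟨j, rfl⟩
    rw [← zpow_add, ← zpow_add, add_comm]
  · exact IsPGroup.of_card (n := 1) (by rw [Nat.card_zpowers, hx, pow_one])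
  · intro h0
    rw [Subgroup.zpowers_eq_bot] at h0
    exact hx1 h0
  · intro e he
    obtain ⟨j, rfl⟩ := (hfx.mem_powers_iff_mem_zpowers.2 he)
    have := pow_conj h 1 j
    rw [pow_one, pow_one] at this
    simp only
    rw [this]
    exact Subgroup.pow_mem _ (Subgroup.mem_zpowers x) _
  · intro i hi him e he hc
    obtain ⟨j, rfl⟩ := (hfx.mem_powers_iff_mem_zpowers.2 he)
    simp only at hc ⊢
    have h1 := pow_conj h i j
    rw [hc, mul_assoc, mul_inv_cancel, mul_one] at h1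
    rw [pow_eq_pow_iff_modEq, hx] at h1
    have h2 : r ∣ j := by
      by_contra hj
      have h3 : (j.Coprime r) := ((Nat.Prime.coprime_iff_not_dvd hr).2 hj).symm
      have h4 : j * 1 ≡ j * k ^ i [MOD r] := by rw [mul_one]; exact h1
      have h5 : 1 ≡ k ^ i [MOD r] := Nat.ModEq.cancel_left_of_coprime (by rwa [Nat.coprime_comm] at h3) h4
      exact hk i him hi h5.symm
    obtain ⟨c, rfl⟩ := h2
    rw [pow_mul, ← hx, pow_orderOf_eq_one, one_pow]

/-- **Norm criterion.** `x` of prime order `r`, the conjugates `aⁱ x a⁻ⁱ` commute, and for the primes `l ∣ m` with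
`b = a ^ (m / l)` the product of the `bʲ x b⁻ʲ`, `j < l`, is trivial and `l ≠ r`. -/
theorem Conf.of_norm (hr : r.Prime) {x a : T} (hx : x ^ r = 1) (hx1 : x ≠ 1) (m : ℕ) (hm : 1 < m)
    (hc : ∀ i, x * (a ^ i * x * (a ^ i)⁻¹) = (a ^ i * x * (a ^ i)⁻¹) * x)
    (hn : ∀ l : ℕ, l.Prime → l ∣ m → l ≠ r ∧
      ((List.range l).map (fun j => (a ^ (m / l)) ^ j * x * ((a ^ (m / l)) ^ j)⁻¹)).prod = 1) : Conf r m T := by
  classical
  have : Fact r.Prime := ⟨hr⟩
  -- the conjugates
  let c : ℤ → T := fun i => a ^ i * x * (a ^ i)⁻¹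
  have hcc : ∀ i j : ℤ, c i * c j = c j * c i := by
    have h0 : ∀ (i : ℤ) (k : ℕ), c i * c (i + k) = c (i + k) * c i := by
      intro i k
      have h1 := hc k
      have h2 : ∀ y : T, a ^ i * y * (a ^ i)⁻¹ = MulAut.conj (a ^ i) y := fun y => rfl
      have h3 : c (i + k) = MulAut.conj (a ^ i) (a ^ k * x * (a ^ k)⁻¹) := by
        simp only [c, MulAut.conj_apply]
        rw [zpow_add, zpow_natCast]; group
      have h4 : c i = MulAut.conj (a ^ i) x := rfl
      rw [h3, h4, ← map_mul, ← map_mul, h1]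
    intro i j
    rcases le_total i j with h | h
    · obtain ⟨k, rfl⟩ := Int.le.dest h
      exact h0 i k
    · obtain ⟨k, rfl⟩ := Int.le.dest h
      exact (h0 j k).symm
  -- `a ^ m` centralises `x`
  obtain ⟨l₀, hl₀, hl₀m⟩ := Nat.exists_prime_and_dvd (Nat.ne_of_gt hm)
  have hprod : ∀ (b : T) (l : ℕ), ((List.range l).map (fun j => b ^ j * x * (b ^ j)⁻¹)).prod = 1 →
      (∀ i j : ℕ, (b ^ i * x * (b ^ i)⁻¹) * (b ^ j * x * (b ^ j)⁻¹) =
        (b ^ j * x * (b ^ j)⁻¹) * (b ^ i * x * (b ^ i)⁻¹)) → b ^ l * x * (b ^ l)⁻¹ = x := by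
    intro b l h1 h2
    have h3 : ((List.range l).map (fun j => b ^ (j + 1) * x * (b ^ (j + 1))⁻¹)).prod = 1 := by
      have h4 : (List.range l).map (fun j => b ^ (j + 1) * x * (b ^ (j + 1))⁻¹)
          = ((List.range l).map (fun j => b ^ j * x * (b ^ j)⁻¹)).map (MulAut.conj b) := by
        rw [List.map_map]
        apply List.map_congr_left
        intro j _
        simp only [Function.comp, MulAut.conj_apply, pow_succ']
        group
      rw [h4, ← map_list_prod, h1, map_one]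
    have h5 : ((List.range (l + 1)).map (fun j => b ^ j * x * (b ^ j)⁻¹)).prod
        = b ^ l * x * (b ^ l)⁻¹ := by
      rw [List.range_succ, List.map_append, List.prod_append, h1]
      simp
    have h6 : ((List.range (l + 1)).map (fun j => b ^ j * x * (b ^ j)⁻¹)).prod = x := by
      rw [List.range_succ_eq_map, List.map_cons, List.prod_cons, List.map_map]
      have : ((fun j => b ^ j * x * (b ^ j)⁻¹) ∘ Nat.succ) = fun j => b ^ (j + 1) * x * (b ^ (j + 1))⁻¹ := rfl
      rw [this, h3]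
      simp
    rw [← h5, h6]
  have ham : a ^ m * x * (a ^ m)⁻¹ = x := by
    have h1 := hprod (a ^ (m / l₀)) l₀ (hn l₀ hl₀ hl₀m).2 (by
      intro i j
      have := hcc ((m / l₀ * i : ℕ)) ((m / l₀ * j : ℕ))
      simp only [c, zpow_natCast] at this
      rw [← pow_mul, ← pow_mul]
      exact this)
    rwa [← pow_mul, Nat.div_mul_cancel hl₀m] at h1
  have hper : ∀ i : ℤ, c i ∈ Set.range (fun k : Fin m => c k) := by
    intro i
    have hm0 : (0 : ℤ) < m := by exact_mod_cast (by omega : 0 < m)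
    refine ⟨⟨(i % m).toNat, by have := Int.emod_lt_of_pos i hm0; have := Int.emod_nonneg i hm0.ne'; omega⟩, ?_⟩
    have h1 : ((i % m).toNat : ℤ) = i % m := Int.toNat_of_nonneg (Int.emod_nonneg i hm0.ne')
    have h2 : ∀ q : ℤ, (a ^ m) ^ q * x * ((a ^ m) ^ q)⁻¹ = x := by
      intro q
      have h3 : Commute (a ^ m) x := by
        have := mul_inv_eq_iff_eq_mul.1 ham
        exact this
      have h4 := h3.zpow_left q
      rw [h4.eq]; group
    simp only [c]
    rw [h1]
    have h3 : i = i % m + m * (i / m) := (Int.emod_add_mul_ediv i m).symm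
    conv_rhs => rw [h3, zpow_add, zpow_mul, zpow_natCast]
    have h4 := h2 (i / m)
    calc a ^ (i % (m : ℤ)) * x * (a ^ (i % (m : ℤ)))⁻¹
        = a ^ (i % (m : ℤ)) * ((a ^ m) ^ (i / (m : ℤ)) * x * ((a ^ m) ^ (i / (m : ℤ)))⁻¹) * (a ^ (i % (m : ℤ)))⁻¹ := by
          rw [h4]
      _ = _ := by group
  -- the abelian group
  have hfinr : (Set.range c).Finite := by
    apply (Set.finite_range (fun k : Fin m => c k)).subset
    rintro _ ⟨i, rfl⟩
    exact hper i
  set E : Subgroup T := Subgroup.closure (Set.range c) with hEdef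
  have hE : ∀ u ∈ E, ∀ v ∈ E, u * v = v * u := by
    have hcomm : ∀ u ∈ Set.range c, ∀ v ∈ Set.range c, u * v = v * u := by
      rintro _ ⟨i, rfl⟩ _ ⟨j, rfl⟩
      exact hcc i j
    intro u hu v hv
    have h1 : IsMulCommutative E := Subgroup.isMulCommutative_closure hcomm
    exact congrArg Subtype.val (h1.is_comm.comm (⟨u, hu⟩ : E) ⟨v, hv⟩)
  have hpow : ∀ u ∈ E, u ^ r = 1 := by
    intro u hu
    induction hu using Subgroup.closure_induction with
    | mem y hy =>
      obtain ⟨i, rfl⟩ := hy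
      simp only [c]
      rw [conj_pow, hx]; simp
    | one => simp
    | mul y z hy hz h1 h2 =>
      have : Commute y z := hE y hy z hz
      rw [this.mul_pow, h1, h2, one_mul]
    | inv y hy h1 => rw [inv_pow, h1, inv_one]
  have hfin : Finite E := by
    have h1 : IsMulCommutative E := ⟨⟨fun u v => Subtype.ext (hE u u.2 v v.2)⟩⟩
    have h2 : Group.FG E := by
      rw [Group.fg_iff_subgroup_fg]
      exact ⟨hfinr.toFinset, by rw [hEdef, Set.Finite.coe_toFinset]⟩
    let _ : CommGroup E := { (inferInstance : Group E) with mul_comm := fun u v => Subtype.ext (hE u u.2 v v.2) }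
    have h3 : IsMulTorsion E := by
      intro u
      rw [isOfFinOrder_iff_pow_eq_one]
      exact ⟨r, hr.pos, Subtype.ext (hpow u u.2)⟩
    exact CommGroup.finite_of_fg_isMulTorsion E h3
  have hxE : ∀ i : ℤ, c i ∈ E := fun i => Subgroup.subset_closure ⟨i, rfl⟩
  have hconj : ∀ (k : ℤ), ∀ u ∈ E, a ^ k * u * (a ^ k)⁻¹ ∈ E := by
    intro k u hu
    induction hu using Subgroup.closure_induction with
    | mem y hy =>
      obtain ⟨i, rfl⟩ := hy
      have : a ^ k * c i * (a ^ k)⁻¹ = c (k + i) := by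
        simp only [c]
        rw [zpow_add]; group
      rw [this]
      exact hxE _
    | one => simp
    | mul y z hy hz h1 h2 =>
      have := E.mul_mem h1 h2
      convert this using 1
      group
    | inv y hy h1 =>
      have := E.inv_mem h1
      convert this using 1
      group
  have hconj' : ∀ (b : T), (∃ k : ℕ, b = a ^ k) → ∀ (j : ℕ), ∀ u ∈ E, b ^ j * u * (b ^ j)⁻¹ ∈ E := by
    rintro b ⟨k, rfl⟩ j u hu
    have := hconj ((k * j : ℕ)) u hu
    rw [zpow_natCast, pow_mul] at this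
    exact this
  -- the norm maps
  have hnmul : ∀ (b : T), (∃ k : ℕ, b = a ^ k) → ∀ (l : ℕ), ∀ u ∈ E, ∀ v ∈ E,
      ((List.range l).map (fun j => b ^ j * (u * v) * (b ^ j)⁻¹)).prod
        = ((List.range l).map (fun j => b ^ j * u * (b ^ j)⁻¹)).prod *
          ((List.range l).map (fun j => b ^ j * v * (b ^ j)⁻¹)).prod := by
    intro b hb l u hu v hv
    induction l with
    | zero => simp only [_root_.List.range_zero, _root_.List.map_nil, _root_.List.prod_nil, _root_.mul_one]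
    | succ l ih =>
      rw [List.range_succ]
      simp only [List.map_append, List.prod_append, List.map_cons, List.map_nil, List.prod_singleton]
      rw [ih]
      have h1 : ((List.range l).map (fun j => b ^ j * v * (b ^ j)⁻¹)).prod ∈ E := by
        apply Subgroup.list_prod_mem
        intro y hy
        obtain ⟨j, -, rfl⟩ := List.mem_map.1 hy
        exact hconj' b hb j v hv
      have h2 := hE _ h1 _ (hconj' b hb l u hu)
      generalize ((List.range l).map (fun j => b ^ j * v * (b ^ j)⁻¹)).prod = P at *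
      generalize ((List.range l).map (fun j => b ^ j * u * (b ^ j)⁻¹)).prod = Q at *
      calc Q * P * (b ^ l * (u * v) * (b ^ l)⁻¹)
          = Q * (P * (b ^ l * u * (b ^ l)⁻¹)) * (b ^ l * v * (b ^ l)⁻¹) := by group
        _ = Q * ((b ^ l * u * (b ^ l)⁻¹) * P) * (b ^ l * v * (b ^ l)⁻¹) := by rw [h2]
        _ = _ := by group
  have hnone : ∀ (b : T) (l : ℕ), ((List.range l).map (fun j => b ^ j * 1 * (b ^ j)⁻¹)).prod = 1 := by
    intro b l
    apply List.prod_eq_one
    intro y hy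
    obtain ⟨j, -, rfl⟩ := List.mem_map.1 hy
    simp
  have hnorm : ∀ l : ℕ, l.Prime → l ∣ m → ∀ u ∈ E,
      ((List.range l).map (fun j => (a ^ (m / l)) ^ j * u * ((a ^ (m / l)) ^ j)⁻¹)).prod = 1 := by
    intro l hl hlm u hu
    induction hu using Subgroup.closure_induction with
    | mem y hy =>
      obtain ⟨i, rfl⟩ := hy
      have h1 : (List.range l).map (fun j => (a ^ (m / l)) ^ j * c i * ((a ^ (m / l)) ^ j)⁻¹)
          = ((List.range l).map (fun j => (a ^ (m / l)) ^ j * x * ((a ^ (m / l)) ^ j)⁻¹)).map (MulAut.conj (a ^ i)) := by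
        rw [List.map_map]
        apply List.map_congr_left
        intro j _
        simp only [Function.comp, MulAut.conj_apply, c]
        rw [← pow_mul, ← zpow_natCast]
        group
      rw [h1, ← map_list_prod, (hn l hl hlm).2, map_one]
    | one => exact hnone _ _
    | mul y z hy hz h1 h2 => rw [hnmul _ ⟨_, rfl⟩ _ y hy z hz, h1, h2, one_mul]
    | inv y hy h1 =>
      have h2 := hnmul (a ^ (m / l)) ⟨_, rfl⟩ l y hy y⁻¹ (E.inv_mem hy)
      rw [mul_inv_cancel, hnone, h1, one_mul] at h2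
      exact h2.symm
  have hamE : ∀ u ∈ E, Commute (a ^ m) u := by
    intro u hu
    induction hu using Subgroup.closure_induction with
    | mem y hy =>
      obtain ⟨i, rfl⟩ := hy
      have h3 : Commute (a ^ m) x := mul_inv_eq_iff_eq_mul.1 ham
      have h4 : Commute (a ^ m) (a ^ i) := ((Commute.refl a).pow_left m).zpow_right i
      exact (h4.mul_right h3).mul_right h4.inv_right
    | one => exact Commute.one_right _
    | mul y z hy hz h1 h2 => exact h1.mul_right h2
    | inv y hy h1 => exact h1.inv_right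
  refine Conf.of_frob E hE ?_ ?_ m (a := a) ?_ ?_
  · intro u
    exact ⟨1, Subtype.ext (by rw [pow_one]; exact hpow u u.2)⟩
  · intro h0
    have h1 : x ∈ E := by have := hxE 0; simpa only [c, _root_.zpow_ofNat, _root_.pow_zero, _root_.one_mul, _root_.inv_one, _root_.mul_one] using this
    rw [h0, Subgroup.mem_bot] at h1
    exact hx1 h1
  · intro e he
    have := hconj 1 e he
    rwa [zpow_one] at this
  · intro i hi him e he hie
    have hg : Commute (a ^ (Nat.gcd i m)) e := by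
      have h1 : a ^ (Nat.gcd i m) = (a ^ i) ^ (Nat.gcdA i m) * (a ^ m) ^ (Nat.gcdB i m) := by
        rw [← zpow_natCast, ← zpow_natCast, ← zpow_natCast, ← zpow_mul, ← zpow_mul, ← zpow_add,
          Nat.gcd_eq_gcd_ab]
      rw [h1]
      exact (Commute.zpow_left hie _).mul_left ((hamE e he).zpow_left _)
    have hgm : Nat.gcd i m ∣ m := Nat.gcd_dvd_right i m
    have hglt : Nat.gcd i m < m := lt_of_le_of_lt (Nat.gcd_le_left m hi) him
    obtain ⟨k, hk⟩ := hgm
    have hk1 : k ≠ 1 := by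
      rintro rfl
      omega
    obtain ⟨l, hl, hlk⟩ := Nat.exists_prime_and_dvd hk1
    obtain ⟨k', rfl⟩ := hlk
    have hlm : l ∣ m := by rw [hk]; exact ⟨Nat.gcd i m * k', by ring⟩
    have hml : m / l = Nat.gcd i m * k' := by
      rw [Nat.div_eq_iff_eq_mul_left hl.pos hlm]
      calc m = Nat.gcd i m * (l * k') := hk
        _ = Nat.gcd i m * k' * l := by ring
    have hb : Commute (a ^ (m / l)) e := by
      rw [hml, pow_mul]
      exact hg.pow_left _
    have h1 := hnorm l hl hlm e he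
    have h2 : ((List.range l).map (fun j => (a ^ (m / l)) ^ j * e * ((a ^ (m / l)) ^ j)⁻¹)).prod = e ^ l := by
      have : (List.range l).map (fun j => (a ^ (m / l)) ^ j * e * ((a ^ (m / l)) ^ j)⁻¹) = List.replicate l e := by
        rw [List.eq_replicate_iff]
        refine ⟨by simp, ?_⟩
        intro y hy
        obtain ⟨j, -, rfl⟩ := List.mem_map.1 hy
        rw [(hb.pow_left j).eq, mul_inv_cancel_right]
      rw [this, List.prod_replicate]
    rw [h2] at h1
    have h3 : orderOf e ∣ l := orderOf_dvd_of_pow_eq_one h1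
    have h4 : orderOf e ∣ r := orderOf_dvd_of_pow_eq_one (hpow e he)
    have h5 : orderOf e ∣ 1 := by
      have hco : Nat.Coprime l r := (Nat.coprime_primes hl hr).2 (hn l hl hlm).1
      rw [← hco.gcd_eq_one]
      exact Nat.dvd_gcd h3 h4
    exact orderOf_eq_one_iff.1 (Nat.dvd_one.1 h5)

/-- The norm criterion for elements of a subgroup `K ≤ G` which are images of `x`, `a` under `ι : M → G`. -/
theorem Conf.of_norm_map (hr : r.Prime) {M : Type w} [Group M] (ι : M →* T) (hι : Function.Injective ι) {K : Subgroup T}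
    {x a : M} (hxK : ι x ∈ K) (haK : ι a ∈ K) (hx : x ^ r = 1) (hx1 : x ≠ 1) (m : ℕ) (hm : 1 < m)
    (hc : ∀ i, x * (a ^ i * x * (a ^ i)⁻¹) = (a ^ i * x * (a ^ i)⁻¹) * x)
    (hn : ∀ l : ℕ, l.Prime → l ∣ m → l ≠ r ∧
      ((List.range l).map (fun j => (a ^ (m / l)) ^ j * x * ((a ^ (m / l)) ^ j)⁻¹)).prod = 1) : Conf r m K := by
  have hKinj : Function.Injective K.subtype := K.subtype_injective
  set x' : K := ⟨ι x, hxK⟩ with hx'
  set a' : K := ⟨ι a, haK⟩ with ha'
  have e1 : K.subtype x' = ι x := rfl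
  have e2 : K.subtype a' = ι a := rfl
  refine Conf.of_norm (T := K) hr (x := x') (a := a') ?_ ?_ m hm ?_ ?_
  · apply hKinj
    rw [map_pow, e1, ← map_pow, hx, map_one, map_one]
  · intro h1
    apply hx1
    apply hι
    rw [map_one, ← e1, h1, map_one]
  · intro i
    apply hKinj
    simp only [map_mul, map_inv, map_pow, e1, e2]
    have := congrArg ι (hc i)
    simpa only [map_mul, map_inv, map_pow] using this
  · intro l hl hlm
    refine ⟨(hn l hl hlm).1, ?_⟩
    apply hKinj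
    have h1 := congrArg ι (hn l hl hlm).2
    rw [map_list_prod, List.map_map, map_one] at h1 ⊢
    rw [← h1]
    congr 1
    apply List.map_congr_left
    intro j _
    simp only [Function.comp, map_mul, map_inv, map_pow, e1, e2]

end Cfsg.Agent.H921.Spor
end

-- part: H921/SporOrb
section
set_option linter.all false
open scoped Cfsg.Agent.FastGrp

/-!
# The weight-orbit bound with arbitrary orbits

`Orb r m T`: an abelian `r`-subgroup `E` of `T` and `e₀ ∈ E` such that each homomorphism `f : E → ZMod (r ^ k)` with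
`f e₀ ≠ 0` has at least `m` conjugates under elements normalising `E`. Then `Bd F r m T`. As for `Conf`, it is inherited
from subgroups and from quotients by finite normal subgroups of order prime to `r`.
-/

set_option autoImplicit false

universe u v w

namespace Cfsg.Agent.H921.Spor

open Cfsg.Agent.H912.Bd Module

/-- A logarithm on the `N`-th roots of unity. -/
theorem exists_log {K : Type*} [Field K] {N : ℕ} (hN : 0 < N) {ζ : K} (hζ : IsPrimitiveRoot ζ N) :
    ∃ lg : K → ZMod N, (∀ x y : K, x ^ N = 1 → y ^ N = 1 → lg (x * y) = lg x + lg y) ∧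
      ∀ x y : K, x ^ N = 1 → y ^ N = 1 → lg x = lg y → x = y := by
  have : NeZero N := ⟨hN.ne'⟩
  have h1 : ∀ x : K, ∃ i : ℕ, i < N ∧ (x ^ N = 1 → ζ ^ i = x) := by
    intro x
    by_cases hx : x ^ N = 1
    · obtain ⟨i, hi', hi⟩ := hζ.eq_pow_of_pow_eq_one hx
      exact ⟨i, hi', fun _ => hi⟩
    · exact ⟨0, hN, fun h => absurd h hx⟩
  choose i hi' hi using h1
  have hmod : ∀ j : ℕ, ζ ^ j = ζ ^ (j % N) := by
    intro j
    conv_lhs => rw [← Nat.mod_add_div j N, pow_add, pow_mul, hζ.pow_eq_one, one_pow, mul_one]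
  refine ⟨fun x => (i x : ZMod N), ?_, ?_⟩
  · intro x y hx hy
    have hxy : (x * y) ^ N = 1 := by rw [mul_pow, hx, hy, one_mul]
    have h2 : ζ ^ i (x * y) = ζ ^ (i x + i y) := by rw [hi _ hxy, pow_add, hi _ hx, hi _ hy]
    rw [← Nat.cast_add, ZMod.natCast_eq_natCast_iff]
    rw [hmod (i x + i y)] at h2
    have h3 := hζ.pow_inj (hi' _) (Nat.mod_lt _ hN) h2
    change i (x * y) % N = (i x + i y) % N
    rw [h3, Nat.mod_mod]
  · intro x y hx hy hxy
    simp only at hxy
    rw [ZMod.natCast_eq_natCast_iff] at hxy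
    have h3 : i x % N = i y % N := hxy
    rw [Nat.mod_eq_of_lt (hi' x), Nat.mod_eq_of_lt (hi' y)] at h3
    rw [← hi x hx, ← hi y hy, h3]

/-- The configuration. -/
def Orb (r m : ℕ) (T : Type*) [Group T] : Prop :=
  ∃ (E : Subgroup T) (e₀ : T) (k : ℕ), Finite E ∧ (∀ a ∈ E, ∀ b ∈ E, a * b = b * a) ∧ (∀ e ∈ E, e ^ r ^ k = 1) ∧
    e₀ ∈ E ∧ e₀ ≠ 1 ∧
    ∀ f : T → ZMod (r ^ k), (∀ a ∈ E, ∀ b ∈ E, f (a * b) = f a + f b) → f e₀ ≠ 0 →
      ∃ S : Finset T, S.card = m ∧ (∀ s ∈ S, ∀ e ∈ E, s * e * s⁻¹ ∈ E) ∧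
        ∀ s ∈ S, ∀ t ∈ S, s ≠ t → ∃ e ∈ E, f (s * e * s⁻¹) ≠ f (t * e * t⁻¹)

theorem Orb.mono {r m m' : ℕ} {T : Type v} [Group T] (h : Orb r m T) (hm : m' ≤ m) : Orb r m' T := by
  obtain ⟨E, e₀, k, hfin, hE, hEr, he₀, he₁, hd⟩ := h
  refine ⟨E, e₀, k, hfin, hE, hEr, he₀, he₁, ?_⟩
  intro f hf hf0
  obtain ⟨S, hSc, hS1, hS2⟩ := hd f hf hf0
  obtain ⟨S', hS's, hS'c⟩ := Finset.exists_subset_card_eq (hSc ▸ hm)
  exact ⟨S', hS'c, fun s hs => hS1 s (hS's hs), fun s hs t ht => hS2 s (hS's hs) t (hS's ht)⟩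

theorem Conf.orb {r m : ℕ} {T : Type v} [Group T] (hr : r.Prime) (h : Conf r m T) : Orb r m T := by
  obtain ⟨E, e₀, S, hfin, hE, hEr, he₀, he₁, hm, hS, hd⟩ := h
  have : Fact r.Prime := ⟨hr⟩
  obtain ⟨k, hk⟩ := IsPGroup.iff_card.1 hEr
  refine ⟨E, e₀, k, hfin, hE, ?_, he₀, he₁, ?_⟩
  · intro e he
    have := pow_card_eq_one' (x := (⟨e, he⟩ : E))
    rw [hk] at this
    exact congrArg Subtype.val this
  · intro f hf hf0
    refine ⟨S, hm, hS, ?_⟩
    intro s hs t ht hst
    obtain ⟨e, he, h1⟩ := hd s hs t ht hst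
    refine ⟨e, he, ?_⟩
    intro h2
    apply hf0
    have h3 : s * e * s⁻¹ = e₀ * (t * e * t⁻¹) := by rw [← h1]; group
    rw [h3, hf _ he₀ _ (hS t ht e he)] at h2
    exact add_eq_right.1 h2

theorem Orb.of_inj {r m : ℕ} {T : Type v} [Group T] {T' : Type w} [Group T'] (h : Orb r m T') (φ : T' →* T)
    (hφ : Function.Injective φ) : Orb r m T := by
  classical
  obtain ⟨E, e₀, k, hfin, hE, hEr, he₀, he₁, hd⟩ := h
  refine ⟨E.map φ, φ e₀, k, ?_, ?_, ?_, ⟨e₀, he₀, rfl⟩, ?_, ?_⟩
  · exact Finite.of_surjective (E.equivMapOfInjective φ hφ) (E.equivMapOfInjective φ hφ).surjective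
  · rintro _ ⟨a, ha, rfl⟩ _ ⟨b, hb, rfl⟩
    rw [← map_mul, ← map_mul, hE a ha b hb]
  · rintro _ ⟨a, ha, rfl⟩
    rw [← map_pow, hEr a ha, map_one]
  · intro h1
    exact he₁ (hφ (by rw [h1, map_one]))
  · intro f hf hf0
    obtain ⟨S, hSc, hS1, hS2⟩ := hd (fun x => f (φ x)) (by
      intro a ha b hb
      rw [map_mul]
      exact hf _ ⟨a, ha, rfl⟩ _ ⟨b, hb, rfl⟩) hf0
    refine ⟨S.image φ, by rw [Finset.card_image_of_injective _ hφ, hSc], ?_, ?_⟩
    · intro s hs e he
      obtain ⟨s, hs', rfl⟩ := Finset.mem_image.1 hs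
      obtain ⟨e, he, rfl⟩ := he
      exact ⟨s * e * s⁻¹, hS1 s hs' e he, by simp⟩
    · intro s hs t ht hst
      obtain ⟨s, hs', rfl⟩ := Finset.mem_image.1 hs
      obtain ⟨t, ht', rfl⟩ := Finset.mem_image.1 ht
      obtain ⟨e, he, h1⟩ := hS2 s hs' t ht' (fun h => hst (by rw [h]))
      refine ⟨φ e, ⟨e, he, rfl⟩, ?_⟩
      simpa using h1

theorem Orb.of_equiv {r m : ℕ} {T : Type v} [Group T] {T' : Type w} [Group T'] (h : Orb r m T') (e : T' ≃* T) :
    Orb r m T := h.of_inj e.toMonoidHom e.injective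

theorem Orb.of_equiv' {r m : ℕ} {T : Type v} [Group T] {T' : Type w} [Group T'] (h : Orb r m T') (e : T ≃* T') :
    Orb r m T := h.of_equiv e.symm

theorem Orb.of_sub {r m : ℕ} {T : Type v} [Group T] {H : Subgroup T} (h : Orb r m H) : Orb r m T :=
  h.of_inj H.subtype H.subtype_injective

/-- Lifting through a surjective homomorphism with finite kernel of order prime to `r`. -/
theorem Orb.of_surj {r m : ℕ} (hr : r.Prime) {H : Type v} [Group H] {Q : Type w} [Group Q] (π : H →* Q)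
    (hπ : Function.Surjective π) (hfin : Finite π.ker) (hcop : (Nat.card π.ker).Coprime r) (h : Orb r m Q) :
    Orb r m H := by
  classical
  obtain ⟨E, e₀, k, hEfin, hE, hEr, he₀, he₁, hd⟩ := h
  have : Fact r.Prime := ⟨hr⟩
  have hEr' : IsPGroup r E := fun e => ⟨k, Subtype.ext (hEr e e.2)⟩
  obtain ⟨A, hAfin, hAc, hAr, hAE, hsurj, hAinj, hlift⟩ := exists_lift_normal hr π hπ hfin hcop E hEfin hE hEr'
  obtain ⟨x₀, hx₀A, hx₀⟩ := hsurj e₀ he₀
  choose! σ hσ1 hσ2 using hlift
  choose! τ hτ1 hτ2 using hsurj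
  have hτπ : ∀ x ∈ A, τ (π x) = x := fun x hx => hAinj _ (hτ1 _ (hAE x hx)) _ hx (hτ2 _ (hAE x hx))
  refine ⟨A, x₀, k, hAfin, hAc, ?_, hx₀A, ?_, ?_⟩
  · intro x hx
    apply hAinj _ (A.pow_mem hx _) _ A.one_mem
    rw [map_pow, map_one, hEr _ (hAE x hx)]
  · intro h1
    apply he₁
    rw [← hx₀, h1, map_one]
  · intro f hf hf0
    obtain ⟨S, hSc, hS1, hS2⟩ := hd (fun e => f (τ e)) (by
      intro a ha b hb
      rw [← hf _ (hτ1 a ha) _ (hτ1 b hb)]
      congr 1
      apply hAinj _ (hτ1 _ (E.mul_mem ha hb)) _ (A.mul_mem (hτ1 a ha) (hτ1 b hb))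
      rw [map_mul, hτ2 _ (E.mul_mem ha hb), hτ2 a ha, hτ2 b hb]) (by
      rw [← hx₀, hτπ x₀ hx₀A]
      exact hf0)
    refine ⟨S.image σ, ?_, ?_, ?_⟩
    · rw [Finset.card_image_of_injOn, hSc]
      intro s hs t ht hst
      rw [← hσ1 s (hS1 s hs), ← hσ1 t (hS1 t ht)]
      exact congrArg π hst
    · intro s hs a ha
      obtain ⟨s, hs', rfl⟩ := Finset.mem_image.1 hs
      exact hσ2 s (hS1 s hs') a ha
    · intro s hs t ht hst
      obtain ⟨s, hs', rfl⟩ := Finset.mem_image.1 hs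
      obtain ⟨t, ht', rfl⟩ := Finset.mem_image.1 ht
      obtain ⟨e, he, h1⟩ := hS2 s hs' t ht' (fun h => hst (by rw [h]))
      refine ⟨τ e, hτ1 e he, ?_⟩
      have key : ∀ s ∈ S, τ (s * e * s⁻¹) = σ s * τ e * (σ s)⁻¹ := by
        intro s hs
        apply hAinj _ (hτ1 _ (hS1 s hs e he)) _ (hσ2 s (hS1 s hs) _ (hτ1 e he))
        rw [hτ2 _ (hS1 s hs e he), map_mul, map_mul, map_inv, hσ1 s (hS1 s hs), hτ2 e he]
      simp only [key s hs', key t ht'] at h1
      exact h1

theorem Orb.of_quot {r m : ℕ} (hr : r.Prime) {H : Type v} [Group H] (N : Subgroup H) [N.Normal] [Finite N]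
    (hcop : (Nat.card N).Coprime r) (h : Orb r m (H ⧸ N)) : Orb r m H := by
  refine h.of_surj hr (QuotientGroup.mk' N) (QuotientGroup.mk'_surjective N) ?_ ?_
  · rw [QuotientGroup.ker_mk']; infer_instance
  · rw [QuotientGroup.ker_mk']; exact hcop

/-! ### The bound -/

section Rep

variable {K : Type*} [Field K] {V : Type*} [AddCommGroup V] [Module K V] {L : Type*} [Group L]
variable [FiniteDimensional K V] (ρ : L →* Module.End K V) {A : Subgroup L}
  (hA : ∀ a ∈ A, ∀ b ∈ A, a * b = b * a) {N : ℕ} (hN : (N : K) ≠ 0) (hAN : ∀ a ∈ A, a ^ N = 1)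

include hA hN hAN in
theorem card_mul_finrank_le' {χ : A → K} (S : Finset L) (hS : ∀ s ∈ S, ∀ a ∈ A, s * a * s⁻¹ ∈ A)
    (hSc : ∀ s (hs : s ∈ S), ∀ t (ht : t ∈ S), s ≠ t → ∃ a : A, χ ⟨s * a * s⁻¹, hS s hs a a.2⟩ ≠
      χ ⟨t * a * t⁻¹, hS t ht a a.2⟩) :
    S.card * finrank K (wt ρ A χ) ≤ finrank K V := by
  let tw : S → (A → K) := fun s a => χ ⟨s * a * (s : L)⁻¹, hS s s.2 a a.2⟩
  have hinj : Function.Injective tw := by
    intro s t hst
    by_contra hne
    obtain ⟨a, ha⟩ := hSc s s.2 t t.2 (fun h => hne (Subtype.ext h))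
    exact ha (congrFun hst a)
  have hind : iSupIndep (fun s : S => wt ρ A (tw s)) := (indep_wt ρ hA hN hAN).comp hinj
  calc S.card * finrank K (wt ρ A χ) = ∑ _s : S, finrank K (wt ρ A χ) := by
        rw [Finset.sum_const, Finset.card_univ, Fintype.card_coe, smul_eq_mul]
    _ ≤ ∑ s : S, finrank K (wt ρ A (tw s)) := Finset.sum_le_sum fun s _ => finrank_wt_le ρ (hS s s.2)
    _ ≤ finrank K V := sum_finrank_le hind

end Rep

theorem Orb.bd {r m : ℕ} {T : Type v} [Group T] (h : Orb r m T) {F : Type u} [Field F] (hr : r.Prime)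
    (hrF : (r : F) ≠ 0) : Bd F r m T := by
  classical
  intro n hn
  obtain ⟨E, e₀, k, hfin, hE, hEr, he₀, he₀1, hd⟩ := h
  obtain ⟨L, _, π, ρ, hπ, hc, hcop, hρ⟩ := hn
  have hEr' : IsPGroup r E := fun e => ⟨k, Subtype.ext (hEr e e.2)⟩
  obtain ⟨A, hA, hAc, ⟨N, hN, hAN⟩, hlift, hnorm⟩ := exists_data (F := F) hπ hc hcop hr hrF hE hEr'
  obtain ⟨c, hcA, hce⟩ := hlift e₀ he₀
  obtain ⟨σ, hσ⟩ := hπ.hasRightInverse
  have hσinj : Function.Injective σ := hσ.injective
  have hck : repK ρ c ≠ 1 := by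
    intro h1
    have h2 : c ∈ ρ.ker := eq_one_of_repK h1
    have h3 := hρ h2
    rw [MonoidHom.mem_ker, hce] at h3
    exact he₀1 h3
  obtain ⟨χ, hχ, hχc⟩ := exists_wt (repK ρ) hAc hN hAN (c := ⟨c, hcA⟩) hck
  -- elements of `A` have exponent `r ^ k`
  have hAk : ∀ a ∈ A, a ^ r ^ k = 1 := by
    intro a ha
    obtain ⟨h1, l, hl⟩ := (hA a).1 ha
    apply lift_unique hc hcop (k := l) (l := 0) _ _ (by simp)
    · rw [map_pow, map_one, hEr _ h1]
    · rw [← pow_mul, mul_comm, pow_mul, hl, one_pow]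
  have hrK : ((r : ℕ) : AlgebraicClosure F) ≠ 0 := by
    intro h0
    apply hrF
    apply (algebraMap F (AlgebraicClosure F)).injective
    rw [map_natCast, map_zero, h0]
  have : NeZero ((r : ℕ) : AlgebraicClosure F) := ⟨hrK⟩
  have hrk : 0 < r ^ k := pow_pos hr.pos k
  have : NeZero ((r ^ k : ℕ) : AlgebraicClosure F) := ⟨by rw [Nat.cast_pow]; exact pow_ne_zero k hrK⟩
  obtain ⟨ζ, hζ⟩ := HasEnoughRootsOfUnity.exists_primitiveRoot (AlgebraicClosure F) (r ^ k)
  obtain ⟨lg, hlg1, hlg2⟩ := exists_log hrk hζ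
  have hχk : ∀ a : A, χ a ^ r ^ k = 1 := by
    intro a
    have h1 : ∀ j : ℕ, χ (a ^ j) = χ a ^ j := by
      intro j
      induction j with
      | zero => rw [pow_zero, pow_zero, wt_one _ hχ]
      | succ j ih => rw [pow_succ, pow_succ, wt_mul _ hχ, ih]
    rw [← h1]
    have h2 : a ^ r ^ k = 1 := Subtype.ext (hAk a a.2)
    rw [h2, wt_one _ hχ]
  choose! τ hτ1 hτ2 using hlift
  have hAinj : ∀ x ∈ A, ∀ y ∈ A, π x = π y → x = y := by
    intro x hx y hy hxy
    obtain ⟨-, l, hl⟩ := (hA x).1 hx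
    obtain ⟨-, l', hl'⟩ := (hA y).1 hy
    exact lift_unique hc hcop hxy hl hl'
  have hτπ : ∀ x ∈ A, τ (π x) = x := fun x hx =>
    hAinj _ (hτ1 _ ((hA x).1 hx).1) _ hx (hτ2 _ ((hA x).1 hx).1)
  let χ' : L → AlgebraicClosure F := fun x => if h : x ∈ A then χ ⟨x, h⟩ else 1
  have hχ' : ∀ x (h : x ∈ A), χ' x = χ ⟨x, h⟩ := fun x h => dif_pos h
  let f : T → ZMod (r ^ k) := fun e => lg (χ' (τ e))
  have hfmul : ∀ a ∈ E, ∀ b ∈ E, f (a * b) = f a + f b := by
    intro a ha b hb
    have h1 : τ (a * b) = τ a * τ b := by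
      apply hAinj _ (hτ1 _ (E.mul_mem ha hb)) _ (A.mul_mem (hτ1 a ha) (hτ1 b hb))
      rw [map_mul, hτ2 _ (E.mul_mem ha hb), hτ2 a ha, hτ2 b hb]
    simp only [f]
    rw [h1, ← hlg1, hχ' _ (A.mul_mem (hτ1 a ha) (hτ1 b hb)), hχ' _ (hτ1 a ha), hχ' _ (hτ1 b hb)]
    · congr 1
      exact wt_mul _ hχ ⟨τ a, hτ1 a ha⟩ ⟨τ b, hτ1 b hb⟩
    · rw [hχ' _ (hτ1 a ha)]; exact hχk _
    · rw [hχ' _ (hτ1 b hb)]; exact hχk _
  have hfe₀ : f e₀ ≠ 0 := by
    intro h0
    apply hχc
    have h1 : τ e₀ = c := by rw [← hce]; exact hτπ c hcA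
    have h2 : f 1 = 0 := by
      have := hfmul 1 E.one_mem 1 E.one_mem
      rw [mul_one] at this
      exact left_eq_add.1 this
    have h3 : lg (χ' (τ e₀)) = lg (χ' (τ 1)) := by
      have h4 : f e₀ = f 1 := by rw [h0, h2]
      exact h4
    have h5 := hlg2 _ _ (by rw [hχ' _ (hτ1 _ he₀)]; exact hχk _) (by rw [hχ' _ (hτ1 _ E.one_mem)]; exact hχk _) h3
    have h6 : τ 1 = 1 := by
      apply hAinj _ (hτ1 _ E.one_mem) _ A.one_mem
      rw [hτ2 _ E.one_mem, map_one]
    rw [h6, h1, hχ' _ hcA, hχ' _ A.one_mem] at h5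
    rw [h5]
    exact wt_one _ hχ
  obtain ⟨S, hSc, hS1, hS2⟩ := hd f hfmul hfe₀
  have hSσ : ∀ s ∈ S.image σ, ∀ a ∈ A, s * a * s⁻¹ ∈ A := by
    intro s hs a ha
    obtain ⟨t, ht, rfl⟩ := Finset.mem_image.1 hs
    exact hnorm (σ t) (by rw [hσ t]; exact hS1 t ht) a ha
  have hle := card_mul_finrank_le' (repK ρ) hAc hN hAN (χ := χ) (S.image σ) hSσ (by
    intro s hs t ht hst
    obtain ⟨s', hs', rfl⟩ := Finset.mem_image.1 hs
    obtain ⟨t', ht', rfl⟩ := Finset.mem_image.1 ht
    obtain ⟨e, he, hee⟩ := hS2 s' hs' t' ht' (fun h => hst (by rw [h]))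
    refine ⟨⟨τ e, hτ1 e he⟩, ?_⟩
    intro h1
    apply hee
    have key : ∀ s ∈ S, τ (s * e * s⁻¹) = σ s * τ e * (σ s)⁻¹ := by
      intro s hs
      apply hAinj _ (hτ1 _ (hS1 s hs e he)) _
        (hSσ _ (Finset.mem_image_of_mem _ hs) _ (hτ1 e he))
      rw [hτ2 _ (hS1 s hs e he), map_mul, map_mul, map_inv, hσ s, hτ2 e he]
    simp only [f]
    rw [key s' hs', key t' ht', hχ' _ (hSσ _ hs _ (hτ1 e he)), hχ' _ (hSσ _ ht _ (hτ1 e he))]
    exact congrArg lg h1)
  have hpos : 1 ≤ finrank (AlgebraicClosure F) (wt (repK ρ) A χ) := by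
    have : Nontrivial (wt (repK ρ) A χ) := Submodule.nontrivial_iff_ne_bot.2 hχ
    exact finrank_pos
  rw [Finset.card_image_of_injective _ hσinj, Module.finrank_fintype_fun_eq_card, Fintype.card_fin, hSc] at hle
  exact le_trans (Nat.le_mul_of_pos_right m hpos) hle

end Cfsg.Agent.H921.Spor
end

-- part: H921/SporLin
section
set_option linter.all false
open scoped Cfsg.Agent.FastGrp

/-!
# Elementary abelian configurations by linear algebra

`Orb.of_lin`: commuting elements `x i` of order `r` and elements `s j` whose conjugation action on the `x i` is given by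
matrices `A j`; the number of conjugates of the linear functionals not vanishing on `c₀` is checked by a computation.
-/

set_option autoImplicit false

universe u v w

namespace Cfsg.Agent.H921.Spor

variable {r : ℕ} {T : Type v} [Group T]

/-- `x i ^ a₀ * x (i + 1) ^ a₁ * ...` -/
def pv (x : ℕ → T) : ℕ → List ℕ → T
  | _, [] => 1
  | i, a :: l => x i ^ a * pv x (i + 1) l

/-- scalar product -/
def dot : List ℕ → List ℕ → ℕ
  | a :: l, b :: m => a * b + dot l m
  | _, _ => 0

/-- all vectors -/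
def vecs (r : ℕ) : ℕ → List (List ℕ)
  | 0 => [[]]
  | n + 1 => (List.range r).flatMap fun a => (vecs r n).map fun v => a :: v

/-- encoding of the functional `χ` twisted by the matrix -/
def enc (r : ℕ) (χ : List ℕ) : List (List ℕ) → ℕ
  | [] => 0
  | row :: l => dot χ row % r + r * enc r χ l

/-- number of different elements of a list -/
def cnt : List ℕ → ℕ
  | [] => 0
  | a :: l => if l.any (fun b => Nat.beq a b) then cnt l else cnt l + 1

theorem cnt_le (l : List ℕ) : cnt l ≤ l.toFinset.card := by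
  classical
  induction l with
  | nil => exact le_refl _
  | cons a l ih =>
    unfold cnt
    rw [List.toFinset_cons]
    split_ifs with h
    · exact le_trans ih (Finset.card_le_card (Finset.subset_insert _ _))
    · have h1 : a ∉ l.toFinset := by
        intro h2
        apply h
        rw [List.any_eq_true]
        exact ⟨a, List.mem_toFinset.1 h2, Nat.beq_refl a⟩
      rw [Finset.card_insert_of_notMem h1]
      omega

theorem mem_vecs {r : ℕ} : ∀ {n : ℕ} {v : List ℕ}, v.length = n → (∀ a ∈ v, a < r) → v ∈ vecs r n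
  | 0, [], _, _ => by simp [vecs]
  | n + 1, a :: v, h, h2 => by
    unfold vecs
    rw [List.mem_flatMap]
    refine ⟨a, List.mem_range.2 (h2 a List.mem_cons_self), ?_⟩
    rw [List.mem_map]
    exact ⟨v, mem_vecs (by simpa using h) (fun b hb => h2 b (List.mem_cons_of_mem _ hb)), rfl⟩

/-- the values of `f` on the `x i` -/
def vals (f : ℕ → ℕ) : ℕ → ℕ → List ℕ
  | _, 0 => []
  | i, n + 1 => f i :: vals f (i + 1) n

theorem length_vals (f : ℕ → ℕ) (i n : ℕ) : (vals f i n).length = n := by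
  induction n generalizing i with
  | zero => rfl
  | succ n ih => simp [vals, ih]

theorem lt_of_mem_vals {f : ℕ → ℕ} {r : ℕ} (hf : ∀ i, f i < r) (i n : ℕ) : ∀ a ∈ vals f i n, a < r := by
  induction n generalizing i with
  | zero => simp [vals]
  | succ n ih =>
    intro a ha
    rcases List.mem_cons.1 ha with rfl | h
    · exact hf i
    · exact ih _ a h

theorem enc_eq {r : ℕ} {χ : List ℕ} : ∀ {A B : List (List ℕ)}, A.length = B.length →
    (∀ i < A.length, dot χ (A.getD i []) % r = dot χ (B.getD i []) % r) → enc r χ A = enc r χ B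
  | [], [], _, _ => rfl
  | a :: A, b :: B, h, h2 => by
    unfold enc
    have h3 := h2 0 (by simp)
    simp only [List.getD_cons_zero] at h3
    rw [h3, enc_eq (A := A) (B := B) (by simpa using h)]
    intro i hi
    have h4 := h2 (i + 1) (by simpa using hi)
    simpa using h4

theorem Orb.of_lin (hr : r.Prime) (d M m : ℕ) (x s : ℕ → T) (hx : ∀ i, x i ^ r = 1) (hxd : ∀ i, d ≤ i → x i = 1)
    (hc : ∀ i j, x i * x j = x j * x i) (c₀ : List ℕ) (h₀ : pv x 0 c₀ ≠ 1) (A : ℕ → List (List ℕ))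
    (hAl : ∀ j < M, (A j).length = d)
    (hA : ∀ j < M, ∀ i < d, s j * x i * (s j)⁻¹ = pv x 0 ((A j).getD i []))
    (hd : (vecs r d).all (fun χ => Nat.beq (dot χ c₀ % r) 0 ||
      Nat.ble m (cnt ((List.range M).map fun j => enc r χ (A j)))) = true) : Orb r m T := by
  classical
  have : Fact r.Prime := ⟨hr⟩
  set E : Subgroup T := Subgroup.closure (Set.range x) with hEdef
  have hxE : ∀ i, x i ∈ E := fun i => Subgroup.subset_closure ⟨i, rfl⟩
  have hE : ∀ u ∈ E, ∀ v ∈ E, u * v = v * u := by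
    have hcomm : ∀ u ∈ Set.range x, ∀ v ∈ Set.range x, u * v = v * u := by
      rintro _ ⟨i, rfl⟩ _ ⟨j, rfl⟩
      exact hc i j
    intro u hu v hv
    have h1 : IsMulCommutative E := Subgroup.isMulCommutative_closure hcomm
    exact congrArg Subtype.val (h1.is_comm.comm (⟨u, hu⟩ : E) ⟨v, hv⟩)
  have hpow : ∀ u ∈ E, u ^ r = 1 := by
    intro u hu
    induction hu using Subgroup.closure_induction with
    | mem y hy =>
      obtain ⟨i, rfl⟩ := hy
      exact hx i
    | one => simp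
    | mul y z hy hz h1 h2 =>
      have : Commute y z := hE y hy z hz
      rw [this.mul_pow, h1, h2, one_mul]
    | inv y hy h1 => rw [inv_pow, h1, inv_one]
  have hfinr : (Set.range x).Finite := by
    apply ((Set.finite_range (fun k : Fin d => x k)).union (Set.finite_singleton (1 : T))).subset
    rintro _ ⟨i, rfl⟩
    by_cases hi : i < d
    · exact Or.inl ⟨⟨i, hi⟩, rfl⟩
    · exact Or.inr (hxd i (by omega))
  have hfin : Finite E := by
    have h2 : Group.FG E := by
      rw [Group.fg_iff_subgroup_fg]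
      exact ⟨hfinr.toFinset, by rw [hEdef, Set.Finite.coe_toFinset]⟩
    let _ : CommGroup E := { (inferInstance : Group E) with mul_comm := fun u v => Subtype.ext (hE u u.2 v v.2) }
    have h3 : IsMulTorsion E := by
      intro u
      rw [isOfFinOrder_iff_pow_eq_one]
      exact ⟨r, hr.pos, Subtype.ext (hpow u u.2)⟩
    exact CommGroup.finite_of_fg_isMulTorsion E h3
  have hpvE : ∀ (l : List ℕ) (i : ℕ), pv x i l ∈ E := by
    intro l
    induction l with
    | nil => intro i; exact E.one_mem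
    | cons a l ih => intro i; exact E.mul_mem (E.pow_mem (hxE i) a) (ih _)
  have hpv1 : ∀ (l : List ℕ) (i : ℕ), d ≤ i → pv x i l = 1 := by
    intro l
    induction l with
    | nil => intro i _; rfl
    | cons a l ih =>
      intro i hi
      change x i ^ a * pv x (i + 1) l = 1
      rw [hxd i hi, ih (i + 1) (by omega), one_pow, one_mul]
  -- the `s j` normalise `E`
  have hnorm : ∀ j < M, ∀ e ∈ E, s j * e * (s j)⁻¹ ∈ E := by
    intro j hj e he
    induction he using Subgroup.closure_induction with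
    | mem y hy =>
      obtain ⟨i, rfl⟩ := hy
      by_cases hi : i < d
      · rw [hA j hj i hi]; exact hpvE _ _
      · rw [hxd i (by omega)]; simp
    | one => simp
    | mul y z hy hz h1 h2 =>
      have := E.mul_mem h1 h2
      convert this using 1
      group
    | inv y hy h1 =>
      have := E.inv_mem h1
      convert this using 1
      group
  refine ⟨E, pv x 0 c₀, 1, hfin, hE, by simpa using hpow, hpvE _ _, h₀, ?_⟩
  rw [pow_one]
  intro f hf hf0
  have hf1 : f 1 = 0 := by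
    have := hf 1 E.one_mem 1 E.one_mem
    rw [mul_one] at this
    exact left_eq_add.1 this
  have hfpow : ∀ e ∈ E, ∀ a : ℕ, f (e ^ a) = a * f e := by
    intro e he a
    induction a with
    | zero => rw [pow_zero, hf1]; simp
    | succ a ih =>
      rw [pow_succ, hf _ (E.pow_mem he a) _ he, ih]
      push_cast
      ring
  have hrpos : NeZero r := ⟨hr.pos.ne'⟩
  let g : ℕ → ℕ := fun i => (f (x i)).val
  have hg : ∀ i, ((g i : ℕ) : ZMod r) = f (x i) := fun i => ZMod.natCast_zmod_val _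
  have hglt : ∀ i, g i < r := fun i => ZMod.val_lt _
  have hdot : ∀ (l : List ℕ) (i n : ℕ), i + n = d → f (pv x i l) = (dot (vals g i n) l : ℕ) := by
    intro l
    induction l with
    | nil =>
      intro i n _
      change f 1 = _
      rw [hf1]
      cases n <;> simp [vals, dot]
    | cons a l ih =>
      intro i n hin
      cases n with
      | zero =>
        rw [hpv1 _ i (by omega), hf1]
        simp [vals, dot]
      | succ n =>
        change f (x i ^ a * pv x (i + 1) l) = _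
        rw [hf _ (E.pow_mem (hxE i) a) _ (hpvE _ _), hfpow _ (hxE i), ih (i + 1) n (by omega)]
        simp only [vals, dot]
        push_cast
        rw [hg]
        ring
  have h1 := List.all_eq_true.1 hd (vals g 0 d) (mem_vecs (length_vals g 0 d) (lt_of_mem_vals hglt 0 d))
  rw [Bool.or_eq_true] at h1
  have h2 : Nat.ble m (cnt ((List.range M).map fun j => enc r (vals g 0 d) (A j))) = true := by
    refine h1.resolve_left ?_
    intro h3
    apply hf0
    rw [hdot c₀ 0 d (by omega)]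
    have h4 := Nat.eq_of_beq_eq_true h3
    rw [ZMod.natCast_eq_zero_iff]
    exact Nat.dvd_of_mod_eq_zero h4
  have h3 : m ≤ ((List.range M).map fun j => enc r (vals g 0 d) (A j)).toFinset.card :=
    le_trans (Nat.le_of_ble_eq_true h2) (cnt_le _)
  obtain ⟨I, hI1, hI2⟩ := Finset.exists_subset_card_eq h3
  have h4 : ∀ y ∈ I, ∃ j, j < M ∧ enc r (vals g 0 d) (A j) = y := by
    intro y hy
    have := List.mem_toFinset.1 (hI1 hy)
    obtain ⟨j, hj, hjy⟩ := List.mem_map.1 this
    exact ⟨j, List.mem_range.1 hj, hjy⟩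
  choose! τ hτ1 hτ2 using h4
  -- different encodings give different functions
  have key : ∀ y ∈ I, ∀ z ∈ I, y ≠ z → ∃ i < d,
      f (s (τ y) * x i * (s (τ y))⁻¹) ≠ f (s (τ z) * x i * (s (τ z))⁻¹) := by
    intro y hy z hz hyz
    by_contra hcon
    push Not at hcon
    apply hyz
    rw [← hτ2 y hy, ← hτ2 z hz]
    apply enc_eq
    · rw [hAl _ (hτ1 y hy), hAl _ (hτ1 z hz)]
    · intro i hi
      rw [hAl _ (hτ1 y hy)] at hi
      have h5 := hcon i hi
      rw [hA _ (hτ1 y hy) i hi, hA _ (hτ1 z hz) i hi, hdot _ 0 d (by omega), hdot _ 0 d (by omega),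
        ZMod.natCast_eq_natCast_iff] at h5
      exact h5
  refine ⟨I.image (fun y => s (τ y)), ?_, ?_, ?_⟩
  · rw [Finset.card_image_of_injOn, hI2]
    intro y hy z hz hyz
    by_contra hne
    obtain ⟨i, -, h5⟩ := key y hy z hz hne
    apply h5
    simp only at hyz
    rw [hyz]
  · intro u hu e he
    obtain ⟨y, hy, rfl⟩ := Finset.mem_image.1 hu
    exact hnorm _ (hτ1 y hy) e he
  · intro u hu v hv huv
    obtain ⟨y, hy, rfl⟩ := Finset.mem_image.1 hu
    obtain ⟨z, hz, rfl⟩ := Finset.mem_image.1 hv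
    obtain ⟨i, -, h5⟩ := key y hy z hz (fun h => huv (by rw [h]))
    exact ⟨x i, hxE i, h5⟩

theorem map_pv {M : Type w} [Group M] (ι : M →* T) (x : ℕ → M) (l : List ℕ) (i : ℕ) :
    ι (pv x i l) = pv (fun j => ι (x j)) i l := by
  induction l generalizing i with
  | nil => exact map_one ι
  | cons a l ih =>
    change ι (x i ^ a * pv x (i + 1) l) = _
    rw [map_mul, map_pow, ih]
    rfl

/-- The same for elements of a subgroup `K ≤ T` which are images of elements under `ι : M → T`. -/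
theorem Orb.of_lin_map (hr : r.Prime) {L : Type w} [Group L] (ι : L →* T) (hι : Function.Injective ι) {K : Subgroup T}
    (d M m : ℕ) (x s : ℕ → L) (hxK : ∀ i, ι (x i) ∈ K) (hsK : ∀ j, ι (s j) ∈ K) (hx : ∀ i, x i ^ r = 1)
    (hxd : ∀ i, d ≤ i → x i = 1) (hc : ∀ i j, x i * x j = x j * x i) (c₀ : List ℕ) (h₀ : pv x 0 c₀ ≠ 1)
    (A : ℕ → List (List ℕ)) (hAl : ∀ j < M, (A j).length = d)
    (hA : ∀ j < M, ∀ i < d, s j * x i * (s j)⁻¹ = pv x 0 ((A j).getD i []))
    (hd : (vecs r d).all (fun χ => Nat.beq (dot χ c₀ % r) 0 ||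
      Nat.ble m (cnt ((List.range M).map fun j => enc r χ (A j)))) = true) : Orb r m K := by
  have hKinj : Function.Injective K.subtype := K.subtype_injective
  set x' : ℕ → K := fun i => ⟨ι (x i), hxK i⟩ with hx'
  set s' : ℕ → K := fun j => ⟨ι (s j), hsK j⟩ with hs'
  have e1 : ∀ i, K.subtype (x' i) = ι (x i) := fun i => rfl
  have e2 : ∀ i, K.subtype (s' i) = ι (s i) := fun i => rfl
  have e3 : ∀ (l : List ℕ) (i : ℕ), K.subtype (pv x' i l) = ι (pv x i l) := by
    intro l i
    rw [map_pv, map_pv]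
    rfl
  refine Orb.of_lin (T := K) hr d M m x' s' ?_ ?_ ?_ c₀ ?_ A hAl ?_ hd
  · intro i
    apply hKinj
    rw [map_pow, e1, ← map_pow, hx, map_one, map_one]
  · intro i hi
    apply hKinj
    rw [e1, hxd i hi, map_one, map_one]
  · intro i j
    apply hKinj
    rw [map_mul, map_mul, e1, e1, ← map_mul, hc, map_mul]
  · intro h1
    apply h₀
    apply hι
    rw [map_one, ← e3, h1, map_one]
  · intro j hj i hi
    apply hKinj
    rw [e3, map_mul, map_mul, map_inv, e1, e2, ← map_inv, ← map_mul, ← map_mul, hA j hj i hi]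

end Cfsg.Agent.H921.Spor

private theorem dce_71be59037c74 : _root_.True := by
  try have : _root_.True := by simp only [_root_.Cfsg.Agent.H921.Spor.cnt.eq_def]
  try have : _root_.True := by simp only [_root_.Cfsg.Agent.H921.Spor.vecs.eq_def]
  try have : _root_.True := by simp only [_root_.Cfsg.Agent.H921.Spor.vals.eq_2]
  try have : _root_.True := by simp only [_root_.Cfsg.Agent.H921.Spor.enc.eq_def]
  try have : _root_.True := by simp only [_root_.Cfsg.Agent.H921.Spor.dot.eq_def]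
  try have : _root_.True := by simp only [_root_.Cfsg.Agent.H921.Spor.vals.eq_1]
  try have : _root_.True := by simp only [_root_.Cfsg.Agent.H921.Spor.dot._sparseCasesOn_1.else_eq]
  try have : _root_.True := by simp only [_root_.Cfsg.Agent.H921.Spor.vecs.eq_1]
  try have : _root_.True := by simp only [_root_.Cfsg.Agent.H921.Spor.dot.eq_2]
  try have : _root_.True := by simp only [_root_.Cfsg.Agent.H921.Spor.vecs.eq_2]
  try have : _root_.True := by simp only [_root_.Cfsg.Agent.H921.Spor.vals.eq_def]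
  try have : _root_.True := by simp only [_root_.Cfsg.Agent.H921.Spor.dot.eq_1]
  exact _root_.True.intro
end

-- part: H921/SporWord
section
set_option linter.all false
open scoped Cfsg.Agent.FastGrp

/-!
# Configurations from words with decidable comparison
-/

set_option autoImplicit false

namespace Cfsg.Agent.H921.Spor

universe v w

/-- Words in letters of a group, with sound (incomplete) tests for equality and for being nontrivial. -/
structure Wd (T : Type v) [Group T] where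
  W : List ℕ → T
  nil : W [] = 1
  app : ∀ u v, W (u ++ v) = W u * W v
  eq : List ℕ → List ℕ → Bool
  eq_sound : ∀ {u v}, eq u v = true → W u = W v
  ne : List ℕ → Bool
  ne_sound : ∀ {u}, ne u = true → W u ≠ 1

namespace Wd

variable {T : Type v} [Group T] (w : Wd T)

/-- powers of a word -/
def rep (u : List ℕ) : ℕ → List ℕ
  | 0 => []
  | n + 1 => u ++ rep u n

theorem W_rep (u : List ℕ) (n : ℕ) : w.W (rep u n) = w.W u ^ n := by
  induction n with
  | zero => rw [pow_zero]; exact w.nil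
  | succ n ih => rw [rep, w.app, ih, pow_succ']

/-- the checks for an element of prime order and an element of its normaliser -/
def chkP (r k : ℕ) (u v : List ℕ) : Bool :=
  w.eq (rep u r) [] && w.ne u && w.eq (v ++ u) (rep u k ++ v)

theorem conf_prime {r k : ℕ} (u v : List ℕ) (m : ℕ) (hr : r.Prime) (h : w.chkP r k u v = true)
    (hk : ∀ i < m, 0 < i → k ^ i % r ≠ 1 % r) : Conf r m T := by
  unfold chkP at h
  simp only [Bool.and_eq_true] at h
  refine Conf.of_prime hr (x := w.W u) (y := w.W v) ?_ (w.ne_sound h.1.2) (k := k) ?_ m hk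
  · rw [← W_rep, w.eq_sound h.1.1, w.nil]
  · rw [mul_inv_eq_iff_eq_mul, ← w.app, w.eq_sound h.2, w.app, W_rep]

/-- word for a vector -/
def pvW (X : List (List ℕ)) : ℕ → List ℕ → List ℕ
  | _, [] => []
  | i, a :: l => rep (X.getD i []) a ++ pvW X (i + 1) l

theorem W_pvW (X : List (List ℕ)) (l : List ℕ) (i : ℕ) :
    w.W (pvW X i l) = pv (fun j => w.W (X.getD j [])) i l := by
  induction l generalizing i with
  | nil => exact w.nil
  | cons a l ih =>
    change w.W (_ ++ _) = _ * _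
    rw [w.app, ih, W_rep]

/-- The conditions of `Orb.of_lin`. -/
def chkL (r d M m : ℕ) (X S : List (List ℕ)) (Al : List (List (List ℕ))) (c₀ : List ℕ) : Bool :=
  Nat.beq X.length d &&
  (X.all fun P => w.eq (rep P r) []) &&
  (X.all fun P => X.all fun Q => w.eq (P ++ Q) (Q ++ P)) &&
  w.ne (pvW X 0 c₀) &&
  ((List.range M).all fun j => Nat.beq (Al.getD j []).length d &&
    (List.range d).all fun i => w.eq (S.getD j [] ++ X.getD i [])
      (pvW X 0 ((Al.getD j []).getD i []) ++ S.getD j [])) &&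
  ((vecs r d).all (fun χ => Nat.beq (dot χ c₀ % r) 0 ||
      Nat.ble m (cnt ((List.range M).map fun j => enc r χ (Al.getD j [])))))

theorem mem_or_getD {X : List (List ℕ)} (i : ℕ) : X.getD i [] ∈ X ∨ X.getD i [] = [] := by
  by_cases hi : i < X.length
  · left
    rw [List.getD_eq_getElem _ _ hi]
    exact List.getElem_mem hi
  · right
    exact List.getD_eq_default _ _ (by omega)

theorem orb {r d M m : ℕ} {X S : List (List ℕ)} {Al : List (List (List ℕ))} {c₀ : List ℕ} (hr : r.Prime)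
    (h : w.chkL r d M m X S Al c₀ = true) : Orb r m T := by
  unfold chkL at h
  simp only [Bool.and_eq_true] at h
  obtain ⟨⟨⟨⟨⟨hXd, hXr⟩, hXc⟩, hc₀⟩, hA⟩, hd⟩ := h
  have hXd' := Nat.eq_of_beq_eq_true hXd
  refine Orb.of_lin hr d M m (fun i => w.W (X.getD i []))
    (fun j => w.W (S.getD j [])) ?_ ?_ ?_ c₀ ?_ (fun j => Al.getD j []) ?_ ?_ hd
  · intro i
    rcases mem_or_getD (X := X) i with h1 | h1
    · rw [← W_rep, w.eq_sound (List.all_eq_true.1 hXr _ h1), w.nil]
    · rw [h1, w.nil, one_pow]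
  · intro i hi
    rw [List.getD_eq_default _ _ (by omega), w.nil]
  · intro i j
    rcases mem_or_getD (X := X) i with h1 | h1
    · rcases mem_or_getD (X := X) j with h2 | h2
      · rw [← w.app, w.eq_sound (List.all_eq_true.1 (List.all_eq_true.1 hXc _ h1) _ h2), w.app]
      · rw [h2, w.nil, mul_one, one_mul]
    · rw [h1, w.nil, mul_one, one_mul]
  · rw [← w.W_pvW]
    exact w.ne_sound hc₀
  · intro j hj
    have h1 := List.all_eq_true.1 hA j (List.mem_range.2 hj)
    rw [Bool.and_eq_true] at h1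
    exact Nat.eq_of_beq_eq_true h1.1
  · intro j hj i hi
    have h1 := List.all_eq_true.1 hA j (List.mem_range.2 hj)
    rw [Bool.and_eq_true] at h1
    have h2 := w.eq_sound (List.all_eq_true.1 h1.2 i (List.mem_range.2 hi))
    rw [mul_inv_eq_iff_eq_mul, ← w.W_pvW, ← w.app, h2, w.app]

end Wd

end Cfsg.Agent.H921.Spor

private theorem dce_f5473ea3b650 : _root_.True := by
  try have : _root_.True := by simp only [_root_.Cfsg.Agent.H921.Spor.Wd.rep.eq_def]
  try have : _root_.True := by simp only [_root_.Cfsg.Agent.H921.Spor.Wd.rep.eq_2]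
  try have : _root_.True := by simp only [_root_.Cfsg.Agent.H921.Spor.Wd.rep.eq_1]
  exact _root_.True.intro
end

-- part: H921/SporGen
section
set_option linter.all false
open scoped Cfsg.Agent.FastGrp

/-!
# Linear configurations from generators of the normaliser
-/

set_option autoImplicit false

namespace Cfsg.Agent.H921.Spor

universe v w

variable {T : Type v} [Group T] {r : ℕ}

/-- sum of vectors modulo `r` -/
def vadd (r : ℕ) : List ℕ → List ℕ → List ℕ
  | a :: l, b :: m => (a + b) % r :: vadd r l m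
  | _, _ => []

/-- multiple of a vector modulo `r` -/
def vsmul (r c : ℕ) (l : List ℕ) : List ℕ := l.map fun a => c * a % r

/-- linear combination of rows -/
def lincomb (r d : ℕ) : List ℕ → List (List ℕ) → List ℕ
  | a :: l, b :: m => vadd r (vsmul r a b) (lincomb r d l m)
  | _, _ => List.replicate d 0

/-- product of matrices given by rows: the matrix of `g s` from that of `g` (`B`) and of `s` (`A`) -/
def mmul (r d : ℕ) (B A : List (List ℕ)) : List (List ℕ) := A.map fun row => lincomb r d row B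

/-- identity matrix -/
def mone (d : ℕ) : List (List ℕ) := (List.range d).map fun i => (List.range d).map fun j => bif Nat.beq i j then 1 else 0

/-- matrix of a word -/
def mword (r d : ℕ) (B : List (List (List ℕ))) : List ℕ → List (List ℕ)
  | [] => mone d
  | k :: w => mmul r d (B.getD k []) (mword r d B w)

/-- product of a word -/
def gword (g : ℕ → T) : List ℕ → T
  | [] => 1
  | k :: w => g k * gword g w

section

variable {x : ℕ → T} (hx : ∀ i, x i ^ r = 1) (hc : ∀ i j, x i * x j = x j * x i)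

include hx in
theorem pow_mod_eq (i a : ℕ) : x i ^ (a % r) = x i ^ a := by
  conv_rhs => rw [← Nat.mod_add_div a r, pow_add, pow_mul, hx, one_pow, mul_one]

include hc in
theorem pv_comm_x (i j : ℕ) (l : List ℕ) : x i * pv x j l = pv x j l * x i := by
  induction l generalizing j with
  | nil => simp [pv]
  | cons a l ih =>
    have h1 : x i * x j ^ a = x j ^ a * x i := (Commute.pow_right (hc i j) a).eq
    calc x i * (x j ^ a * pv x (j + 1) l) = x i * x j ^ a * pv x (j + 1) l := by rw [mul_assoc]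
      _ = x j ^ a * (x i * pv x (j + 1) l) := by rw [h1, mul_assoc]
      _ = x j ^ a * pv x (j + 1) l * x i := by rw [ih, mul_assoc]

include hc in
theorem pv_comm_pow (i a j : ℕ) (l : List ℕ) : x i ^ a * pv x j l = pv x j l * x i ^ a :=
  (Commute.pow_left (pv_comm_x hc i j l) a).eq

include hx hc in
theorem pv_vadd : ∀ {l m : List ℕ} (i : ℕ), l.length = m.length → pv x i (vadd r l m) = pv x i l * pv x i m
  | [], [], _, _ => (mul_one 1).symm
  | a :: l, b :: m, i, h => by
    change x i ^ ((a + b) % r) * pv x (i + 1) (vadd r l m) = x i ^ a * pv x (i + 1) l * (x i ^ b * pv x (i + 1) m)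
    rw [pow_mod_eq hx, pv_vadd (l := l) (m := m) (i + 1) (by simpa using h), pow_add]
    have h1 := pv_comm_pow hc i b (i + 1) l
    calc x i ^ a * x i ^ b * (pv x (i + 1) l * pv x (i + 1) m)
        = x i ^ a * (x i ^ b * pv x (i + 1) l) * pv x (i + 1) m := by simp only [mul_assoc]
      _ = x i ^ a * (pv x (i + 1) l * x i ^ b) * pv x (i + 1) m := by rw [h1]
      _ = _ := by simp only [mul_assoc]

include hx hc in
theorem pv_vsmul (c : ℕ) : ∀ (l : List ℕ) (i : ℕ), pv x i (vsmul r c l) = pv x i l ^ c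
  | [], _ => (one_pow c).symm
  | a :: l, i => by
    change x i ^ (c * a % r) * pv x (i + 1) (vsmul r c l) = (x i ^ a * pv x (i + 1) l) ^ c
    rw [pow_mod_eq hx, pv_vsmul c l (i + 1), (show Commute (x i ^ a) (pv x (i + 1) l) from pv_comm_pow hc i a _ l).mul_pow,
      ← pow_mul, mul_comm c a]

theorem pv_zero (d i : ℕ) : pv x i (List.replicate d 0) = 1 := by
  induction d generalizing i with
  | zero => rfl
  | succ d ih =>
    change x i ^ 0 * pv x (i + 1) (List.replicate d 0) = 1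
    rw [pow_zero, one_mul, ih]

theorem length_vadd {l m : List ℕ} (h : l.length = m.length) : (vadd r l m).length = l.length := by
  induction l generalizing m with
  | nil => cases m <;> simp_all [vadd]
  | cons a l ih =>
    cases m with
    | nil => simp at h
    | cons b m => simp [vadd, ih (m := m) (by simpa using h)]

theorem length_vsmul (c : ℕ) (l : List ℕ) : (vsmul r c l).length = l.length := by simp [vsmul]

theorem length_lincomb (d : ℕ) : ∀ (l : List ℕ) (B : List (List ℕ)), (∀ b ∈ B, b.length = d) → (lincomb r d l B).length = d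
  | a :: l, b :: m, h => by
    have h1 := length_lincomb d l m (fun b hb => h b (List.mem_cons_of_mem _ hb))
    have h2 := h b List.mem_cons_self
    unfold lincomb
    rw [length_vadd (by rw [length_vsmul, h1, h2]), length_vsmul, h2]
  | [], _, _ => by simp [lincomb]
  | _ :: _, [], _ => by simp [lincomb]

include hx hc in
theorem pv_lincomb (d : ℕ) : ∀ (l : List ℕ) (B : List (List ℕ)) (_ : ∀ b ∈ B, b.length = d) (_ : l.length = B.length)
    (y : ℕ → T) (i : ℕ) (_ : ∀ j < B.length, y (i + j) = pv x 0 (B.getD j [])), pv x 0 (lincomb r d l B) = pv y i l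
  | [], [], _, _, _, _, _ => by
    change pv x 0 (List.replicate d 0) = 1
    exact pv_zero d 0
  | a :: l, b :: B, hB, hl, y, i, hy => by
    have hB' : ∀ b ∈ B, b.length = d := fun b hb => hB b (List.mem_cons_of_mem _ hb)
    change pv x 0 (vadd r (vsmul r a b) (lincomb r d l B)) = y i ^ a * pv y (i + 1) l
    rw [pv_vadd hx hc 0 (by rw [length_vsmul, length_lincomb d l B hB', hB b List.mem_cons_self]), pv_vsmul hx hc,
      pv_lincomb d l B hB' (by simpa using hl) y (i + 1)]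
    · have h1 := hy 0 (by simp)
      rw [add_zero, List.getD_cons_zero] at h1
      rw [h1]
    · intro j hj
      have h1 := hy (j + 1) (by simpa using hj)
      rw [List.getD_cons_succ] at h1
      rw [show i + 1 + j = i + (j + 1) by omega]
      exact h1

theorem conj_pv (g : T) (y : ℕ → T) (l : List ℕ) (i : ℕ) : g * pv y i l * g⁻¹ = pv (fun j => g * y j * g⁻¹) i l := by
  induction l generalizing i with
  | nil => simp [pv]
  | cons a l ih =>
    change g * (y i ^ a * pv y (i + 1) l) * g⁻¹ = (g * y i * g⁻¹) ^ a * pv (fun j => g * y j * g⁻¹) (i + 1) l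
    rw [← ih, conj_pow]
    group

/-- shapes of matrices -/
def Shape (d : ℕ) (B : List (List ℕ)) : Prop := B.length = d ∧ ∀ b ∈ B, b.length = d

theorem shape_mone (d : ℕ) : Shape d (mone d) := by
  refine ⟨by simp [mone], ?_⟩
  intro b hb
  unfold mone at hb
  rw [List.mem_map] at hb
  obtain ⟨i, _, rfl⟩ := hb
  simp

theorem shape_mword {d : ℕ} {B : List (List (List ℕ))} (hB : ∀ b ∈ B, Shape d b) (hd : 0 < d) (w : List ℕ)
    (hw : ∀ k ∈ w, k < B.length) : Shape d (mword r d B w) := by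
  induction w with
  | nil => exact shape_mone d
  | cons k w ih =>
    have ih := ih (fun j hj => hw j (List.mem_cons_of_mem _ hj))
    have hk := hw k List.mem_cons_self
    have hBk : Shape d (B.getD k []) := by
      rw [List.getD_eq_getElem _ _ hk]
      exact hB _ (List.getElem_mem hk)
    refine ⟨by simp [mword, mmul, ih.1], ?_⟩
    intro b hb
    unfold mword mmul at hb
    rw [List.mem_map] at hb
    obtain ⟨row, _, rfl⟩ := hb
    exact length_lincomb d row _ hBk.2

include hx hc in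
theorem conj_gword {d : ℕ} {B : List (List (List ℕ))} {g : ℕ → T} (hB : ∀ b ∈ B, Shape d b) (hd : 0 < d)
    (hg : ∀ k < B.length, ∀ i < d, g k * x i * (g k)⁻¹ = pv x 0 ((B.getD k []).getD i []))
    (w : List ℕ) (hw : ∀ k ∈ w, k < B.length) (i : ℕ) (hi : i < d) :
    gword g w * x i * (gword g w)⁻¹ = pv x 0 ((mword r d B w).getD i []) := by
  induction w with
  | nil =>
    change 1 * x i * 1⁻¹ = _
    rw [one_mul, inv_one, mul_one]
    change _ = pv x 0 ((mone d).getD i [])
    unfold mone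
    rw [List.getD_eq_getElem _ _ (by simpa using hi)]
    simp only [List.getElem_map, List.getElem_range]
    -- `pv x 0 (e_i) = x i`
    have key : ∀ (n j : ℕ), pv x j ((List.range' j n).map fun k => bif Nat.beq i k then 1 else 0) =
        if j ≤ i ∧ i < j + n then x i else 1 := by
      intro n
      induction n with
      | zero =>
        intro j
        rw [if_neg (by omega)]
        rfl
      | succ n ih =>
        intro j
        rw [List.range'_succ, List.map_cons]
        change x j ^ (bif Nat.beq i j then 1 else 0) * pv x (j + 1) _ = _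
        rw [ih]
        by_cases h : i = j
        · subst h
          rw [if_neg (by omega), if_pos (by omega)]
          simp
        · have h1 : Nat.beq i j = false := by
            rw [← Bool.not_eq_true]
            intro h2
            exact h (Nat.eq_of_beq_eq_true h2)
          rw [h1, cond_false, pow_zero, one_mul]
          by_cases h2 : j + 1 ≤ i ∧ i < j + 1 + n
          · rw [if_pos h2, if_pos (by omega)]
          · rw [if_neg h2, if_neg (by omega)]
    have h1 := key d 0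
    rw [if_pos (by omega)] at h1
    rw [List.range_eq_range']
    exact h1.symm
  | cons k w ih =>
    have ih := ih (fun j hj => hw j (List.mem_cons_of_mem _ hj))
    have hk := hw k List.mem_cons_self
    have hBk : Shape d (B.getD k []) := by
      rw [List.getD_eq_getElem _ _ hk]
      exact hB _ (List.getElem_mem hk)
    have hwS : Shape d (mword r d B w) := shape_mword hB hd w (fun j hj => hw j (List.mem_cons_of_mem _ hj))
    change g k * gword g w * x i * (g k * gword g w)⁻¹ = _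
    have h1 : g k * gword g w * x i * (g k * gword g w)⁻¹ = g k * (gword g w * x i * (gword g w)⁻¹) * (g k)⁻¹ := by
      group
    rw [h1, ih, conj_pv]
    have h2 : (mword r d B (k :: w)).getD i [] = lincomb r d ((mword r d B w).getD i []) (B.getD k []) := by
      change ((mword r d B w).map fun row => lincomb r d row (B.getD k [])).getD i [] = _
      have hlen : i < (mword r d B w).length := lt_of_lt_of_eq hi hwS.1.symm
      rw [List.getD_eq_getElem (mword r d B w) [] hlen, List.getD_eq_getElem _ [] (by rw [List.length_map]; exact hlen),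
        List.getElem_map]
    rw [h2]
    have hlen : ((mword r d B w).getD i []).length = d := by
      have hlen : i < (mword r d B w).length := lt_of_lt_of_eq hi hwS.1.symm
      rw [List.getD_eq_getElem (mword r d B w) [] hlen]
      exact hwS.2 _ (List.getElem_mem _)
    symm
    refine pv_lincomb hx hc d _ _ hBk.2 (by rw [hlen, hBk.1]) _ 0 ?_
    intro j hj
    rw [zero_add]
    exact hg k hk j (by rw [← hBk.1]; exact hj)

end

/-- `Orb.of_lin` with the conjugating elements given as words in generators. -/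
theorem Orb.of_gen (hr : r.Prime) (d m : ℕ) (hd0 : 0 < d) (x g : ℕ → T) (hx : ∀ i, x i ^ r = 1)
    (hxd : ∀ i, d ≤ i → x i = 1) (hc : ∀ i j, x i * x j = x j * x i) (c₀ : List ℕ) (h₀ : pv x 0 c₀ ≠ 1)
    (B : List (List (List ℕ))) (hB : ∀ b ∈ B, Shape d b)
    (hg : ∀ k < B.length, ∀ i < d, g k * x i * (g k)⁻¹ = pv x 0 ((B.getD k []).getD i []))
    (S : List (List ℕ)) (hS : ∀ w ∈ S, ∀ k ∈ w, k < B.length)
    (hd : (vecs r d).all (fun χ => Nat.beq (dot χ c₀ % r) 0 ||
      Nat.ble m (cnt (S.map fun w => enc r χ (mword r d B w)))) = true) : Orb r m T := by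
  have hS' : ∀ j < S.length, ∀ k ∈ S.getD j [], k < B.length := by
    intro j hj
    rw [List.getD_eq_getElem _ _ hj]
    exact hS _ (List.getElem_mem hj)
  refine Orb.of_lin hr d S.length m x (fun j => gword g (S.getD j [])) hx hxd hc c₀ h₀
    (fun j => mword r d B (S.getD j [])) ?_ ?_ ?_
  · intro j hj
    exact (shape_mword hB hd0 _ (hS' j hj)).1
  · intro j hj i hi
    exact conj_gword hx hc hB hd0 hg _ (hS' j hj) i hi
  · have h1 : ∀ χ, (List.range S.length).map (fun j => enc r χ (mword r d B (S.getD j []))) =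
        S.map fun w => enc r χ (mword r d B w) := by
      intro χ
      apply List.ext_getElem
      · simp
      · intro n h1 h2
        have h3 : n < S.length := by simpa using h2
        simp only [List.getElem_map, List.getElem_range]
        rw [List.getD_eq_getElem _ _ h3]
    simp only [h1]
    exact hd

namespace Wd

variable (w : Wd T)

/-- The conditions of `Orb.of_gen`, closed form. -/
def _root_.Cfsg.Agent.H921.Spor.chkG0 (eq : List ℕ → List ℕ → Bool) (ne : List ℕ → Bool) (r d m : ℕ)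
    (X G : List (List ℕ)) (B : List (List (List ℕ))) (S : List (List ℕ)) (c₀ : List ℕ) : Bool :=
  Nat.beq X.length d && Nat.blt 0 d &&
  (X.all fun P => eq (rep P r) []) &&
  (X.all fun P => X.all fun Q => eq (P ++ Q) (Q ++ P)) &&
  ne (pvW X 0 c₀) &&
  (B.all fun b => Nat.beq b.length d && b.all fun row => Nat.beq row.length d) &&
  ((List.range B.length).all fun k =>
    (List.range d).all fun i => eq (G.getD k [] ++ X.getD i [])
      (pvW X 0 ((B.getD k []).getD i []) ++ G.getD k [])) &&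
  (S.all fun v => v.all fun k => Nat.blt k B.length) &&
  ((vecs r d).all (fun χ => Nat.beq (dot χ c₀ % r) 0 ||
      Nat.ble m (cnt (S.map fun v => enc r χ (mword r d B v)))))

/-- The conditions of `Orb.of_gen`. -/
def chkG (r d m : ℕ) (X G : List (List ℕ)) (B : List (List (List ℕ))) (S : List (List ℕ)) (c₀ : List ℕ) : Bool :=
  chkG0 w.eq w.ne r d m X G B S c₀

/-- The checks for an element of prime order, closed form. -/
def _root_.Cfsg.Agent.H921.Spor.chkP0 (eq : List ℕ → List ℕ → Bool) (ne : List ℕ → Bool) (r k : ℕ)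
    (u v : List ℕ) : Bool :=
  eq (rep u r) [] && ne u && eq (v ++ u) (rep u k ++ v)

theorem conf_prime0 {r k : ℕ} {u v : List ℕ} {m : ℕ} (hr : r.Prime) (h : chkP0 w.eq w.ne r k u v = true)
    (hk : ∀ i < m, 0 < i → k ^ i % r ≠ 1 % r) : Conf r m T :=
  w.conf_prime u v m hr h hk

theorem orb_gen {r d m : ℕ} {X G S : List (List ℕ)} {B : List (List (List ℕ))} {c₀ : List ℕ} (hr : r.Prime)
    (h : w.chkG r d m X G B S c₀ = true) : Orb r m T := by
  unfold chkG chkG0 at h
  simp only [Bool.and_eq_true] at h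
  obtain ⟨⟨⟨⟨⟨⟨⟨⟨hXd, hd0⟩, hXr⟩, hXc⟩, hc₀⟩, hB⟩, hA⟩, hS⟩, hd⟩ := h
  have hXd' := Nat.eq_of_beq_eq_true hXd
  refine Orb.of_gen hr d m (by simpa [Nat.blt_eq] using hd0) (fun i => w.W (X.getD i []))
    (fun j => w.W (G.getD j [])) ?_ ?_ ?_ c₀ ?_ B ?_ ?_ S ?_ hd
  · intro i
    rcases mem_or_getD (X := X) i with h1 | h1
    · rw [← W_rep, w.eq_sound (List.all_eq_true.1 hXr _ h1), w.nil]
    · rw [h1, w.nil, one_pow]
  · intro i hi
    rw [List.getD_eq_default _ _ (by omega), w.nil]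
  · intro i j
    rcases mem_or_getD (X := X) i with h1 | h1
    · rcases mem_or_getD (X := X) j with h2 | h2
      · rw [← w.app, w.eq_sound (List.all_eq_true.1 (List.all_eq_true.1 hXc _ h1) _ h2), w.app]
      · rw [h2, w.nil, mul_one, one_mul]
    · rw [h1, w.nil, mul_one, one_mul]
  · rw [← w.W_pvW]
    exact w.ne_sound hc₀
  · intro b hb
    have h1 := List.all_eq_true.1 hB b hb
    rw [Bool.and_eq_true] at h1
    refine ⟨Nat.eq_of_beq_eq_true h1.1, fun row hrow => Nat.eq_of_beq_eq_true (List.all_eq_true.1 h1.2 row hrow)⟩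
  · intro k hk i hi
    have h1 := List.all_eq_true.1 hA k (List.mem_range.2 hk)
    have h2 := w.eq_sound (List.all_eq_true.1 h1 i (List.mem_range.2 hi))
    rw [mul_inv_eq_iff_eq_mul, ← w.W_pvW, ← w.app, h2, w.app]
  · intro v hv k hk
    have h1 := List.all_eq_true.1 (List.all_eq_true.1 hS v hv) k hk
    simpa [Nat.blt_eq] using h1

end Wd

end Cfsg.Agent.H921.Spor

private theorem dce_27959f3eba9e : _root_.True := by
  try have : _root_.True := by simp only [_root_.Cfsg.Agent.H921.Spor.mword.eq_def]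
  try have : _root_.True := by simp only [_root_.Cfsg.Agent.H921.Spor.lincomb.eq_2]
  try have : _root_.True := by simp only [_root_.Cfsg.Agent.H921.Spor.mone.eq_1]
  try have : _root_.True := by simp only [_root_.Cfsg.Agent.H921.Spor.pv.eq_1]
  try have : _root_.True := by simp only [_root_.Cfsg.Agent.H921.Spor.mmul.eq_1]
  try have : _root_.True := by simp only [_root_.Cfsg.Agent.H921.Spor.vadd.eq_def]
  try have : _root_.True := by simp only [_root_.Cfsg.Agent.H921.Spor.lincomb.eq_def]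
  try have : _root_.True := by simp only [_root_.Cfsg.Agent.H921.Spor.pv.eq_def]
  try have : _root_.True := by simp only [_root_.Cfsg.Agent.H921.Spor.mword.eq_2]
  try have : _root_.True := by simp only [_root_.Cfsg.Agent.H921.Spor.vadd._sparseCasesOn_1.else_eq]
  try have : _root_.True := by simp only [_root_.Cfsg.Agent.H921.Spor.mword.eq_1]
  try have : _root_.True := by simp only [_root_.Cfsg.Agent.H921.Spor.lincomb.eq_1]
  try have : _root_.True := by simp only [_root_.Cfsg.Agent.H921.Spor.pv.eq_2]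
  try have : _root_.True := by simp only [_root_.Cfsg.Agent.H921.Spor.vsmul.eq_1]
  try have : _root_.True := by simp only [_root_.Cfsg.Agent.H921.Spor.vadd.eq_1]
  try have : _root_.True := by simp only [_root_.Cfsg.Agent.H921.Spor.vadd.eq_2]
  exact _root_.True.intro
end

-- part: H921/SporJ3
section
set_option linter.all false
open scoped Cfsg.Agent.FastGrp

/-!
# The third Janko group: configurations
-/

set_option autoImplicit false
set_option maxRecDepth 100000

namespace Cfsg.Agent.H921.Spor.J3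

open Cfsg.Spor Cfsg.Agent.J3.Core Cfsg.Agent.J3.Tab Cfsg.Agent.J3.Mono Cfsg.Agent.J3.Elts Cfsg.Agent.J3.Nineteen

/-- tables of the letters: seven generators and their inverses -/
def ltab : ℕ → List ℕ
  | 0 => tA (1, 0)
  | 1 => powT (tA (1, 0)) 2
  | 2 => tA (0, 1)
  | 3 => powT (tA (0, 1)) 2
  | 4 => tE
  | 5 => powT tE 2
  | 6 => tD (1, 0)
  | 7 => powT (tD (1, 0)) 8
  | 8 => tD (0, 1)
  | 9 => powT (tD (0, 1)) 8
  | 10 => tB (1, 1)
  | 11 => powT (tB (1, 1)) 7
  | _ => tC

/-- table of a word -/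
def tab : List ℕ → List ℕ
  | [] => tS 0
  | l :: w => compT (ltab l) (tab w)

/-- equality up to scalars -/
def eqs (u v : List ℕ) : Bool :=
  beqL (cols (tab u)) (cols (tab v)) || (beqL (cols (tab u)) (cols (compT (tS 1) (tab v))) ||
    beqL (cols (tab u)) (cols (compT (tS 2) (tab v))))

/-- no scalar -/
def nes (u : List ℕ) : Bool :=
  (List.range 3).all fun s => (List.range 9).any fun i => !Nat.beq ((cols (tab u)).getD i 0) ((cols (tS s)).getD i 0)

section

variable {F : Type} [Field F] {ω : F}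

/-- the letters -/
def ltr (G : Gens F ω) : ℕ → threeJ3 F ω
  | 0 => G.a (1, 0)
  | 1 => G.a (1, 0) ^ 2
  | 2 => G.a (0, 1)
  | 3 => G.a (0, 1) ^ 2
  | 4 => G.e
  | 5 => G.e ^ 2
  | 6 => G.d (1, 0)
  | 7 => G.d (1, 0) ^ 8
  | 8 => G.d (0, 1)
  | 9 => G.d (0, 1) ^ 8
  | 10 => G.b (1, 1)
  | 11 => G.b (1, 1) ^ 7
  | _ => G.c

theorem rep_ltr (H : Good ω) (G : Gens F ω) (l : ℕ) : RepG ω (ltab l) (ltr G l) := by
  have hA : ∀ Z, RepG ω (tA Z) (G.a Z) := fun Z => by
    unfold RepG; rw [G.ha]; exact repA H Z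
  have hD : ∀ Z, RepG ω (tD Z) (G.d Z) := fun Z => by
    unfold RepG; rw [G.hd]; exact repD H Z
  have hB : ∀ Z, Z ≠ 0 → RepG ω (tB Z) (G.b Z) := fun Z hZ => by
    unfold RepG; rw [G.hb Z hZ]; exact repB H Z hZ
  have hE : RepG ω tE G.e := by
    unfold RepG; rw [G.he]; exact repE H
  have hC : RepG ω tC G.c := by
    unfold RepG; rw [G.hc]; exact repC H
  have h11 : ((1, 1) : F9) ≠ 0 := by decide
  unfold ltab ltr
  split
  · exact hA _
  · exact (hA _).pow H 2
  · exact hA _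
  · exact (hA _).pow H 2
  · exact hE
  · exact hE.pow H 2
  · exact hD _
  · exact (hD _).pow H 8
  · exact hD _
  · exact (hD _).pow H 8
  · exact hB _ h11
  · exact (hB _ h11).pow H 7
  · exact hC

/-- value of a word -/
def val3 (G : Gens F ω) : List ℕ → threeJ3 F ω
  | [] => 1
  | l :: w => ltr G l * val3 G w

theorem val3_append (G : Gens F ω) (u v : List ℕ) : val3 G (u ++ v) = val3 G u * val3 G v := by
  induction u with
  | nil => exact (one_mul _).symm
  | cons l u ih =>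
    change ltr G l * val3 G (u ++ v) = ltr G l * val3 G u * val3 G v
    rw [ih, mul_assoc]

theorem rep_val3 (H : Good ω) (G : Gens F ω) (w : List ℕ) : RepG ω (tab w) (val3 G w) := by
  induction w with
  | nil => exact repG_one H
  | cons l w ih => exact (rep_ltr H G l).mul ih

variable [Fintype F]

/-- words in the quotient -/
noncomputable def wd (hF : Fintype.card F = 4) (H : Good ω) (G : Gens F ω) : Wd (Cfsg.Spor.J3 F ω) where
  W := fun u => QuotientGroup.mk' (Subgroup.center (threeJ3 F ω)) (val3 G u)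
  nil := map_one _
  app := fun u v => by rw [val3_append, map_mul]
  eq := eqs
  eq_sound := by
    intro u v h
    obtain ⟨s, hs⟩ := exists_scalar H G
    have hcen := center_eq hF H hs
    have hsc : ∀ k : ℕ, QuotientGroup.mk' (Subgroup.center (threeJ3 F ω)) (s ^ k) = 1 := by
      intro k
      rw [← MonoidHom.mem_ker, QuotientGroup.ker_mk', hcen]
      exact Subgroup.npow_mem_zpowers s k
    have hrs : ∀ k < 3, RepG ω (tS k) (s ^ k) := by
      intro k hk
      unfold RepG
      have h1 := repS H k hk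
      rwa [map_pow, hs, smul_pow, one_pow]
    have key : ∀ k < 3, beqL (cols (tab u)) (cols (compT (tS k) (tab v))) = true →
        QuotientGroup.mk' (Subgroup.center (threeJ3 F ω)) (val3 G u) =
          QuotientGroup.mk' (Subgroup.center (threeJ3 F ω)) (val3 G v) := by
      intro k hk h1
      have h2 := RepG.ext (rep_val3 H G u) ((hrs k hk).mul (rep_val3 H G v)) (beqL_eq h1)
      rw [h2, map_mul, hsc, one_mul]
    unfold eqs at h
    rw [Bool.or_eq_true, Bool.or_eq_true] at h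
    rcases h with h | h | h
    · have h2 := RepG.ext (rep_val3 H G u) (rep_val3 H G v) (beqL_eq h)
      rw [h2]
    · exact key 1 (by norm_num) h
    · exact key 2 (by norm_num) h
  ne := nes
  ne_sound := by
    intro u h h1
    obtain ⟨s, hs⟩ := exists_scalar H G
    have hcen := center_eq hF H hs
    rw [← MonoidHom.mem_ker, QuotientGroup.ker_mk', hcen] at h1
    -- `s ^ 3 = 1`
    have hs3 : s ^ 3 = 1 := by
      apply mat_injective
      rw [map_pow, hs, smul_pow, one_pow, H.cube, one_smul, map_one]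
    obtain ⟨k, hk, hk3⟩ : ∃ k : ℕ, s ^ k = val3 G u ∧ k < 3 := by
      obtain ⟨z, hz⟩ := h1
      have hz' : s ^ z = val3 G u := hz
      refine ⟨(z % 3).toNat, ?_, ?_⟩
      · have h3 : ((z % 3).toNat : ℤ) = z % 3 := Int.toNat_of_nonneg (Int.emod_nonneg _ (by norm_num))
        rw [← zpow_natCast, h3, ← hz']
        conv_rhs => rw [← Int.emod_add_mul_ediv z 3, zpow_add, zpow_mul]
        rw [show (s ^ (3 : ℤ)) = 1 by exact_mod_cast hs3, one_zpow, mul_one]
      · have := Int.emod_lt_of_pos z (show (0 : ℤ) < 3 by norm_num)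
        omega
    have hrs : RepG ω (tS k) (s ^ k) := by
      unfold RepG
      have h1 := repS H k hk3
      rwa [map_pow, hs, smul_pow, one_pow]
    rw [hk] at hrs
    unfold nes at h
    have h2 := List.all_eq_true.1 h k (List.mem_range.2 hk3)
    rw [List.any_eq_true] at h2
    obtain ⟨i, hi, h2⟩ := h2
    have hi9 := List.mem_range.1 hi
    obtain ⟨z, hz⟩ : ∃ z : F9, idx z = i := by
      have : ∀ i < 9, ∃ z : F9, idx z = i := by decide
      exact this i hi9
    have h3 := RepG.cols_eq H (rep_val3 H G u) hrs z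
    rw [hz] at h3
    rw [h3] at h2
    simp at h2

end

theorem J3_nineteen {F : Type} [Field F] [Fintype F] {ω : F} (hF : Fintype.card F = 4) (H : Good ω) :
    Conf 19 9 (Cfsg.Spor.J3 F ω) := by
  obtain ⟨G⟩ := exists_gens hF H
  have h : chkP0 eqs nes 19 4 [4, 8, 12] [9, 6, 2, 4, 12, 8, 12, 2, 6, 0, 12, 7, 0, 3, 1, 12, 4] = true := by
    decide +kernel
  exact (wd hF H G).conf_prime0 (by norm_num) h (by decide)

theorem J3_seventeen {F : Type} [Field F] [Fintype F] {ω : F} (hF : Fintype.card F = 4) (H : Good ω) :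
    Conf 17 8 (Cfsg.Spor.J3 F ω) := by
  obtain ⟨G⟩ := exists_gens hF H
  have h : chkP0 eqs nes 17 9 [8, 12]
      [12, 6, 10, 9, 12, 6, 1, 3, 8, 12, 1, 6, 12, 10, 3, 10, 1, 12, 0, 3, 12, 7, 12, 6, 0, 12, 7, 3, 12] = true := by
    decide +kernel
  exact (wd hF H G).conf_prime0 (by norm_num) h (by decide)

theorem J3_two {F : Type} [Field F] [Fintype F] {ω : F} (hF : Fintype.card F = 4) (H : Good ω) :
    Orb 2 15 (Cfsg.Spor.J3 F ω) := by
  obtain ⟨G⟩ := exists_gens hF H
  have h : chkG0 eqs nes 2 4 15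
      ([[4, 8, 12, 10, 9, 5], [12, 6, 8, 12, 6, 9, 12, 10, 10], [9, 12, 9, 12, 8, 0, 5, 12, 1, 12, 4],
      [12, 10, 6, 10, 12, 3, 7, 11, 1, 12, 4]])
      ([[1, 12, 3, 10, 7, 12, 9, 4, 12, 11]])
      ([[[1, 1, 1, 0], [1, 1, 0, 0], [1, 0, 1, 1], [1, 1, 0, 1]]])
      ([[], [0], [0, 0], [0, 0, 0], [0, 0, 0, 0], [0, 0, 0, 0, 0], [0, 0, 0, 0, 0, 0], [0, 0, 0, 0, 0, 0,
      0], [0, 0, 0, 0, 0, 0, 0, 0], [0, 0, 0, 0, 0, 0, 0, 0, 0], [0, 0, 0, 0, 0, 0, 0, 0, 0, 0], [0, 0,
      0, 0, 0, 0, 0, 0, 0, 0, 0], [0, 0, 0, 0, 0, 0, 0, 0, 0, 0, 0, 0], [0, 0, 0, 0, 0, 0, 0, 0, 0, 0, 0,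
      0, 0], [0, 0, 0, 0, 0, 0, 0, 0, 0, 0, 0, 0, 0, 0]])
      [0, 0, 0, 1] = true := by decide +kernel
  exact (wd hF H G).orb_gen (by norm_num) h

theorem J3_three {F : Type} [Field F] [Fintype F] {ω : F} (hF : Fintype.card F = 4) (H : Good ω) :
    Orb 3 24 (Cfsg.Spor.J3 F ω) := by
  obtain ⟨G⟩ := exists_gens hF H
  have h : chkG0 eqs nes 3 3 24
      ([[9, 6, 12, 8, 12, 6, 11, 12, 3, 1, 12], [9, 12, 0, 10, 1, 12, 7, 8, 12, 10, 6], [11, 2, 12, 10, 9,
      12, 6, 2, 12, 1, 12, 7, 12]])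
      ([[10, 8, 12, 9, 12, 11], [12, 3, 11, 6, 12, 9, 2, 5]])
      ([[[2, 0, 0], [2, 1, 1], [0, 0, 2]], [[1, 0, 2], [1, 2, 1], [2, 0, 0]]])
      ([[], [0], [1], [1, 0], [1, 1], [1, 1, 0], [1, 1, 1], [1, 1, 1, 0], [1, 1, 0, 1], [1, 1, 1, 1], [1,
      1, 0, 1, 0], [1, 1, 1, 1, 0], [0, 1, 1, 1, 1], [0, 1, 1, 1, 1, 0], [1, 1, 1, 1, 0, 1], [0, 1, 1, 1,
      1, 1], [1, 1, 1, 1, 0, 1, 0], [0, 1, 1, 1, 1, 1, 0], [1, 1, 1, 1, 0, 1, 1], [0, 1, 1, 1, 1, 1, 1],
      [1, 1, 1, 1, 0, 1, 1, 0], [0, 1, 1, 1, 1, 1, 1, 0], [0, 1, 1, 1, 1, 1, 1, 1], [0, 1, 1, 1, 1, 1, 1,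
      1, 0]])
      [0, 0, 1] = true := by decide +kernel
  exact (wd hF H G).orb_gen (by norm_num) h

end Cfsg.Agent.H921.Spor.J3
end

-- part: H290/ElWt
section
set_option linter.all false
open scoped Cfsg.Agent.FastGrp

/-!
# Abelian normal subgroups and two elements acting freely on the weights (TEAM ELUSIVE, helper290)

`eq_one_of_free` : `ρ : G → End(V)`, `A` an abelian normal subgroup of `G` of exponent prime to the characteristic,
`x`, `y ∈ G` of different prime orders `ℓ`, `ℓ'` with `C_A(x) = C_A(y) = 1`, `dim V < ℓ ℓ'`. Then `A` acts trivially.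
`eq_bot_of_free` : the same for subgroups of a group with a faithful representation over a field of characteristic `p`.
-/

set_option autoImplicit false

namespace Cfsg.Agent.H290.ElWt

open Module Cfsg.Agent.H912.Bd

section Free

variable {K : Type*} [Field K] {V : Type*} [AddCommGroup V] [Module K V] {G : Type*} [Group G]

/-- the nontrivial weights of `A` -/
def Wts (ρ : G →* Module.End K V) (A : Subgroup G) : Type _ :=
  {χ : A → K // wt ρ A χ ≠ ⊥ ∧ ∃ a, χ a ≠ 1}

/-- the twist of a function by an element of `G` -/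
def tw (A : Subgroup G) [A.Normal] (s : G) (χ : A → K) : A → K :=
  fun a => χ ⟨s⁻¹ * a * s, by simpa using (inferInstance : A.Normal).conj_mem a a.2 s⁻¹⟩

theorem tw_wt (ρ : G →* Module.End K V) (A : Subgroup G) [A.Normal] (s : G) {χ : A → K} (h : wt ρ A χ ≠ ⊥) :
    wt ρ A (tw A s χ) ≠ ⊥ := by
  obtain ⟨v, hv, hv0⟩ := Submodule.exists_mem_ne_zero_of_ne_bot h
  intro hb
  have h1 : ρ s v ∈ wt ρ A (tw A s χ) := by
    have h2 := map_wt_le ρ (A := A) (χ := χ) (s := s⁻¹)
      (fun a ha => by simpa using (inferInstance : A.Normal).conj_mem a ha s⁻¹)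
    have h3 : ρ (s⁻¹)⁻¹ v ∈ (wt ρ A χ).map (ρ (s⁻¹)⁻¹) := ⟨v, hv, rfl⟩
    have h4 := h2 h3
    have h6 : ρ (s⁻¹)⁻¹ v = ρ s v := by rw [inv_inv]
    rw [h6] at h4
    have h5 : (fun a : A => χ ⟨s⁻¹ * a * (s⁻¹)⁻¹, by
        simpa using (inferInstance : A.Normal).conj_mem a a.2 s⁻¹⟩) = tw A s χ := by
      funext a
      exact congrArg χ (Subtype.ext (by simp))
    rw [← h5]
    exact h4
  rw [hb, Submodule.mem_bot] at h1
  exact hv0 (rho_injective ρ s (by rw [h1, map_zero]))

instance actWts (ρ : G →* Module.End K V) (A : Subgroup G) [A.Normal] : MulAction G (Wts ρ A) where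
  smul s χ := ⟨tw A s χ.1, tw_wt ρ A s χ.2.1, by
    obtain ⟨a, ha⟩ := χ.2.2
    refine ⟨⟨s * a * s⁻¹, (inferInstance : A.Normal).conj_mem a a.2 s⟩, ?_⟩
    have : (⟨s⁻¹ * (s * a * s⁻¹) * s, by
        have := (inferInstance : A.Normal).conj_mem _ ((inferInstance : A.Normal).conj_mem a a.2 s) s⁻¹
        simpa using this⟩ : A) = a := Subtype.ext (by simp [mul_assoc])
    unfold tw
    simpa [this] using ha⟩
  one_smul χ := Subtype.ext (by
    funext a
    exact congrArg χ.1 (Subtype.ext (by simp)))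
  mul_smul s t χ := Subtype.ext (by
    funext a
    exact congrArg χ.1 (Subtype.ext (by simp [mul_assoc])))

variable [FiniteDimensional K V] (ρ : G →* Module.End K V) {A : Subgroup G} [A.Normal]
  (hA : ∀ a ∈ A, ∀ b ∈ A, a * b = b * a) {N : ℕ} (hN : (N : K) ≠ 0) (hAN : ∀ a ∈ A, a ^ N = 1)

include hA hN hAN in
omit [A.Normal] in
theorem finite_wts : Finite (Wts ρ A) ∧ Nat.card (Wts ρ A) ≤ finrank K V := by
  have h1 := indep_wt ρ hA hN hAN
  let _ : Fintype {χ : A → K // wt ρ A χ ≠ ⊥} := h1.fintypeNeBotOfFiniteDimensional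
  have h2 := h1.subtype_ne_bot_le_finrank
  let f : Wts ρ A → {χ : A → K // wt ρ A χ ≠ ⊥} := fun χ => ⟨χ.1, χ.2.1⟩
  have hf : Function.Injective f := fun a b h => Subtype.ext (congrArg (fun z => z.1) h)
  refine ⟨Finite.of_injective f hf, ?_⟩
  refine le_trans (Nat.card_le_card_of_injective f hf) ?_
  rw [Nat.card_eq_fintype_card]
  exact h2

include hA hN hAN in
/-- an element acting freely on `A` acts freely on the nontrivial weights -/
theorem dvd_card_wts [Finite G] {x : G} {ℓ : ℕ} (hℓ : ℓ.Prime) (hx : orderOf x = ℓ)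
    (fx : ∀ a ∈ A, x * a = a * x → a = 1) : ℓ ∣ Nat.card (Wts ρ A) := by
  have := Fact.mk hℓ
  have hfin := (finite_wts ρ hA hN hAN).1
  have hP : IsPGroup ℓ (Subgroup.zpowers x) := IsPGroup.of_card (n := 1) (by rw [Nat.card_zpowers, hx, pow_one])
  have h1 := hP.card_modEq_card_fixedPoints (Wts ρ A)
  have h2 : IsEmpty (MulAction.fixedPoints (Subgroup.zpowers x) (Wts ρ A)) := by
    refine ⟨fun ⟨χ, hχ⟩ => ?_⟩
    have h3 : x⁻¹ • χ = χ := hχ ⟨x⁻¹, inv_mem (Subgroup.mem_zpowers x)⟩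
    have h4 : tw A x⁻¹ χ.1 = χ.1 := congrArg Subtype.val h3
    obtain ⟨b, hb⟩ := χ.2.2
    -- `a ↦ a⁻¹ a^x` is surjective on `A`
    let g : A → A := fun a => ⟨(a : G)⁻¹ * (x * a * x⁻¹), mul_mem (inv_mem a.2) ((inferInstance : A.Normal).conj_mem a a.2 x)⟩
    have hg : Function.Injective g := by
      intro a a' h
      have h5 : (a : G)⁻¹ * (x * a * x⁻¹) = (a' : G)⁻¹ * (x * a' * x⁻¹) := congrArg Subtype.val h
      have ha1 : (x * a * x⁻¹ : G) ∈ A := (inferInstance : A.Normal).conj_mem a a.2 x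
      have ha2 : (x * a' * x⁻¹ : G) ∈ A := (inferInstance : A.Normal).conj_mem a' a'.2 x
      have h6 : x * ((a' : G) * (a : G)⁻¹) * x⁻¹ = (a' : G) * (a : G)⁻¹ := by
        have h7 : (a' : G) * ((a : G)⁻¹ * (x * a * x⁻¹)) * (x * a * x⁻¹)⁻¹ = x * a' * x⁻¹ * (x * a * x⁻¹)⁻¹ := by
          rw [h5]; group
        have h8 : (a' : G) * ((a : G)⁻¹ * (x * a * x⁻¹)) * (x * a * x⁻¹)⁻¹ = (a' : G) * (a : G)⁻¹ := by group
        have h9 : x * a' * x⁻¹ * (x * a * x⁻¹)⁻¹ = x * ((a' : G) * (a : G)⁻¹) * x⁻¹ := by group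
        rw [← h9, ← h7, h8]
      have h10 : (a' : G) * (a : G)⁻¹ = 1 := by
        refine fx _ (mul_mem a'.2 (inv_mem a.2)) ?_
        have := congrArg (fun z => z * x) h6
        simpa [mul_assoc] using this
      exact Subtype.ext (mul_inv_eq_one.1 h10).symm
    obtain ⟨a, ha⟩ := (Finite.surjective_of_injective hg) b
    apply hb
    have h11 : χ.1 b = χ.1 (a⁻¹ * ⟨x * a * x⁻¹, (inferInstance : A.Normal).conj_mem a a.2 x⟩) := by
      rw [← ha]; rfl
    rw [h11, wt_mul ρ χ.2.1]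
    have h12 : χ.1 ⟨x * a * x⁻¹, (inferInstance : A.Normal).conj_mem a a.2 x⟩ = χ.1 a := by
      have h13 := congrFun h4 a
      rw [← h13]
      exact congrArg χ.1 (Subtype.ext (by simp))
    rw [h12, ← wt_mul ρ χ.2.1, inv_mul_cancel, wt_one ρ χ.2.1]
  have h3 : Nat.card (MulAction.fixedPoints (Subgroup.zpowers x) (Wts ρ A)) = 0 := Nat.card_of_isEmpty
  rw [h3] at h1
  exact (Nat.modEq_zero_iff_dvd).1 h1

include hA hN hAN in
/-- **The weights lemma.** -/
theorem eq_one_of_free [Finite G] [IsAlgClosed K] {x y : G} {ℓ ℓ' : ℕ} (hℓ : ℓ.Prime) (hℓ' : ℓ'.Prime) (hne : ℓ ≠ ℓ')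
    (hx : orderOf x = ℓ) (hy : orderOf y = ℓ') (fx : ∀ a ∈ A, x * a = a * x → a = 1)
    (fy : ∀ a ∈ A, y * a = a * y → a = 1) (hn : finrank K V < ℓ * ℓ') : ∀ a ∈ A, ρ a = 1 := by
  have h1 := dvd_card_wts ρ hA hN hAN hℓ hx fx
  have h2 := dvd_card_wts ρ hA hN hAN hℓ' hy fy
  have h3 : ℓ * ℓ' ∣ Nat.card (Wts ρ A) := ((Nat.coprime_primes hℓ hℓ').2 hne).mul_dvd_of_dvd_of_dvd h1 h2
  obtain ⟨hfin, hle⟩ := finite_wts ρ hA hN hAN
  have h4 : Nat.card (Wts ρ A) = 0 := by
    by_contra h0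
    have := Nat.le_of_dvd (Nat.pos_of_ne_zero h0) h3
    omega
  have h5 : IsEmpty (Wts ρ A) := by
    rcases Nat.card_eq_zero.1 h4 with h | h
    · exact h
    · exact absurd hfin (not_finite_iff_infinite.2 h)
  intro a ha
  by_contra hne'
  obtain ⟨χ, hχ, hχa⟩ := exists_wt ρ hA hN hAN (c := ⟨a, ha⟩) hne'
  exact h5.false ⟨χ, hχ, ⟨_, hχa⟩⟩

end Free

section Lin

variable {F : Type*} [Field F] {ι : Type*} [Fintype ι] [DecidableEq ι] {G : Type*} [Group G] [Finite G]

/-- a matrix representation over the algebraic closure -/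
noncomputable def cl (τ : G →* GL ι F) : G →* Module.End (AlgebraicClosure F) (ι → AlgebraicClosure F) where
  toFun g := Matrix.toLin' ((algebraMap F (AlgebraicClosure F)).mapMatrix (τ g : Matrix ι ι F))
  map_one' := by
    rw [map_one, Units.val_one, map_one, Matrix.toLin'_one]
    rfl
  map_mul' g h := by
    rw [map_mul, Units.val_mul, map_mul, Matrix.toLin'_mul]
    rfl

omit [Finite G] in
theorem cl_injective {τ : G →* GL ι F} (hτ : Function.Injective τ) {g : G} (h : cl τ g = 1) : g = 1 := by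
  apply hτ
  rw [map_one]
  have h1 : (algebraMap F (AlgebraicClosure F)).mapMatrix (τ g : Matrix ι ι F) = 1 := by
    apply (Matrix.toLin' (R := AlgebraicClosure F) (n := ι) (m := ι)).injective
    rw [Matrix.toLin'_one]
    exact h
  have h2 : (τ g : Matrix ι ι F) = 1 := by
    have h3 : Function.Injective ((algebraMap F (AlgebraicClosure F)).mapMatrix (m := ι)) :=
      Matrix.map_injective (algebraMap F (AlgebraicClosure F)).injective
    exact h3 (h1.trans (map_one _).symm)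
  exact Units.ext h2

/-- **The weights lemma for linear groups.** -/
theorem eq_bot_of_free {p : ℕ} [CharP F p] {τ : G →* GL ι F} (hτ : Function.Injective τ) {A : Subgroup G} [A.Normal]
    (hA : ∀ a ∈ A, ∀ b ∈ A, a * b = b * a) (hp : ¬ p ∣ Nat.card A) {x y : G} {ℓ ℓ' : ℕ} (hℓ : ℓ.Prime)
    (hℓ' : ℓ'.Prime) (hne : ℓ ≠ ℓ') (hx : orderOf x = ℓ) (hy : orderOf y = ℓ')
    (fx : ∀ a ∈ A, x * a = a * x → a = 1) (fy : ∀ a ∈ A, y * a = a * y → a = 1)
    (hn : Fintype.card ι < ℓ * ℓ') : A = ⊥ := by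
  have : CharP (AlgebraicClosure F) p := charP_of_injective_algebraMap (algebraMap F _).injective p
  have hN : ((Nat.card A : ℕ) : AlgebraicClosure F) ≠ 0 := by
    intro h
    exact hp ((CharP.cast_eq_zero_iff (AlgebraicClosure F) p _).1 h)
  have h1 := eq_one_of_free (cl τ) hA hN (fun a ha => by
    have := pow_card_eq_one' (x := (⟨a, ha⟩ : A))
    exact congrArg Subtype.val this) hℓ hℓ' hne hx hy fx fy (by simpa using hn)
  rw [eq_bot_iff]
  intro a ha
  exact Subgroup.mem_bot.2 (cl_injective hτ (h1 a ha))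

end Lin

end Cfsg.Agent.H290.ElWt
end

-- part: H290/ElEng
section
set_option linter.all false
open scoped Cfsg.Agent.FastGrp

/-!
# TEAM ELUSIVE, exceptional rows: the engine (helper290)

`G` a finite group with a faithful representation of degree `n` over a field of characteristic `p`.

* `eq_bot_of_rad`: if `O_p(G) = 1` and for every prime `t ≠ p` there are elements `x`, `y` of `G` of different prime
  orders `ℓ`, `ℓ'`, commuting with no element of order `t`, with `n < ℓ ℓ'`, then `G` has no nontrivial solvable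
  normal subgroup;
* `exists_socle`: if moreover some odd prime `r ∣ |G|` is not adjacent to `2`, then `G` has a nonabelian simple normal
  subgroup `S` with `C_G(S) = 1` (the almost simple theorem S4008 is the hypothesis `ASThm`);
* `dvd_socle`: every odd prime divisor of `|G|` not adjacent to `2` divides `|S|` (hypothesis `EvenFix`);
* `card_dvd_aut`: `|G|` divides `|Aut S|`.
-/

set_option autoImplicit false

namespace Cfsg.Agent.H290.ElEng

open Cfsg.Agent.H290.ElWt
open scoped commutatorElement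

universe u

/-- the almost simple theorem (S4008) -/
def ASThm : Prop :=
  ∀ (G : Type u) [Group G] [Finite G] (_ : ¬ Group.IsSolvable G) (_ : Even (Nat.card G))
      (r : ℕ) (_ : r.Prime) (_ : r ≠ 2) (_ : r ∣ Nat.card G) (_ : ∀ g : G, orderOf g ≠ 2 * r)
      (R : Subgroup G) [R.Normal] (_ : Group.IsSolvable ↥R)
      (_ : ∀ N : Subgroup G, N.Normal → Group.IsSolvable ↥N → N ≤ R),
      ∃ S : Subgroup (G ⧸ R), S.Normal ∧ IsSimpleGroup ↥S ∧ ¬ IsMulCommutative ↥S ∧
        Subgroup.centralizer (S : Set (G ⧸ R)) = ⊥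

/-- a nontrivial solvable normal subgroup contains a nontrivial elementary abelian normal subgroup -/
theorem exists_elem {G : Type*} [Group G] [Finite G] {S : Subgroup G} (hS : S.Normal) (hs : Group.IsSolvable S)
    (hne : S ≠ ⊥) : ∃ t : ℕ, t.Prime ∧ ∃ A : Subgroup G, A.Normal ∧ A ≠ ⊥ ∧ (∀ a ∈ A, ∀ b ∈ A, a * b = b * a) ∧
      ∀ a ∈ A, a ^ t = 1 := by
  classical
  obtain ⟨A, ⟨hAn, hAS, hA0⟩, hmin⟩ := (wellFounded_lt (α := Subgroup G)).has_min
    {A : Subgroup G | A.Normal ∧ A ≤ S ∧ A ≠ ⊥} ⟨S, hS, le_rfl, hne⟩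
  have hmin' : ∀ B : Subgroup G, B.Normal → B ≤ A → B ≠ ⊥ → B = A := by
    intro B hB hBA hB0
    by_contra hne'
    exact hmin B ⟨hB, hBA.trans hAS, hB0⟩ (lt_of_le_of_ne hBA hne')
  have hAs : Group.IsSolvable A :=
    Group.isSolvable_of_isSolvable_injective (f := Subgroup.inclusion hAS) (Subgroup.inclusion_injective hAS)
  have hnt : Nontrivial A := (Subgroup.nontrivial_iff_ne_bot A).mpr hA0
  have hcomm : ⁅A, A⁆ = ⊥ := by
    by_contra hc
    have h := hmin' ⁅A, A⁆ inferInstance (Subgroup.commutator_le_left A A) hc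
    have h1 := Group.IsSolvable.commutator_lt_top_of_nontrivial A
    have h2 : (commutator A).map A.subtype = ⁅A, A⁆ := by
      rw [commutator_def, Subgroup.map_commutator, ← MonoidHom.range_eq_map, Subgroup.range_subtype]
    rw [h] at h2
    apply h1.ne
    apply Subgroup.map_injective A.subtype_injective
    rw [h2, ← MonoidHom.range_eq_map, Subgroup.range_subtype]
  have hab : ∀ a ∈ A, ∀ b ∈ A, a * b = b * a := by
    intro a ha b hb
    have : ⁅a, b⁆ ∈ (⊥ : Subgroup G) := hcomm ▸ Subgroup.commutator_mem_commutator ha hb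
    rw [Subgroup.mem_bot, commutatorElement_eq_one_iff_mul_comm] at this
    exact this
  obtain ⟨t, ht, htd⟩ := Nat.exists_prime_and_dvd (n := Nat.card A)
    (by rw [Ne, Subgroup.card_eq_one]; exact hA0)
  have : Fact t.Prime := ⟨ht⟩
  let N : Subgroup G :=
    { carrier := {v | v ∈ A ∧ v ^ t = 1}
      one_mem' := ⟨A.one_mem, one_pow _⟩
      mul_mem' := by
        rintro a b ⟨ha, ha'⟩ ⟨hb, hb'⟩
        refine ⟨A.mul_mem ha hb, ?_⟩
        have hcom : Commute a b := hab a ha b hb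
        rw [hcom.mul_pow, ha', hb', one_mul]
      inv_mem' := by
        rintro a ⟨ha, ha'⟩
        refine ⟨A.inv_mem ha, ?_⟩
        rw [inv_pow, ha', inv_one] }
  have hNn : N.Normal := by
    refine ⟨?_⟩
    rintro a ⟨ha, ha'⟩ g
    refine ⟨hAn.conj_mem a ha g, ?_⟩
    rw [conj_pow, ha', mul_one, mul_inv_cancel]
  have hNA : N ≤ A := fun a ha => ha.1
  have hN1 : N ≠ ⊥ := by
    intro h
    obtain ⟨x, hx⟩ := exists_prime_orderOf_dvd_card' t htd
    have h1 : (x : G) ∈ N := ⟨x.2, by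
      have := pow_orderOf_eq_one x
      rw [hx] at this
      exact_mod_cast congrArg Subtype.val this⟩
    rw [h, Subgroup.mem_bot] at h1
    have h2 : x = 1 := Subtype.ext h1
    rw [h2, orderOf_one] at hx
    exact ht.one_lt.ne hx
  exact ⟨t, ht, N, hNn, hN1, fun a ha b hb => hab a ha.1 b hb.1, fun a ha => ha.2⟩

section Eng

variable {F : Type*} [Field F] {ι : Type*} [Fintype ι] [DecidableEq ι] {G : Type*} [Group G] [Finite G] {p : ℕ}

/-- **No solvable normal subgroup.** -/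
theorem eq_bot_of_rad [Fact p.Prime] [CharP F p] {τ : G →* GL ι F} (hτ : Function.Injective τ)
    (hp : ∀ A : Subgroup G, A.Normal → IsPGroup p A → A = ⊥)
    (hfree : ∀ t : ℕ, t.Prime → t ≠ p → t ∣ Nat.card G → ∃ (ℓ ℓ' : ℕ) (x y : G), ℓ.Prime ∧ ℓ'.Prime ∧ ℓ ≠ ℓ' ∧
      orderOf x = ℓ ∧ orderOf y = ℓ' ∧ Fintype.card ι < ℓ * ℓ' ∧ (∀ a : G, a ^ t = 1 → x * a = a * x → a = 1) ∧
        (∀ a : G, a ^ t = 1 → y * a = a * y → a = 1))
    (S : Subgroup G) (hS : S.Normal) (hs : Group.IsSolvable S) : S = ⊥ := by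
  by_contra hne
  obtain ⟨t, ht, A, hAn, hA0, hAc, hAt⟩ := exists_elem hS hs hne
  have hPt : IsPGroup t A := fun a => ⟨1, by rw [pow_one]; exact Subtype.ext (hAt a a.2)⟩
  by_cases htp : t = p
  · subst htp
    exact hA0 (hp A hAn hPt)
  · have := Fact.mk ht
    have h1 : ¬ p ∣ Nat.card A := by
      intro h
      obtain ⟨k, hk⟩ := IsPGroup.iff_card.1 hPt
      rw [hk] at h
      exact htp ((Nat.prime_dvd_prime_iff_eq Fact.out ht).1 ((Fact.out : p.Prime).dvd_of_dvd_pow h)).symm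
    have h2 : t ∣ Nat.card G := by
      obtain ⟨k, hk⟩ := IsPGroup.iff_card.1 hPt
      have h3 : k ≠ 0 := by
        rintro rfl
        rw [pow_zero, Subgroup.card_eq_one] at hk
        exact hA0 hk
      exact ((dvd_pow_self t h3).trans (dvd_of_eq hk.symm)).trans (Subgroup.card_subgroup_dvd_card A)
    obtain ⟨ℓ, ℓ', x, y, hℓ, hℓ', hne', hx, hy, hn, fx, fy⟩ := hfree t ht htp h2
    exact hA0 (eq_bot_of_free hτ hAc h1 hℓ hℓ' hne' hx hy (fun a ha h => fx a (hAt a ha) h)
      (fun a ha h => fy a (hAt a ha) h) hn)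

end Eng

/-- **The socle.** -/
theorem exists_socle (has : ASThm.{u}) {G : Type u} [Group G] [Finite G]
    (hrad : ∀ S : Subgroup G, S.Normal → Group.IsSolvable S → S = ⊥) (h2 : 2 ∣ Nat.card G) {r : ℕ} (hr : r.Prime)
    (hr2 : r ≠ 2) (hrG : r ∣ Nat.card G) (hno : ∀ g : G, orderOf g ≠ 2 * r) :
    ∃ S : Subgroup G, S.Normal ∧ IsSimpleGroup S ∧ ¬ IsMulCommutative S ∧
      Subgroup.centralizer (S : Set G) = ⊥ := by
  have hns : ¬ Group.IsSolvable G := by
    intro hs
    have h3 := hrad ⊤ inferInstance (Group.isSolvable_of_isSolvable_injective (f := (⊤ : Subgroup G).subtype)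
      (Subgroup.subtype_injective _))
    have h4 : Nat.card (⊤ : Subgroup G) = 1 := by rw [h3]; simp
    rw [Subgroup.card_top] at h4
    rw [h4] at hrG
    exact hr.one_lt.ne' (Nat.dvd_one.1 hrG)
  obtain ⟨S, hSn, hSs, hSna, hSc⟩ := has G hns (even_iff_two_dvd.2 h2) r hr hr2 hrG hno ⊥
    inferInstance (fun N hN hs => (hrad N hN hs).le)
  let e : G ⧸ (⊥ : Subgroup G) ≃* G := QuotientGroup.quotientBot
  let f : ↥S ≃* ↥(S.map e.toMonoidHom) := S.equivMapOfInjective e.toMonoidHom e.injective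
  refine ⟨S.map e.toMonoidHom, hSn.map _ e.surjective, ?_, ?_, ?_⟩
  · exact f.symm.isSimpleGroup
  · intro hc
    apply hSna
    refine ⟨⟨fun a b => f.injective ?_⟩⟩
    rw [map_mul, map_mul]
    exact hc.1.1 _ _
  · rw [eq_bot_iff]
    intro g hg
    have h5 : e.symm g ∈ Subgroup.centralizer (S : Set (G ⧸ (⊥ : Subgroup G))) := by
      rw [Subgroup.mem_centralizer_iff]
      intro s hs
      apply e.injective
      rw [map_mul, map_mul, e.apply_symm_apply]
      exact Subgroup.mem_centralizer_iff.1 hg _ ⟨s, hs, rfl⟩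
    rw [hSc, Subgroup.mem_bot] at h5
    rw [Subgroup.mem_bot, ← e.apply_symm_apply g, h5, map_one]

theorem card_dvd_aut {G : Type*} [Group G] [Finite G] {S : Subgroup G} [S.Normal]
    (hc : Subgroup.centralizer (S : Set G) = ⊥) : Nat.card G ∣ Nat.card (MulAut S) := by
  have hinj : Function.Injective (MulAut.conjNormal : G →* MulAut S) := by
    rw [injective_iff_map_eq_one]
    intro g hg
    have h1 : g ∈ Subgroup.centralizer (S : Set G) := by
      rw [Subgroup.mem_centralizer_iff]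
      intro s hs
      have h2 := congrArg (fun f : MulAut S => ((f ⟨s, hs⟩ : S) : G)) hg
      simp only [MulAut.conjNormal_apply, MulAut.one_apply] at h2
      have h3 := congrArg (fun z => z * g) h2
      simp only [inv_mul_cancel_right] at h3
      exact h3.symm
    rw [hc, Subgroup.mem_bot] at h1
    exact h1
  have h4 : Nat.card G = Nat.card (MulAut.conjNormal : G →* MulAut S).range :=
    Nat.card_congr (MonoidHom.ofInjective hinj).toEquiv
  rw [h4]
  exact Subgroup.card_subgroup_dvd_card _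

end Cfsg.Agent.H290.ElEng
end

-- part: H190/Exc/Wt3
section
set_option linter.all false
open scoped Cfsg.Agent.FastGrp

/-!
# Weights and elements with small fixed point groups

`modEq_card_wts` : `A` an elementary abelian normal `t`-subgroup, `y` of prime order `ℓ` commuting with at most `t`
elements of `A`: the number of nontrivial weights of `A` is congruent modulo `ℓ` to a number less than `t`.
`eq_bot_of_cong` : the resulting criterion for `A = 1` in linear groups.
-/

set_option autoImplicit false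

namespace Cfsg.Agent.H190.Exc

open Module Cfsg.Agent.H912.Bd Cfsg.Agent.H290.ElWt

section Free

variable {K : Type*} [Field K] {V : Type*} [AddCommGroup V] [Module K V] {G : Type*} [Group G]
  [FiniteDimensional K V] (ρ : G →* Module.End K V) {A : Subgroup G} [A.Normal]
  (hA : ∀ a ∈ A, ∀ b ∈ A, a * b = b * a) {t : ℕ} (ht : t.Prime) (hN : (t : K) ≠ 0) (hAN : ∀ a ∈ A, a ^ t = 1)

include hA ht hN hAN in
theorem modEq_card_wts [Finite G] {y : G} {ℓ : ℕ} (hℓ : ℓ.Prime) (hy : orderOf y = ℓ)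
    (fy : Nat.card {a : G // a ∈ A ∧ y * a = a * y} ≤ t) :
    ∃ f < t, Nat.card (Wts ρ A) ≡ f [MOD ℓ] := by
  classical
  have := Fact.mk hℓ
  have := Fact.mk ht
  have hfin := (finite_wts ρ hA hN hAN).1
  have hP : IsPGroup ℓ (Subgroup.zpowers y) := IsPGroup.of_card (n := 1) (by rw [Nat.card_zpowers, hy, pow_one])
  have h1 := hP.card_modEq_card_fixedPoints (Wts ρ A)
  refine ⟨_, ?_, h1⟩
  -- the homomorphism `a ↦ a⁻¹ a^y`
  have hcA : ∀ a b : A, a * b = b * a := fun a b => Subtype.ext (hA a a.2 b b.2)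
  let cA : CommGroup A := { (inferInstance : Group A) with mul_comm := hcA }
  have hconj : ∀ a : A, y * a * y⁻¹ ∈ A := fun a => (inferInstance : A.Normal).conj_mem a a.2 y
  let g : A →* A :=
    { toFun := fun a => ⟨(a : G)⁻¹ * (y * a * y⁻¹), mul_mem (inv_mem a.2) (hconj a)⟩
      map_one' := Subtype.ext (by simp)
      map_mul' := fun a b => Subtype.ext (by
        show ((a : G) * b)⁻¹ * (y * (a * b) * y⁻¹) = (a : G)⁻¹ * (y * a * y⁻¹) * ((b : G)⁻¹ * (y * b * y⁻¹))
        have e1 : (b : G)⁻¹ * ((a : G)⁻¹ * (y * a * y⁻¹)) = ((a : G)⁻¹ * (y * a * y⁻¹)) * (b : G)⁻¹ :=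
          hA _ (inv_mem b.2) _ (mul_mem (inv_mem a.2) (hconj a))
        calc ((a : G) * b)⁻¹ * (y * (a * b) * y⁻¹)
            = ((b : G)⁻¹ * ((a : G)⁻¹ * (y * a * y⁻¹))) * (y * b * y⁻¹) := by group
          _ = _ := by rw [e1]; group) }
  have hker : Nat.card g.ker ≤ t := by
    refine le_trans (Nat.card_le_card_of_injective (β := {a : G // a ∈ A ∧ y * a = a * y})
      (fun a => ⟨(a : A), (a : A).2, ?_⟩) ?_) fy
    · have h2 : g (a : A) = 1 := a.2
      have h3 : ((a : A) : G)⁻¹ * (y * (a : A) * y⁻¹) = 1 := congrArg Subtype.val h2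
      have h4 : y * ((a : A) : G) * y⁻¹ = (a : A) := by
        rw [inv_mul_eq_one] at h3
        exact h3.symm
      rw [mul_inv_eq_iff_eq_mul] at h4
      exact h4
    · intro a b hab
      exact Subtype.ext (Subtype.ext (congrArg (fun z => z.1) hab))
  -- the quotient is of order `1` or `t`
  have hq : Nat.card (A ⧸ g.range) ≤ t := by
    have h2 : Nat.card A = Nat.card (A ⧸ g.range) * Nat.card g.range := Subgroup.card_eq_card_quotient_mul_card_subgroup _
    have h3 : Nat.card A = Nat.card (A ⧸ g.ker) * Nat.card g.ker := Subgroup.card_eq_card_quotient_mul_card_subgroup _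
    have h4 : Nat.card (A ⧸ g.ker) = Nat.card g.range := Nat.card_congr (QuotientGroup.quotientKerEquivRange g).toEquiv
    have h5 : 0 < Nat.card g.range := Nat.card_pos
    have h6 : Nat.card (A ⧸ g.range) * Nat.card g.range = Nat.card g.ker * Nat.card g.range := by
      rw [← h2, h3, h4, mul_comm]
    rw [Nat.eq_of_mul_eq_mul_right h5 h6]
    exact hker
  have hPA : IsPGroup t A := fun a => ⟨1, by rw [pow_one]; exact Subtype.ext (hAN a a.2)⟩
  obtain ⟨b, hb⟩ : ∃ b : A, ∀ a : A, ∃ (i : ℕ) (c : A), a = b ^ i * g c := by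
    obtain ⟨n, hn⟩ := IsPGroup.iff_card.1 (hPA.to_quotient g.range)
    have hn1 : n ≤ 1 := by
      by_contra hcon
      have h2 : t ^ 2 ≤ t ^ n := Nat.pow_le_pow_right ht.pos (by omega)
      have h3 : t * 2 ≤ t ^ 2 := by rw [sq]; exact Nat.mul_le_mul_left _ ht.two_le
      have := ht.two_le
      omega
    have hcyc : IsCyclic (A ⧸ g.range) := by
      rcases Nat.eq_zero_or_pos n with h0 | h0
      · subst h0
        rw [pow_zero] at hn
        have : Subsingleton (A ⧸ g.range) := (Nat.card_eq_one_iff_unique.1 hn).1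
        infer_instance
      · have : n = 1 := by omega
        subst this
        exact isCyclic_of_prime_card (p := t) (by rw [hn, pow_one])
    obtain ⟨b', hb'⟩ := hcyc.exists_generator
    obtain ⟨b, rfl⟩ := QuotientGroup.mk_surjective b'
    refine ⟨b, fun a => ?_⟩
    have h2 := hb' (QuotientGroup.mk a)
    rw [← mem_powers_iff_mem_zpowers] at h2
    obtain ⟨i, hi⟩ := h2
    have h3 : QuotientGroup.mk (s := g.range) (b ^ i) = QuotientGroup.mk a := hi
    rw [QuotientGroup.eq] at h3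
    obtain ⟨c, hc⟩ := h3
    exact ⟨i, c, by rw [hc, mul_inv_cancel_left]⟩
  -- the values of the fixed weights at `b`
  have hfix : ∀ χ : Wts ρ A, χ ∈ MulAction.fixedPoints (Subgroup.zpowers y) (Wts ρ A) → ∀ c, χ.1 (g c) = 1 := by
    intro χ hχ c
    have h3 : y⁻¹ • χ = χ := hχ ⟨y⁻¹, inv_mem (Subgroup.mem_zpowers y)⟩
    have h4 : tw A y⁻¹ χ.1 = χ.1 := congrArg Subtype.val h3
    have h5 : g c = c⁻¹ * ⟨y * c * y⁻¹, hconj c⟩ := rfl
    rw [h5, wt_mul ρ χ.2.1]
    have h12 : χ.1 ⟨y * c * y⁻¹, hconj c⟩ = χ.1 c := by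
      have h13 := congrFun h4 c
      rw [← h13]
      exact congrArg χ.1 (Subtype.ext (by simp))
    rw [h12, ← wt_mul ρ χ.2.1, inv_mul_cancel, wt_one ρ χ.2.1]
  have hpow : ∀ χ : Wts ρ A, ∀ (a : A) (i : ℕ), χ.1 (a ^ i) = χ.1 a ^ i := by
    intro χ a i
    induction i with
    | zero => rw [pow_zero, pow_zero, wt_one ρ χ.2.1]
    | succ i ih => rw [pow_succ, pow_succ, wt_mul ρ χ.2.1, ih]
  have hval : ∀ χ : Wts ρ A, χ ∈ MulAction.fixedPoints (Subgroup.zpowers y) (Wts ρ A) →
      χ.1 b ∈ (Polynomial.nthRoots t (1 : K)).toFinset.erase 1 := by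
    intro χ hχ
    rw [Finset.mem_erase, Multiset.mem_toFinset, Polynomial.mem_nthRoots ht.pos]
    refine ⟨fun h2 => ?_, ?_⟩
    · obtain ⟨a, ha⟩ := χ.2.2
      apply ha
      obtain ⟨i, c, rfl⟩ := hb a
      rw [wt_mul ρ χ.2.1, hpow, h2, one_pow, hfix χ hχ, mul_one]
    · rw [← hpow, show b ^ t = 1 from Subtype.ext (hAN b b.2), wt_one ρ χ.2.1]
  have hcard : ((Polynomial.nthRoots t (1 : K)).toFinset.erase 1).card < t := by
    have h2 : (1 : K) ∈ (Polynomial.nthRoots t (1 : K)).toFinset := by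
      rw [Multiset.mem_toFinset, Polynomial.mem_nthRoots ht.pos, one_pow]
    have h3 := Finset.card_erase_lt_of_mem h2
    have h4 := (Multiset.toFinset_card_le (Polynomial.nthRoots t (1 : K))).trans (Polynomial.card_nthRoots t (1 : K))
    omega
  refine lt_of_le_of_lt ?_ hcard
  refine le_trans (Nat.card_le_card_of_injective
    (β := {z : K // z ∈ (Polynomial.nthRoots t (1 : K)).toFinset.erase 1})
    (fun χ => ⟨χ.1.1 b, hval χ.1 χ.2⟩) ?_) ?_
  · intro χ ψ h
    have h2 : χ.1.1 b = ψ.1.1 b := congrArg Subtype.val h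
    refine Subtype.ext (Subtype.ext (funext fun a => ?_))
    obtain ⟨i, c, rfl⟩ := hb a
    rw [wt_mul ρ χ.1.2.1, wt_mul ρ ψ.1.2.1, hpow, hpow, h2, hfix χ.1 χ.2, hfix ψ.1 ψ.2]
  · rw [Nat.card_eq_fintype_card, Fintype.card_coe]

end Free

section Lin

variable {F : Type*} [Field F] {ι : Type*} [Fintype ι] [DecidableEq ι] {G : Type*} [Group G] [Finite G]

/-- **Congruences for the number of weights of an elementary abelian normal `t`-subgroup.** -/
theorem eq_bot_of_cong {p : ℕ} [Fact p.Prime] [CharP F p] {τ : G →* GL ι F} (hτ : Function.Injective τ)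
    {A : Subgroup G} [A.Normal] (hA : ∀ a ∈ A, ∀ b ∈ A, a * b = b * a) {t : ℕ} (ht : t.Prime) (htp : t ≠ p)
    (hAt : ∀ a ∈ A, a ^ t = 1) {x y z : G} {ℓ s u : ℕ} (hℓ : ℓ.Prime) (hs : s.Prime) (hu : u.Prime)
    (hx : orderOf x = ℓ) (hy : orderOf y = s) (hz : orderOf z = u)
    (fx : ∀ a ∈ A, x * a = a * x → a = 1) (fy : Nat.card {a : G // a ∈ A ∧ y * a = a * y} ≤ t)
    (fz : Nat.card {a : G // a ∈ A ∧ z * a = a * z} ≤ t)
    (hnum : ∀ m, 0 < m → m ≤ Fintype.card ι → ℓ ∣ m → (∃ f < t, m ≡ f [MOD s]) → (∃ f < t, m ≡ f [MOD u]) → False) :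
    A = ⊥ := by
  have : CharP (AlgebraicClosure F) p := charP_of_injective_algebraMap (algebraMap F _).injective p
  have hN : ((t : ℕ) : AlgebraicClosure F) ≠ 0 := by
    intro h
    exact htp ((Nat.prime_dvd_prime_iff_eq Fact.out ht).1 ((CharP.cast_eq_zero_iff (AlgebraicClosure F) p _).1 h)).symm
  obtain ⟨hfin, hle⟩ := finite_wts (cl τ) hA hN hAt
  have h1 := dvd_card_wts (cl τ) hA hN hAt hℓ hx fx
  have h2 := modEq_card_wts (cl τ) hA ht hN hAt hs hy fy
  have h3 := modEq_card_wts (cl τ) hA ht hN hAt hu hz fz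
  have h4 : Nat.card (Wts (cl τ) A) = 0 := by
    by_contra h0
    exact hnum _ (Nat.pos_of_ne_zero h0) (by simpa using hle) h1 h2 h3
  have h5 : IsEmpty (Wts (cl τ) A) := by
    rcases Nat.card_eq_zero.1 h4 with h | h
    · exact h
    · exact absurd hfin (not_finite_iff_infinite.2 h)
  rw [eq_bot_iff]
  intro a ha
  refine Subgroup.mem_bot.2 (cl_injective hτ ?_)
  by_contra hne'
  obtain ⟨χ, hχ, hχa⟩ := exists_wt (cl τ) hA hN hAt (c := ⟨a, ha⟩) hne'
  exact h5.false ⟨χ, hχ, ⟨_, hχa⟩⟩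

end Lin

/-- the elements of prime order `t` commuting with an element with a cyclic centraliser -/
theorem card_comm_le {G : Type*} [Group G] [Finite G] {A : Subgroup G} {t : ℕ} (ht : t.Prime) (hAt : ∀ a ∈ A, a ^ t = 1)
    {y : G} (hc : IsCyclic ↥(Subgroup.centralizer ({y} : Set G))) : Nat.card {a : G // a ∈ A ∧ y * a = a * y} ≤ t := by
  classical
  have := Fintype.ofFinite ↥(Subgroup.centralizer ({y} : Set G))
  refine le_trans ?_ (IsCyclic.card_pow_eq_one_le (α := ↥(Subgroup.centralizer ({y} : Set G))) (n := t) ht.pos)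
  rw [← Fintype.card_coe, ← Nat.card_eq_fintype_card]
  refine Nat.card_le_card_of_injective (fun a => ⟨⟨a.1, ?_⟩, ?_⟩) ?_
  · rw [Subgroup.mem_centralizer_singleton_iff]
    exact a.2.2.symm
  · rw [Finset.mem_filter]
    exact ⟨Finset.mem_univ _, Subtype.ext (hAt _ a.2.1)⟩
  · intro a b hab
    have := congrArg (fun z => ((z.1 : ↥(Subgroup.centralizer ({y} : Set G))) : G)) hab
    exact Subtype.ext this

end Cfsg.Agent.H190.Exc
end

-- part: H755/Leo/PSLFour
section
prune_inst 0x311073447f2202000018051252001e729600059200288000c0e1034207c9cd2229c729618a2014174228a25500350048110000400200000002200400011c018000884206b348a00026008e000080000000000000000000000000000000000004000000000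
set_option linter.all false
open scoped Cfsg.Agent.FastGrp

/-!
# Projective representations of `PSL₃(4)` over `ℂ`: the bound 5 from `3²:Q₈` (helper755, for S4747)
-/

set_option autoImplicit false

universe u v

namespace Cfsg.Agent.H755.Leo

open Cfsg.Agent.H912.Bd Matrix

section Abs

variable {T : Type v} [Group T] {D C : T}

/-- `D ^ a C ^ b` -/
def ff (D C : T) (x : ZMod 3 × ZMod 3) : T := D ^ x.1.val * C ^ x.2.val

theorem pow_val_add (hD : D ^ 3 = 1) (a b : ZMod 3) : D ^ (a + b).val = D ^ a.val * D ^ b.val := by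
  rw [ZMod.val_add, ← pow_add]
  conv_rhs => rw [← Nat.mod_add_div (a.val + b.val) 3, pow_add, pow_mul, hD, one_pow, mul_one]

theorem ff_add (hD : D ^ 3 = 1) (hC : C ^ 3 = 1) (hDC : D * C = C * D) (x y : ZMod 3 × ZMod 3) :
    ff D C (x + y) = ff D C x * ff D C y := by
  have hc : Commute D C := hDC
  unfold ff
  rw [Prod.fst_add, Prod.snd_add, pow_val_add hD, pow_val_add hC]
  have h1 : D ^ y.1.val * C ^ x.2.val = C ^ x.2.val * D ^ y.1.val := hc.pow_pow _ _
  calc D ^ x.1.val * D ^ y.1.val * (C ^ x.2.val * C ^ y.2.val)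
      = D ^ x.1.val * (D ^ y.1.val * C ^ x.2.val) * C ^ y.2.val := by group
    _ = D ^ x.1.val * (C ^ x.2.val * D ^ y.1.val) * C ^ y.2.val := by rw [h1]
    _ = _ := by group

/-- the homomorphism -/
def fh (hD : D ^ 3 = 1) (hC : C ^ 3 = 1) (hDC : D * C = C * D) : Multiplicative (ZMod 3 × ZMod 3) →* T where
  toFun x := ff D C x.toAdd
  map_one' := by
    show D ^ (0 : ZMod 3).val * C ^ (0 : ZMod 3).val = 1
    simp
  map_mul' x y := ff_add hD hC hDC _ _

theorem pow_val_neg (hD : D ^ 3 = 1) (a : ZMod 3) : D ^ (-a).val = (D ^ a.val)⁻¹ := by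
  apply eq_inv_of_mul_eq_one_left
  rw [← pow_val_add hD, neg_add_cancel, ZMod.val_zero, pow_zero]

/-- the action on `(ZMod 3)²` -/
def AA : Fin 5 → ZMod 3 × ZMod 3 → ZMod 3 × ZMod 3 :=
  ![fun x => x, fun x => (x.2, -x.1), fun x => (-x.1, -x.2), fun x => (-x.2, x.1), fun x => (-x.1 - x.2, x.2 - x.1)]

theorem AA_diff : ∀ k l : Fin 5, k ≠ l → ∀ x, AA k x = AA l x → x = 0 := by decide +kernel

theorem AA_trans : ∀ x : ZMod 3 × ZMod 3, x ≠ 0 → ∃ k l, AA k (AA l (1, 0)) = x := by decide +kernel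

/-- five elements acting differently on `3²` -/
theorem bd_five {F : Type u} [Field F] (h3 : ((3 : ℕ) : F) ≠ 0) {i j : T} (hD : D ^ 3 = 1) (hC : C ^ 3 = 1)
    (hDC : D * C = C * D) (hD1 : D ≠ 1) (i1 : i * D * i⁻¹ = C⁻¹) (i2 : i * C * i⁻¹ = D)
    (j1 : j * D * j⁻¹ = D⁻¹ * C⁻¹) (j2 : j * C * j⁻¹ = D⁻¹ * C) : Bd F 3 5 T := by
  classical
  have hc : Commute D C := hDC
  let s : Fin 5 → T := ![1, i, i * i, i * i * i, j]
  have hi : ∀ x, i * ff D C x * i⁻¹ = ff D C (x.2, -x.1) := by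
    intro x
    have h1 : i * ff D C x * i⁻¹ = (i * D * i⁻¹) ^ x.1.val * (i * C * i⁻¹) ^ x.2.val := by
      rw [conj_pow, conj_pow]
      unfold ff
      group
    rw [h1, i1, i2]
    unfold ff
    rw [pow_val_neg hC, inv_pow]
    exact ((hc.pow_pow x.2.val x.1.val).inv_right).symm.eq
  have hj : ∀ x, j * ff D C x * j⁻¹ = ff D C (-x.1 - x.2, x.2 - x.1) := by
    intro x
    have h1 : j * ff D C x * j⁻¹ = (j * D * j⁻¹) ^ x.1.val * (j * C * j⁻¹) ^ x.2.val := by
      rw [conj_pow, conj_pow]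
      unfold ff
      group
    rw [h1, j1, j2]
    unfold ff
    rw [sub_eq_add_neg, sub_eq_add_neg, pow_val_add hD, pow_val_add hC, pow_val_neg hD, pow_val_neg hD,
      pow_val_neg hC]
    have hc1 : Commute D⁻¹ C⁻¹ := (hc.inv_left).inv_right
    have hc2 : Commute D⁻¹ C := hc.inv_left
    rw [hc1.mul_pow, hc2.mul_pow, inv_pow, inv_pow, inv_pow]
    have e1 : Commute (C ^ x.1.val)⁻¹ (D ^ x.2.val)⁻¹ := ((hc.symm.pow_pow _ _).inv_left).inv_right
    have e2 : Commute (C ^ x.1.val)⁻¹ (C ^ x.2.val) := ((Commute.refl C).pow_pow _ _).inv_left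
    calc (D ^ x.1.val)⁻¹ * (C ^ x.1.val)⁻¹ * ((D ^ x.2.val)⁻¹ * C ^ x.2.val)
        = (D ^ x.1.val)⁻¹ * ((C ^ x.1.val)⁻¹ * (D ^ x.2.val)⁻¹) * C ^ x.2.val := by group
      _ = (D ^ x.1.val)⁻¹ * ((D ^ x.2.val)⁻¹ * (C ^ x.1.val)⁻¹) * C ^ x.2.val := by rw [e1.eq]
      _ = (D ^ x.1.val)⁻¹ * (D ^ x.2.val)⁻¹ * ((C ^ x.1.val)⁻¹ * C ^ x.2.val) := by group
      _ = (D ^ x.1.val)⁻¹ * (D ^ x.2.val)⁻¹ * (C ^ x.2.val * (C ^ x.1.val)⁻¹) := by rw [e2.eq]
  have hs : ∀ k x, s k * ff D C x * (s k)⁻¹ = ff D C (AA k x) := by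
    intro k x
    fin_cases k
    · show (1 : T) * ff D C x * (1 : T)⁻¹ = ff D C x
      group
    · exact hi x
    · show i * i * ff D C x * (i * i)⁻¹ = ff D C (-x.1, -x.2)
      calc i * i * ff D C x * (i * i)⁻¹ = i * (i * ff D C x * i⁻¹) * i⁻¹ := by group
        _ = _ := by rw [hi, hi]
    · show i * i * i * ff D C x * (i * i * i)⁻¹ = ff D C (-x.2, x.1)
      calc i * i * i * ff D C x * (i * i * i)⁻¹ = i * (i * (i * ff D C x * i⁻¹) * i⁻¹) * i⁻¹ := by group
        _ = _ := by rw [hi, hi, hi]; simp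
    · exact hj x
  have hf1 : ff D C (1, 0) = D := by
    show D ^ (1 : ZMod 3).val * C ^ (0 : ZMod 3).val = D
    have : (1 : ZMod 3).val = 1 := rfl
    rw [this, ZMod.val_zero, pow_one, pow_zero, mul_one]
  have hf0 : ff D C 0 = 1 := by
    show D ^ (0 : ZMod 3).val * C ^ (0 : ZMod 3).val = 1
    simp
  have hinj0 : ∀ x, ff D C x = 1 → x = 0 := by
    intro x hx
    by_contra hne
    obtain ⟨k, l, hkl⟩ := AA_trans x hne
    rw [← hkl, ← hs, ← hs, hf1] at hx
    apply hD1
    have h5 : s k * (s l * D * (s l)⁻¹) * (s k)⁻¹ = (s k * s l) * D * (s k * s l)⁻¹ := by group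
    rw [h5] at hx
    exact conj_eq_one_iff.1 hx
  have hinj : ∀ x y, ff D C x = ff D C y → x = y := by
    intro x y hxy
    have h5 : ff D C (x - y) = 1 := by
      have h6 := ff_add hD hC hDC (x - y) y
      rw [sub_add_cancel, hxy] at h6
      exact (mul_eq_right.1 h6.symm)
    exact sub_eq_zero.1 (hinj0 _ h5)
  let E : Subgroup T := (fh hD hC hDC).range
  have hE : ∀ e, e ∈ E ↔ ∃ x, e = ff D C x := by
    intro e
    constructor
    · rintro ⟨x, rfl⟩
      exact ⟨x.toAdd, rfl⟩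
    · rintro ⟨x, rfl⟩
      exact ⟨Multiplicative.ofAdd x, rfl⟩
  have hfin : Finite E := inferInstanceAs (Finite (fh hD hC hDC).range)
  have hcomm : ∀ a ∈ E, ∀ b ∈ E, a * b = b * a := by
    intro a ha b hb
    obtain ⟨x, rfl⟩ := (hE a).1 ha
    obtain ⟨y, rfl⟩ := (hE b).1 hb
    rw [← ff_add hD hC hDC, ← ff_add hD hC hDC, add_comm]
  have hp : IsPGroup 3 E := by
    rintro ⟨e, he⟩
    obtain ⟨x, rfl⟩ := (hE e).1 he
    refine ⟨1, Subtype.ext ?_⟩
    show ff D C x ^ 3 ^ 1 = 1
    rw [pow_one, pow_succ, pow_two, ← ff_add hD hC hDC, ← ff_add hD hC hDC]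
    have h9 : ∀ x : ZMod 3 × ZMod 3, x + x + x = 0 := by decide
    rw [h9, hf0]
  have hE1 : E ≠ ⊥ := by
    intro h
    apply hD1
    have h6 : D ∈ E := (hE D).2 ⟨(1, 0), hf1.symm⟩
    rw [h] at h6
    exact h6
  have hsinj : Function.Injective s := by
    intro k l hkl
    by_contra hne
    have h6 := AA_diff k l hne (1, 0) (hinj _ _ (by rw [← hs, ← hs, hkl]))
    exact absurd h6 (by decide)
  have h7 := bd_of_free (F := F) Nat.prime_three h3 E hcomm hp hE1 (Finset.univ.image s) (by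
    intro t ht e he
    obtain ⟨k, -, rfl⟩ := Finset.mem_image.1 ht
    obtain ⟨x, rfl⟩ := (hE e).1 he
    rw [hs]
    exact (hE _).2 ⟨_, rfl⟩) (by
    intro t ht t' ht' htt e he hee
    obtain ⟨k, -, rfl⟩ := Finset.mem_image.1 ht
    obtain ⟨l, -, rfl⟩ := Finset.mem_image.1 ht'
    obtain ⟨x, rfl⟩ := (hE e).1 he
    rw [hs, hs] at hee
    rw [AA_diff k l (fun h => htt (by rw [h])) x (hinj _ _ hee), hf0])
  rwa [Finset.card_image_of_injective _ hsinj, Finset.card_univ, Fintype.card_fin] at h7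

end Abs

section PSL

variable {K : Type v} [Field K] {w : K}

/-- the matrices -/
def mD (w : K) : Matrix (Fin 3) (Fin 3) K := !![1, 0, 0; 0, w, 0; 0, 0, w * w]
def mC (K : Type v) [Field K] : Matrix (Fin 3) (Fin 3) K := !![0, 0, 1; 1, 0, 0; 0, 1, 0]
def mW (w : K) : Matrix (Fin 3) (Fin 3) K := !![1, 1, 1; 1, w, w * w; 1, w * w, w]
def mJ (w : K) : Matrix (Fin 3) (Fin 3) K := !![1, 1, w * w; 1, w, w; w, 1, w]

attribute [-instance] instNoNatZeroDivisorsOfIsAddTorsionFree instIsCharPOfIsLeftCancelAddOfCharP in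
theorem det_mD (hw : w * w + w + 1 = 0) : (mD w).det = 1 := by
  unfold mD
  rw [Matrix.det_fin_three]
  simp only [_root_.Fin.isValue, _root_.Matrix.of_apply, _root_.Matrix.cons_val', _root_.Matrix.cons_val_zero, _root_.Matrix.cons_val_fin_one, _root_.Matrix.cons_val_one, _root_.one_mul, _root_.Matrix.cons_val, _root_.MulZeroClass.mul_zero, _root_.sub_zero, _root_.MulZeroClass.zero_mul, _root_.add_zero]
  grobner

theorem det_mC : (mC K).det = 1 := by
  unfold mC
  rw [Matrix.det_fin_three]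
  simp

attribute [-instance] instNoNatZeroDivisorsOfIsAddTorsionFree instIsCharPOfIsLeftCancelAddOfCharP in
theorem det_mW (hw : w * w + w + 1 = 0) (h2 : (2 : K) = 0) : (mW w).det = 1 := by
  unfold mW
  rw [Matrix.det_fin_three]
  simp only [_root_.Fin.isValue, _root_.Matrix.of_apply, _root_.Matrix.cons_val', _root_.Matrix.cons_val_zero, _root_.Matrix.cons_val_fin_one, _root_.Matrix.cons_val_one, _root_.one_mul, _root_.Matrix.cons_val, _root_.mul_one]
  grobner

attribute [-instance] instNoNatZeroDivisorsOfIsAddTorsionFree instIsCharPOfIsLeftCancelAddOfCharP in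
theorem det_mJ (hw : w * w + w + 1 = 0) (h2 : (2 : K) = 0) : (mJ w).det = 1 := by
  unfold mJ
  rw [Matrix.det_fin_three]
  simp only [_root_.Fin.isValue, _root_.Matrix.of_apply, _root_.Matrix.cons_val', _root_.Matrix.cons_val_zero, _root_.Matrix.cons_val_fin_one, _root_.Matrix.cons_val_one, _root_.one_mul, _root_.Matrix.cons_val, _root_.mul_one]
  grobner

theorem mC_three : mC K * mC K * mC K = 1 := by
  unfold mC
  ext i j
  (revert i j; simp only [Matrix.mul_apply, Fin.sum_univ_three, Matrix.one_apply, _root_.Fin.forall_fin_succ, _root_.Matrix.cons_mul, _root_.Nat.succ_eq_add_one, Nat.reduceAdd, _root_.Matrix.vecMul_cons, _root_.Matrix.head_cons, _root_.zero_smul, _root_.Matrix.tail_cons, _root_.one_smul, _root_.Matrix.empty_vecMul, _root_.add_zero, _root_.zero_add, _root_.Matrix.empty_mul, _root_.Equiv.symm_apply_apply, _root_.Matrix.of_apply, _root_.Matrix.cons_val', _root_.Matrix.cons_val_fin_one, Fin.isValue, _root_.Matrix.cons_val_zero, _root_.Matrix.cons_val_one,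 _root_.Matrix.cons_val, _root_.MulZeroClass.mul_zero, _root_.mul_one, _root_.Matrix.cons_val_succ, _root_.Fin.succ_zero_eq_one, _root_.Fin.succ_one_eq_two, _root_.IsEmpty.forall_iff, _root_.and_true, ↓reduceIte, _root_.zero_ne_one, Fin.reduceEq, _root_.and_self, _root_.Fin.succ_ne_zero, _root_.right_eq_ite_iff, _root_.imp_false, _root_.left_eq_ite_iff, _root_.one_ne_zero, _root_.Decidable.not_not, _root_.true_and, _root_.not_false_eq_true])

attribute [-instance] instNoNatZeroDivisorsOfIsAddTorsionFree instIsCharPOfIsLeftCancelAddOfCharP in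
theorem mD_three (hw : w * w + w + 1 = 0) : mD w * mD w * mD w = 1 := by
  unfold mD
  ext i j
  (revert i j; simp only [Matrix.mul_apply, Fin.sum_univ_three, Matrix.one_apply, _root_.Fin.forall_fin_succ, _root_.Matrix.cons_mul, _root_.Nat.succ_eq_add_one, Nat.reduceAdd, _root_.Matrix.vecMul_cons, _root_.Matrix.head_cons, _root_.one_smul, _root_.Matrix.tail_cons, _root_.zero_smul, _root_.Matrix.empty_vecMul, _root_.add_zero, _root_.Matrix.smul_cons, _root_.smul_eq_mul, _root_.MulZeroClass.mul_zero, _root_.Matrix.smul_empty, _root_.zero_add, _root_.Matrix.empty_mul, _root_.Equiv.symm_apply_apply, _root_.Matrix.of_apply, _root_.Matrix.cons_val', _root_.Matrix.cons_val_fin_one, Fin.isValue, _root_.Matrix.cons_val_zero, _root_.Matrix.cons_val_one, _root_.Matrix.cons_val, _root_.mul_one, _root_.Matrix.cons_val_succ, _root_.Fin.succ_zero_eq_one, _root_.Fin.succ_one_eq_two, _root_.IsEmpty.forall_iff, _root_.and_true, ↓reduceIte, _root_.MulZeroClass.zero_mul, _root_.zero_ne_one,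 Fin.reduceEq, _root_.and_self, _root_.Fin.succ_ne_zero, _root_.true_and, _root_.right_eq_ite_iff, _root_.imp_false, _root_.not_false_eq_true]) <;> grobner

attribute [-instance] instNoNatZeroDivisorsOfIsAddTorsionFree instIsCharPOfIsLeftCancelAddOfCharP in
theorem mDC (hw : w * w + w + 1 = 0) : mD w * mC K = w • (mC K * mD w) := by
  unfold mD mC
  ext i j
  (revert i j; simp only [Matrix.mul_apply, Fin.sum_univ_three, _root_.Fin.forall_fin_succ, _root_.Matrix.of_apply, _root_.Matrix.cons_val', _root_.Matrix.cons_val_fin_one, Fin.isValue, _root_.Matrix.cons_val_zero, _root_.Matrix.cons_val_one, _root_.Matrix.cons_val, _root_.Matrix.cons_mul, _root_.Nat.succ_eq_add_one, Nat.reduceAdd, _root_.Matrix.vecMul_cons, _root_.Matrix.head_cons, _root_.zero_smul, _root_.Matrix.tail_cons, _root_.one_smul, _root_.Matrix.empty_vecMul, _root_.add_zero, _root_.zero_add, _root_.Matrix.empty_mul, _root_.Equiv.symm_apply_apply, _root_.Matrix.smul_apply, _root_.smul_eq_mul,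 _root_.MulZeroClass.mul_zero, _root_.mul_one, _root_.Matrix.cons_val_succ, _root_.forall_const, _root_.true_and, _root_.and_self, _root_.implies_true, _root_.and_true]) <;> grobner

attribute [-instance] instNoNatZeroDivisorsOfIsAddTorsionFree instIsCharPOfIsLeftCancelAddOfCharP in
theorem mWC (hw : w * w + w + 1 = 0) : mW w * mC K = mD w * mW w := by
  unfold mD mC mW
  ext i j
  (revert i j; simp only [Matrix.mul_apply, Fin.sum_univ_three, _root_.Fin.forall_fin_succ, _root_.Matrix.of_apply, _root_.Matrix.cons_val', _root_.Matrix.cons_val_fin_one, Fin.isValue, _root_.Matrix.cons_val_zero, _root_.Matrix.cons_val_one, _root_.Matrix.cons_val, _root_.MulZeroClass.mul_zero, _root_.mul_one, _root_.zero_add, _root_.add_zero, _root_.Matrix.cons_val_succ, _root_.forall_const, _root_.MulZeroClass.zero_mul, _root_.and_self, _root_.true_and]) <;> grobner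

attribute [-instance] instNoNatZeroDivisorsOfIsAddTorsionFree instIsCharPOfIsLeftCancelAddOfCharP in
theorem mWD (hw : w * w + w + 1 = 0) : mC K * (mW w * mD w) = mW w := by
  unfold mD mC mW
  ext i j
  (revert i j; simp only [Matrix.mul_apply, Fin.sum_univ_three, _root_.Fin.forall_fin_succ, _root_.Matrix.cons_mul, _root_.Nat.succ_eq_add_one, Nat.reduceAdd, _root_.Matrix.vecMul_cons, _root_.Matrix.head_cons, _root_.one_smul, _root_.Matrix.tail_cons, _root_.Matrix.empty_vecMul, _root_.add_zero, _root_.Matrix.add_cons, _root_.zero_add, _root_.Matrix.empty_add_empty, _root_.Matrix.smul_cons, _root_.smul_eq_mul, _root_.MulZeroClass.mul_zero, _root_.Matrix.smul_empty, _root_.Matrix.empty_mul, _root_.Equiv.symm_apply_apply, _root_.Matrix.of_apply, _root_.Matrix.cons_val', _root_.Matrix.cons_val_fin_one, Fin.isValue, _root_.Matrix.cons_val_zero, _root_.Matrix.cons_val_one, _root_.Matrix.cons_val, _root_.mul_one, _root_.Matrix.cons_val_succ, _root_.forall_const,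 _root_.MulZeroClass.zero_mul, _root_.one_mul, _root_.true_and, _root_.and_self]) <;> grobner

attribute [-instance] instNoNatZeroDivisorsOfIsAddTorsionFree instIsCharPOfIsLeftCancelAddOfCharP in
theorem mJD (hw : w * w + w + 1 = 0) (h2 : (2 : K) = 0) : mD w * mC K * (mJ w * mD w) = w • mJ w := by
  unfold mD mC mJ
  ext i j
  (revert i j; simp only [Matrix.mul_apply, Fin.sum_univ_three, _root_.Fin.forall_fin_succ, _root_.Matrix.cons_mul, _root_.Nat.succ_eq_add_one, Nat.reduceAdd, _root_.Matrix.vecMul_cons, _root_.Matrix.head_cons, _root_.one_smul, _root_.Matrix.tail_cons, _root_.zero_smul, _root_.Matrix.empty_vecMul, _root_.add_zero, _root_.Matrix.smul_cons, _root_.smul_eq_mul, _root_.mul_one, _root_.MulZeroClass.mul_zero, _root_.Matrix.smul_empty, _root_.zero_add, _root_.Matrix.empty_mul, _root_.Equiv.symm_apply_apply, _root_.Matrix.add_cons, _root_.Matrix.empty_add_empty, _root_.Matrix.of_apply, _root_.Matrix.cons_val', _root_.Matrix.cons_val_fin_one,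 Fin.isValue, _root_.Matrix.cons_val_zero, _root_.Matrix.cons_val_one, _root_.Matrix.cons_val, _root_.Matrix.smul_apply, _root_.Matrix.cons_val_succ, _root_.forall_const, _root_.one_mul, _root_.MulZeroClass.zero_mul, _root_.and_self, _root_.mul_eq_mul_left_iff, _root_.true_and]) <;> grobner

attribute [-instance] instNoNatZeroDivisorsOfIsAddTorsionFree instIsCharPOfIsLeftCancelAddOfCharP in
theorem mJC (hw : w * w + w + 1 = 0) (h2 : (2 : K) = 0) : mJ w * mC K = mD w * mC K * mD w * mJ w := by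
  unfold mD mC mJ
  ext i j
  (revert i j; simp only [Matrix.mul_apply, Fin.sum_univ_three, _root_.Fin.forall_fin_succ, _root_.Matrix.of_apply, _root_.Matrix.cons_val', _root_.Matrix.cons_val_fin_one, Fin.isValue, _root_.Matrix.cons_val_zero, _root_.Matrix.cons_val_one, _root_.Matrix.cons_val, _root_.Matrix.cons_mul, _root_.Nat.succ_eq_add_one, Nat.reduceAdd, _root_.Matrix.vecMul_cons, _root_.Matrix.head_cons, _root_.one_smul, _root_.Matrix.tail_cons, _root_.zero_smul, _root_.Matrix.empty_vecMul, _root_.add_zero, _root_.Matrix.smul_cons, _root_.smul_eq_mul, _root_.mul_one, _root_.MulZeroClass.mul_zero, _root_.Matrix.smul_empty, _root_.zero_add, _root_.Matrix.empty_mul, _root_.Equiv.symm_apply_apply, _root_.Matrix.cons_val_succ, _root_.forall_const, _root_.MulZeroClass.zero_mul, _root_.true_and, _root_.and_self]) <;> grobner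

attribute [-instance] instNoNatZeroDivisorsOfIsAddTorsionFree instIsCharPOfIsLeftCancelAddOfCharP in
theorem det_scalar (hw : w * w + w + 1 = 0) : (w • (1 : Matrix (Fin 3) (Fin 3) K)).det = 1 := by
  rw [Matrix.det_smul, Matrix.det_one, Fintype.card_fin]
  grobner

/-- the row `PSL₃(4)`, `p = 3` -/
theorem bd_psl34 {F : Type v} [Field F] [Fintype F] (hF : Fintype.card F = 4) :
    Cfsg.Agent.H912.Bd.Bd ℂ 3 5 (Matrix.ProjectiveSpecialLinearGroup (Fin 3) F) := by
  classical
  have h4 : (4 : F) = 0 := by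
    have h5 : ((Fintype.card F : ℕ) : F) = 0 := Nat.cast_card_eq_zero F
    rw [hF] at h5
    exact_mod_cast h5
  have h2 : (2 : F) = 0 := by
    have h5 : (2 : F) * 2 = 0 := by rw [← h4]; norm_num
    exact mul_self_eq_zero.1 h5
  obtain ⟨w, hw0, hw1⟩ : ∃ w : F, w ≠ 0 ∧ w ≠ 1 := by
    by_contra hno
    push Not at hno
    have h5 : (Finset.univ : Finset F) ⊆ {0, 1} := by
      intro x _
      rw [Finset.mem_insert, Finset.mem_singleton]
      by_cases hx : x = 0
      · exact Or.inl hx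
      · exact Or.inr (hno x hx)
    have h6 := (Finset.card_le_card h5).trans Finset.card_le_two
    rw [Finset.card_univ, hF] at h6
    omega
  have hw : w * w + w + 1 = 0 := by
    have h5 := FiniteField.pow_card_sub_one_eq_one w hw0
    rw [hF] at h5
    have h6 : (w - 1) * (w * w + w + 1) = 0 := by
      have : w ^ 3 = 1 := h5
      linear_combination this
    exact (mul_eq_zero.1 h6).resolve_left (sub_ne_zero.2 hw1)
  let d : _root_.Matrix.SpecialLinearGroup (Fin 3) F := ⟨mD w, det_mD hw⟩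
  let c : _root_.Matrix.SpecialLinearGroup (Fin 3) F := ⟨mC F, det_mC⟩
  let W : _root_.Matrix.SpecialLinearGroup (Fin 3) F := ⟨mW w, det_mW hw h2⟩
  let J : _root_.Matrix.SpecialLinearGroup (Fin 3) F := ⟨mJ w, det_mJ hw h2⟩
  let z : _root_.Matrix.SpecialLinearGroup (Fin 3) F := ⟨w • 1, det_scalar hw⟩
  have hz : z ∈ Subgroup.center (_root_.Matrix.SpecialLinearGroup (Fin 3) F) := by
    rw [Subgroup.mem_center_iff]
    intro x
    apply Subtype.ext
    show x.1 * (w • 1) = (w • 1) * x.1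
    rw [mul_smul_comm, smul_mul_assoc, mul_one, one_mul]
  have hz1 : (z : ProjectiveSpecialLinearGroup (Fin 3) F) = 1 := (QuotientGroup.eq_one_iff z).2 hz
  have e1 : d * d * d = 1 := Subtype.ext (mD_three hw)
  have e2 : c * c * c = 1 := Subtype.ext mC_three
  have e3 : d * c = z * (c * d) := by
    apply Subtype.ext
    show mD w * mC F = (w • 1) * (mC F * mD w)
    rw [smul_mul_assoc, one_mul, mDC hw]
  have e4 : W * c = d * W := Subtype.ext (mWC hw)
  have e5 : c * (W * d) = W := Subtype.ext (mWD hw)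
  have e6 : d * c * (J * d) = z * J := by
    apply Subtype.ext
    show mD w * mC F * (mJ w * mD w) = (w • 1) * mJ w
    rw [smul_mul_assoc, one_mul, mJD hw h2]
  have e7 : J * c = d * c * d * J := Subtype.ext (mJC hw h2)
  have hd : d ∉ Subgroup.center (_root_.Matrix.SpecialLinearGroup (Fin 3) F) := by
    intro h
    have h5 := Subgroup.mem_center_iff.1 h c
    have h6 : (mC F * mD w) = mD w * mC F := congrArg Subtype.val h5
    have h7 := congrFun (congrFun h6 1) 0
    simp only [mC, mD, Matrix.mul_apply, Fin.sum_univ_three, _root_.Fin.isValue, _root_.Matrix.of_apply, _root_.Matrix.cons_val', _root_.Matrix.cons_val_fin_one, _root_.Matrix.cons_val_one, _root_.Matrix.cons_val_zero, _root_.mul_one, _root_.MulZeroClass.mul_zero, _root_.add_zero, _root_.Matrix.cons_val, _root_.zero_add] at h7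
    exact hw1 h7.symm
  -- pass to the quotient
  let π : _root_.Matrix.SpecialLinearGroup (Fin 3) F →* ProjectiveSpecialLinearGroup (Fin 3) F := QuotientGroup.mk' _
  have hπz : π z = 1 := hz1
  have f1 : π d ^ 3 = 1 := by
    rw [pow_succ, pow_two, ← map_mul, ← map_mul, e1, map_one]
  have f2 : π c ^ 3 = 1 := by
    rw [pow_succ, pow_two, ← map_mul, ← map_mul, e2, map_one]
  have f3 : π d * π c = π c * π d := by
    rw [← map_mul, e3, map_mul, hπz, one_mul, map_mul]
  have f4 : π W * π c * (π W)⁻¹ = π d := by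
    rw [← map_mul, e4, map_mul, mul_inv_cancel_right]
  have f5 : π W * π d * (π W)⁻¹ = (π c)⁻¹ := by
    have h5 : π c * (π W * π d) = π W := by rw [← map_mul, ← map_mul, e5]
    rw [eq_inv_iff_mul_eq_one]
    calc π W * π d * (π W)⁻¹ * π c = (π c)⁻¹ * (π c * (π W * π d)) * (π W)⁻¹ * π c := by group
      _ = (π c)⁻¹ * π W * (π W)⁻¹ * π c := by rw [h5]
      _ = 1 := by group
  have f6 : π J * π d * (π J)⁻¹ = (π d)⁻¹ * (π c)⁻¹ := by
    have h5 : π d * π c * (π J * π d) = π J := by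
      rw [← map_mul, ← map_mul, ← map_mul, e6, map_mul, hπz, one_mul]
    calc π J * π d * (π J)⁻¹ = (π c)⁻¹ * (π d)⁻¹ * (π d * π c * (π J * π d)) * (π J)⁻¹ := by group
      _ = (π c)⁻¹ * (π d)⁻¹ * π J * (π J)⁻¹ := by rw [h5]
      _ = (π d * π c)⁻¹ := by group
      _ = (π c * π d)⁻¹ := by rw [f3]
      _ = _ := by group
  have f7 : π J * π c * (π J)⁻¹ = (π d)⁻¹ * π c := by
    have h5 : π J * π c = π d * π c * π d * π J := by
      rw [← map_mul, ← map_mul, ← map_mul, ← map_mul, e7]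
    calc π J * π c * (π J)⁻¹ = π d * (π c * π d) := by rw [h5]; group
      _ = π d * (π d * π c) := by rw [f3]
      _ = (π d)⁻¹ * (π d ^ 3) * π c := by rw [pow_succ, pow_two]; group
      _ = _ := by rw [f1, mul_one]
  refine bd_five (by norm_num) f1 f2 f3 ?_ f5 f4 f6 f7
  intro h
  exact hd ((QuotientGroup.eq_one_iff d).1 h)

end PSL

end Cfsg.Agent.H755.Leo

private theorem dce_71c2e1fc3df2 : _root_.True := by
  try have : _root_.True := by simp only [_root_.Cfsg.Agent.H755.Leo.mC.eq_1]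
  try have : _root_.True := by simp only [_root_.Cfsg.Agent.H755.Leo.mD.eq_1]
  exact _root_.True.intro
end
end
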