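import Cfsg.Agent.H183.OrthSum
import Cfsg.Agent.ClassicalGeometry.OmegaIndex
import Cfsg.Agent.ClassicalGeometry.OrthDickson
import Cfsg.Agent.ClassicalGeometry.WittQuad
import Cfsg.Agent.ClassicalGeometry.Discriminant
import Cfsg.Agent.S2609
set_option linter.all false

/-!
# Transitivity of `Ω` from transitivity of the isometry group

If the stabiliser `K` of an object in `O(Q)` covers `O(Q) / Ω(Q)`, then `Ω(Q)` is transitive on the
`O(Q)`-orbit of the object: `adjust_two`, `adjust_odd`.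
`toIso`: a linear equivalence preserving `Q` as an element of `isometryGroup`.
-/

set_option autoImplicit false

namespace Cfsg.Agent.H175.OmegaAdjust

open QuadraticMap Matrix Module Cfsg.Agent.ClassicalGeometry.Reflection
  Cfsg.Agent.ClassicalGeometry.SpinorSign Cfsg.Agent.ClassicalGeometry.OmegaIndex
  Cfsg.Agent.ClassicalGeometry.OrthDickson

variable {F : Type*} [Field F] {ι : Type} [Fintype ι] [DecidableEq ι]

/-- A linear equivalence preserving `Q` as an element of the isometry group. -/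
noncomputable def toIso (Q : QuadraticForm F (ι → F)) (g : (ι → F) ≃ₗ[F] (ι → F))
    (hg : ∀ v, Q (g v) = Q v) : Cfsg.isometryGroup F ⇑Q :=
  ⟨⟨LinearMap.toMatrix' g.toLinearMap, LinearMap.toMatrix' g.symm.toLinearMap, by
      rw [← LinearMap.toMatrix'_comp, LinearEquiv.comp_symm, LinearMap.toMatrix'_id], by
      rw [← LinearMap.toMatrix'_comp, LinearEquiv.symm_comp, LinearMap.toMatrix'_id]⟩, by
    rw [mem_isometryGroup_iff]
    intro v
    change Q (LinearMap.toMatrix' g.toLinearMap *ᵥ v) = Q v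
    rw [LinearMap.toMatrix'_mulVec]
    exact hg v⟩

theorem toIso_mulVec (Q : QuadraticForm F (ι → F)) (g : (ι → F) ≃ₗ[F] (ι → F))
    (hg : ∀ v, Q (g v) = Q v) (v : ι → F) :
    ((toIso Q g hg : Matrix.GeneralLinearGroup ι F) : Matrix ι ι F) *ᵥ v = g v := by
  change LinearMap.toMatrix' g.toLinearMap *ᵥ v = g v
  rw [LinearMap.toMatrix'_mulVec]; rfl

/-- Characteristic two: a subgroup containing a reflection covers `O / Ω`. -/
theorem adjust_two [Finite F] (Q : QuadraticForm F (ι → F)) (h2 : (2 : F) = 0)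
    (hQ : (polarBilin Q).Nondegenerate) (h : (∃ θ : F, θ ≠ 0 ∧ θ ≠ 1) ∨ Fintype.card ι ≠ 4)
    (K : Subgroup (Cfsg.isometryGroup F ⇑Q)) (v : ι → F) (hv : Q v ≠ 0) (hK : reflIso Q v hv ∈ K)
    (g : Cfsg.isometryGroup F ⇑Q) : ∃ s ∈ K, g * s ∈ Cfsg.Omega F ⇑Q := by
  rcases Int.units_eq_one_or (dsign Q g) with hg | hg
  · refine ⟨1, K.one_mem, ?_⟩
    rw [mul_one, Cfsg.Agent.H183.mem_Omega_iff_dsign _ h2 hQ h]
    exact hg
  · refine ⟨_, hK, ?_⟩
    rw [Cfsg.Agent.H183.mem_Omega_iff_dsign _ h2 hQ h, dsign_mul_of_gen Q hQ h, hg,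
      dsign_refl Q hQ v hv]
    decide

/-- Odd characteristic: a subgroup containing an element `a` of determinant `-1` and an element `b`
of determinant `1` and spinor sign `-1` covers `O / Ω`. -/
theorem adjust_odd [Finite F] (Q : QuadraticForm F (ι → F)) (h2 : (2 : F) ≠ 0)
    (hQ : (polarBilin Q).Nondegenerate) (hn : 2 ≤ Fintype.card ι)
    (K : Subgroup (Cfsg.isometryGroup F ⇑Q)) (a b : Cfsg.isometryGroup F ⇑Q) (ha : a ∈ K)
    (hb : b ∈ K) (hda : ((a : Matrix.GeneralLinearGroup ι F) : Matrix ι ι F).det = -1)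
    (hdb : ((b : Matrix.GeneralLinearGroup ι F) : Matrix ι ι F).det = 1)
    (hsb : spinorSign ⇑Q (1 : F) b = -1)
    (g : Cfsg.isometryGroup F ⇑Q) : ∃ s ∈ K, g * s ∈ Cfsg.Omega F ⇑Q := by
  have := Fintype.ofFinite F
  have hcoe : ∀ x y : Cfsg.isometryGroup F ⇑Q, (((x * y : Cfsg.isometryGroup F ⇑Q) :
      Matrix.GeneralLinearGroup ι F) : Matrix ι ι F).det =
      ((x : Matrix.GeneralLinearGroup ι F) : Matrix ι ι F).det *
      ((y : Matrix.GeneralLinearGroup ι F) : Matrix ι ι F).det := fun x y => by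
    rw [← Matrix.det_mul]; rfl
  have hdet : ((g : Matrix.GeneralLinearGroup ι F) : Matrix ι ι F).det = 1 ∨
      ((g : Matrix.GeneralLinearGroup ι F) : Matrix ι ι F).det = -1 := by
    refine Cfsg.Agent.ClassicalGeometry.CartanDieudonne.isometry_induction h2 Q hQ
      (fun g => ((g : Matrix.GeneralLinearGroup ι F) : Matrix ι ι F).det = 1 ∨
        ((g : Matrix.GeneralLinearGroup ι F) : Matrix ι ι F).det = -1) (Or.inl ?_) ?_ g
    · change ((1 : Matrix ι ι F)).det = 1
      exact Matrix.det_one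
    · intro v hv g hg
      rw [hcoe, det_reflIso]
      rcases hg with hg | hg
      · right; rw [hg, mul_one]
      · left; rw [hg]; ring
  -- make the determinant one
  have h1 : ∃ s ∈ K, (((g * s : Cfsg.isometryGroup F ⇑Q) : Matrix.GeneralLinearGroup ι F) :
      Matrix ι ι F).det = 1 := by
    rcases hdet with h | h
    · exact ⟨1, K.one_mem, by rw [mul_one]; exact h⟩
    · exact ⟨a, ha, by rw [hcoe, h, hda]; ring⟩
  obtain ⟨s, hs, hgs⟩ := h1
  rcases Int.units_eq_one_or (spinorSign ⇑Q (1 : F) (g * s)) with h | h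
  · refine ⟨s, hs, ?_⟩
    rw [mem_Omega_iff h2 Q hQ hn one_ne_zero]
    exact ⟨hgs, h⟩
  · refine ⟨s * b, K.mul_mem hs hb, ?_⟩
    rw [← mul_assoc, mem_Omega_iff h2 Q hQ hn one_ne_zero, hcoe, hgs, hdb, map_mul, h, hsb]
    exact ⟨by ring, by decide⟩

/-- The product of two reflections: determinant and spinor sign. -/
theorem det_refl_mul_refl (Q : QuadraticForm F (ι → F)) (u v : ι → F) (hu : Q u ≠ 0)
    (hv : Q v ≠ 0) : (((reflIso Q u hu * reflIso Q v hv : Cfsg.isometryGroup F ⇑Q) :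
      Matrix.GeneralLinearGroup ι F) : Matrix ι ι F).det = 1 := by
  have : (((reflIso Q u hu * reflIso Q v hv : Cfsg.isometryGroup F ⇑Q) :
      Matrix.GeneralLinearGroup ι F) : Matrix ι ι F) =
      ((reflIso Q u hu : Matrix.GeneralLinearGroup ι F) : Matrix ι ι F) *
      ((reflIso Q v hv : Matrix.GeneralLinearGroup ι F) : Matrix ι ι F) := rfl
  rw [this, Matrix.det_mul, det_reflIso, det_reflIso]; ring

theorem spinorSign_refl_mul_refl [Finite F] (h2 : (2 : F) ≠ 0) (Q : QuadraticForm F (ι → F))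
    (u v : ι → F) (hu : Q u ≠ 0) (hv : Q v ≠ 0) (huv : ¬ IsSquare (Q u * Q v)) :
    spinorSign ⇑Q (1 : F) (reflIso Q u hu * reflIso Q v hv) = -1 := by
  classical
  have := Fintype.ofFinite F
  have hχ : Cfsg.Agent.S2609.chi (Q u * Q v) = -1 := by
    rcases Int.units_eq_one_or (Cfsg.Agent.S2609.chi (Q u * Q v)) with h | h
    · exact absurd ((Cfsg.Agent.S2609.chi_eq_one_iff _).mp h) huv
    · exact h
  obtain ⟨g, hg, -, hs, -⟩ := Cfsg.Agent.S2609.exists_prod h2 Q [u, v] (by
    intro w hw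
    rcases List.mem_pair.mp hw with rfl | rfl
    · exact hu
    · exact hv)
  have hgg : reflIso Q u hu * reflIso Q v hv = g := by
    apply Subtype.ext
    apply Units.ext
    rw [hg]
    simp only [List.map_cons, List.map_nil, List.prod_cons, List.prod_nil, mul_one]
    rw [← coe_reflIso Q u hu, ← coe_reflIso Q v hv]; rfl
  rw [hgg, hs]
  simp only [List.length_cons, List.length_nil, List.map_cons, List.map_nil, List.prod_cons,
    List.prod_nil, mul_one]
  rw [hχ]
  decide

/-- A subgroup containing reflections in two vectors whose norms are in different square classes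
covers `O / Ω` (odd characteristic). -/
theorem adjust_odd_refl [Finite F] (Q : QuadraticForm F (ι → F)) (h2 : (2 : F) ≠ 0)
    (hQ : (polarBilin Q).Nondegenerate) (hn : 2 ≤ Fintype.card ι)
    (K : Subgroup (Cfsg.isometryGroup F ⇑Q)) (u v : ι → F) (hu : Q u ≠ 0) (hv : Q v ≠ 0)
    (huv : ¬ IsSquare (Q u * Q v)) (huK : reflIso Q u hu ∈ K) (hvK : reflIso Q v hv ∈ K)
    (g : Cfsg.isometryGroup F ⇑Q) : ∃ s ∈ K, g * s ∈ Cfsg.Omega F ⇑Q :=
  adjust_odd Q h2 hQ hn K (reflIso Q u hu) (reflIso Q u hu * reflIso Q v hv) huK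
    (K.mul_mem huK hvK) (det_reflIso Q u hu) (det_refl_mul_refl Q u v hu hv)
    (spinorSign_refl_mul_refl h2 Q u v hu hv huv) g

/-- The stabiliser of a subspace. -/
def stab (Q : QuadraticForm F (ι → F)) (U : Submodule F (ι → F)) :
    Subgroup (Cfsg.isometryGroup F ⇑Q) where
  carrier := {s | U.map (Matrix.mulVecLin ((s : Matrix.GeneralLinearGroup ι F) :
    Matrix ι ι F)) = U}
  one_mem' := by
    change U.map (Matrix.mulVecLin (1 : Matrix ι ι F)) = U
    rw [Matrix.mulVecLin_one, Submodule.map_id]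
  mul_mem' := by
    intro s t hs ht
    change U.map (Matrix.mulVecLin (((s : Matrix.GeneralLinearGroup ι F) : Matrix ι ι F) *
      ((t : Matrix.GeneralLinearGroup ι F) : Matrix ι ι F))) = U
    rw [Matrix.mulVecLin_mul, Submodule.map_comp]
    change (U.map (Matrix.mulVecLin ((t : Matrix.GeneralLinearGroup ι F) : Matrix ι ι F))).map
      (Matrix.mulVecLin ((s : Matrix.GeneralLinearGroup ι F) : Matrix ι ι F)) = U
    have ht' : U.map (Matrix.mulVecLin ((t : Matrix.GeneralLinearGroup ι F) : Matrix ι ι F)) = U :=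
      ht
    have hs' : U.map (Matrix.mulVecLin ((s : Matrix.GeneralLinearGroup ι F) : Matrix ι ι F)) = U :=
      hs
    rw [ht', hs']
  inv_mem' := by
    intro s hs
    have hs' : U.map (Matrix.mulVecLin ((s : Matrix.GeneralLinearGroup ι F) : Matrix ι ι F)) = U :=
      hs
    have h1 : (((s⁻¹ : Cfsg.isometryGroup F ⇑Q) : Matrix.GeneralLinearGroup ι F) :
        Matrix ι ι F) * ((s : Matrix.GeneralLinearGroup ι F) : Matrix ι ι F) = 1 :=
      (s : Matrix.GeneralLinearGroup ι F).inv_mul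
    change U.map (Matrix.mulVecLin (((s⁻¹ : Cfsg.isometryGroup F ⇑Q) :
      Matrix.GeneralLinearGroup ι F) : Matrix ι ι F)) = U
    conv_lhs => rw [← hs']
    rw [← Submodule.map_comp, ← Matrix.mulVecLin_mul, h1, Matrix.mulVecLin_one, Submodule.map_id]

theorem mem_stab (Q : QuadraticForm F (ι → F)) (U : Submodule F (ι → F))
    (s : Cfsg.isometryGroup F ⇑Q) : s ∈ stab Q U ↔
      U.map (Matrix.mulVecLin ((s : Matrix.GeneralLinearGroup ι F) : Matrix ι ι F)) = U := Iff.rfl

/-- It is enough to map `U` into `U`. -/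
theorem mem_stab_of_le (Q : QuadraticForm F (ι → F)) (U : Submodule F (ι → F))
    (s : Cfsg.isometryGroup F ⇑Q)
    (h : ∀ u ∈ U, ((s : Matrix.GeneralLinearGroup ι F) : Matrix ι ι F) *ᵥ u ∈ U) :
    s ∈ stab Q U := by
  rw [mem_stab]
  apply Submodule.eq_of_le_of_finrank_eq
  · rintro _ ⟨u, hu, rfl⟩
    exact h u hu
  · exact (LinearEquiv.finrank_eq (Submodule.equivMapOfInjective
      (Matrix.mulVecLin ((s : Matrix.GeneralLinearGroup ι F) : Matrix ι ι F))
      (Matrix.mulVec_injective_iff_isUnit.mpr (s : Matrix.GeneralLinearGroup ι F).isUnit) U)).symm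

theorem refl_mem_stab_of_mem (Q : QuadraticForm F (ι → F)) (U : Submodule F (ι → F)) (v : ι → F)
    (hv : Q v ≠ 0) (hvU : v ∈ U) : reflIso Q v hv ∈ stab Q U := by
  apply mem_stab_of_le
  intro u hu
  rw [coe_reflIso, reflectionMatrix_mulVec]
  exact U.sub_mem hu (U.smul_mem _ hvU)

theorem refl_mem_stab_of_perp (Q : QuadraticForm F (ι → F)) (U : Submodule F (ι → F)) (v : ι → F)
    (hv : Q v ≠ 0) (hvU : ∀ u ∈ U, polar ⇑Q v u = 0) : reflIso Q v hv ∈ stab Q U := by
  apply mem_stab_of_le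
  intro u hu
  rw [coe_reflIso, reflectionMatrix_mulVec_of_polar_eq_zero Q v u (hvU u hu)]
  exact hu

/-- If the stabiliser of `U` covers `O / Ω` and some isometry maps `U` to `W`, then some element of
`Ω` does. -/
theorem exists_omega_map (Q : QuadraticForm F (ι → F)) (U W : Submodule F (ι → F))
    (hK : ∀ g : Cfsg.isometryGroup F ⇑Q, ∃ s ∈ stab Q U, g * s ∈ Cfsg.Omega F ⇑Q)
    (g : (ι → F) ≃ₗ[F] (ι → F)) (hg : ∀ v, Q (g v) = Q v) (hgU : U.map g.toLinearMap = W) :
    ∃ g : ↥(Cfsg.isometryGroup F ⇑Q), g ∈ Cfsg.Omega F ⇑Q ∧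
      U.map (Matrix.mulVecLin ((g : Matrix.GeneralLinearGroup ι F) : Matrix ι ι F)) = W := by
  obtain ⟨s, hs, hgs⟩ := hK (toIso Q g hg)
  refine ⟨_, hgs, ?_⟩
  rw [mem_stab] at hs
  change U.map (Matrix.mulVecLin (((toIso Q g hg : Matrix.GeneralLinearGroup ι F) :
    Matrix ι ι F) * ((s : Matrix.GeneralLinearGroup ι F) : Matrix ι ι F))) = W
  rw [Matrix.mulVecLin_mul, Submodule.map_comp, hs, ← hgU]
  congr 1
  exact LinearMap.ext fun v => toIso_mulVec Q g hg v

/-- A non-zero subspace on which the polar form is non-degenerate has a non-singular vector. -/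
theorem exists_nonsing (Q : QuadraticForm F (ι → F)) (X : Submodule F (ι → F)) (hX : X ≠ ⊥)
    (hnd : ∀ x ∈ X, (∀ y ∈ X, polar ⇑Q x y = 0) → x = 0) : ∃ v ∈ X, Q v ≠ 0 := by
  by_contra hcon
  push Not at hcon
  obtain ⟨x, hx, hx0⟩ := (Submodule.ne_bot_iff X).mp hX
  apply hx0
  apply hnd x hx
  intro y hy
  rw [polar, hcon _ (X.add_mem hx hy), hcon _ hx, hcon _ hy]; simp

/-- A subspace of dimension at least two on which the polar form is non-degenerate: every non-zero
value is taken (odd characteristic, finite field). -/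
theorem exists_value [Finite F] (h2 : (2 : F) ≠ 0) (Q : QuadraticForm F (ι → F))
    (X : Submodule F (ι → F)) (hX : 2 ≤ finrank F X)
    (hnd : ∀ x ∈ X, (∀ y ∈ X, polar ⇑Q x y = 0) → x = 0) (c : F) : ∃ v ∈ X, Q v = c := by
  let B : LinearMap.BilinForm F X := (polarBilin Q).domRestrict₁₂ X X
  have hB : ∀ x y : X, B x y = polar ⇑Q x y := fun x y => rfl
  have hsymm : LinearMap.BilinForm.IsSymm B := ⟨fun x y => by
    change B x y = B y x
    rw [hB, hB]
    exact polar_comm _ _ _⟩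
  have hBn : B.Nondegenerate := by
    constructor
    · intro x hx
      apply Subtype.ext
      apply hnd x x.2
      intro y hy
      exact hx ⟨y, hy⟩
    · intro x hx
      apply Subtype.ext
      apply hnd x x.2
      intro y hy
      rw [polar_comm]
      exact hx ⟨y, hy⟩
  obtain ⟨x, hx⟩ := Cfsg.Agent.ClassicalGeometry.Discriminant.exists_value h2 B hsymm hBn hX (2 * c)
  refine ⟨x, x.2, ?_⟩
  rw [hB, polar_self'] at hx
  exact mul_left_cancel₀ h2 hx

end Cfsg.Agent.H175.OmegaAdjust
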